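import Cfsg.Agent.SpecFive.Odd
import Cfsg.Agent.FGSB.EPPO
import Cfsg.Prelude.Def_Involutions
import Cfsg.Agent.Invol.Dihedral

/-!
Groups with element orders at most five having a normal two-subgroup `U` containing all
normal two-subgroups.
-/

set_option autoImplicit false
set_option linter.unusedSectionVars false
set_option linter.unusedFintypeInType false

namespace CfsgLib.SpecFive

open Subgroup
open scoped commutatorElement

variable {G : Type*} [Group G] [Finite G]

instance fact_two : Fact (Nat.Prime 2) := ⟨Nat.prime_two⟩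
instance fact_five' : Fact (Nat.Prime 5) := ⟨Nat.prime_five⟩
instance fact_three' : Fact (Nat.Prime 3) := ⟨Nat.prime_three⟩

theorem mem_three_or_five {p : ℕ} (h : p = 3 ∨ p = 5) : p.Prime := by
  rcases h with rfl | rfl <;> norm_num

/-- In a group with element orders at most five the centralizer of an odd prime element is a `p`-group;
here: a normal subgroup of order `p` with self-centralizing. -/
theorem Small.card_dvd_of_prime_normal (h : Small G) {p : ℕ} [Fact p.Prime] (A : Subgroup G) [A.Normal]
    (hA : Nat.card A = p) (hp : ∀ P : Subgroup G, IsPGroup p P → Nat.card P ∣ p) :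
    Nat.card G ∣ p * (p - 1) ∧ ∀ B : Subgroup G, B ⊓ A = ⊥ → IsCyclic B := by
  classical
  have hp' : p.Prime := Fact.out
  haveI : IsCyclic A := isCyclic_of_prime_card hA
  obtain ⟨x, hx⟩ := exists_prime_orderOf_dvd_card' (G := A) p (dvd_of_eq hA.symm)
  let φ := MulAut.conjNormal (H := A) (G := G)
  have hker : φ.ker ≤ A := by
    have hc : ∀ y ∈ φ.ker, Commute (x : G) y := fun y hy => by
      have e := congrArg Subtype.val (DFunLike.congr_fun (MonoidHom.mem_ker.1 hy) x)
      rw [MulAut.conjNormal_apply] at e
      exact (mul_inv_eq_iff_eq_mul.1 e).symm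
    have hk := h.isPGroup_of_centralizes hp' (x := (x : G)) (by rwa [Subgroup.orderOf_coe]) hc
    have hAk : A ≤ φ.ker := fun a ha => MonoidHom.mem_ker.2 (MulEquiv.ext fun b => Subtype.ext (by
      rw [MulAut.conjNormal_apply]
      haveI : IsMulCommutative A := ⟨⟨fun u v => by
        obtain ⟨g, hg⟩ := IsCyclic.exists_generator (α := A)
        obtain ⟨i, rfl⟩ := hg u
        obtain ⟨j, rfl⟩ := hg v
        exact (Commute.zpow_zpow_self g i j).eq⟩⟩
      have := congrArg Subtype.val ((IsMulCommutative.is_comm (M := A)).comm ⟨a, ha⟩ b)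
      simp only [Subgroup.coe_mul] at this
      rw [this]; simp))
    refine (eq_of_le_of_card_ge hAk ?_).ge
    rw [hA]
    exact Nat.le_of_dvd hp'.pos (hp _ hk)
  haveI : IsCyclic (ZMod p)ˣ := inferInstance
  let ι : MulAut A ≃* (ZMod (Nat.card A))ˣ := IsCyclic.mulAutMulEquiv A
  have hcy : IsCyclic (MulAut A) := by
    haveI : Fact (Nat.card A).Prime := ⟨hA ▸ hp'⟩
    exact isCyclic_of_surjective ι.symm.toMonoidHom ι.symm.surjective
  have hcard : Nat.card (MulAut A) = p - 1 := by
    rw [Nat.card_congr ι.toEquiv, Nat.card_eq_fintype_card (α := (ZMod (Nat.card A))ˣ), ZMod.card_units_eq_totient,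
      hA, Nat.totient_prime hp']
  constructor
  · rw [card_eq_card_quotient_mul_card_subgroup φ.ker, mul_comm]
    refine Nat.mul_dvd_mul ((card_dvd_of_le hker).trans (dvd_of_eq hA)) ?_
    rw [Nat.card_congr (QuotientGroup.quotientKerEquivRange φ).toEquiv, ← hcard]
    exact card_subgroup_dvd_card _
  · intro B hB
    have hinj : Function.Injective (φ.comp B.subtype) := by
      rw [injective_iff_map_eq_one]
      intro b hb
      have : (b : G) ∈ B ⊓ A := ⟨b.2, hker (MonoidHom.mem_ker.2 hb)⟩
      rw [hB, mem_bot] at this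
      exact Subtype.ext this
    exact isCyclic_of_injective _ hinj

/-- A solvable nontrivial group has a normal elementary abelian subgroup. -/
theorem exists_normal_prime_exp [Group.IsSolvable G] [Nontrivial G] :
    ∃ (r : ℕ) (A : Subgroup G), r.Prime ∧ A.Normal ∧ A ≠ ⊥ ∧ IsPGroup r A := by
  classical
  have hsol : ∃ n, derivedSeries G n = ⊥ := (Group.isSolvable_def (G := G)).1 inferInstance
  have hn := Nat.find_spec hsol
  have hn0 : Nat.find hsol ≠ 0 := fun e => by
    rw [e, derivedSeries_zero] at hn
    exact top_ne_bot hn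
  obtain ⟨m, hm⟩ := Nat.exists_eq_succ_of_ne_zero hn0
  have hD : derivedSeries G m ≠ ⊥ := Nat.find_min hsol (by omega)
  set D := derivedSeries G m
  have hDc : ∀ a ∈ D, ∀ b ∈ D, Commute a b := fun a ha b hb => by
    have h1 : ⁅a, b⁆ ∈ derivedSeries G (m + 1) := by
      rw [derivedSeries_succ]; exact commutator_mem_commutator ha hb
    rw [← Nat.succ_eq_add_one, ← hm, hn, mem_bot] at h1
    exact commutatorElement_eq_one_iff_mul_comm.1 h1
  obtain ⟨r, hr, hrd⟩ := Nat.exists_prime_and_dvd (fun e => hD (card_eq_one.1 e))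
  haveI := Fact.mk hr
  obtain ⟨x, hx⟩ := exists_prime_orderOf_dvd_card' (G := D) r hrd
  haveI : D.Normal := derivedSeries_normal G m
  let A : Subgroup G :=
    { carrier := {a | a ∈ D ∧ a ^ r = 1}
      mul_mem' := fun {a b} ha hb => ⟨mul_mem ha.1 hb.1, by rw [(hDc a ha.1 b hb.1).mul_pow, ha.2, hb.2, one_mul]⟩
      one_mem' := ⟨one_mem _, one_pow _⟩
      inv_mem' := fun {a} ha => ⟨inv_mem ha.1, by rw [inv_pow, ha.2, inv_one]⟩ }
  refine ⟨r, A, hr, ⟨fun a ha g => ⟨‹D.Normal›.conj_mem a ha.1 g, by rw [conj_pow, ha.2]; simp⟩⟩, ?_,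
    fun a => ⟨1, Subtype.ext (by rw [pow_one, Subgroup.coe_pow]; exact a.2.2)⟩⟩
  intro e
  have : (x : G) ∈ A := ⟨x.2, by rw [← Subgroup.coe_pow, ← hx, pow_orderOf_eq_one]; rfl⟩
  rw [e, mem_bot] at this
  rw [show x = 1 from Subtype.ext this, orderOf_one] at hx
  exact hr.ne_one hx.symm

theorem two_mem_sylow {S : Subgroup G} (hS : IsPGroup 2 S) : ∃ n, Nat.card S = 2 ^ n ∧ 2 ^ n ∣ Nat.card G := by
  obtain ⟨n, hn⟩ := hS.exists_card_eq
  exact ⟨n, hn, hn ▸ card_subgroup_dvd_card S⟩

/-- The possible orders of a group with element orders at most five, without normal two-subgroups,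
whose odd prime power subgroups have prime order. -/
theorem Small.shape (h : Small G) (h2 : ∀ N : Subgroup G, N.Normal → IsPGroup 2 N → N = ⊥)
    (hodd : ∀ p, (p = 3 ∨ p = 5) → ∀ P : Subgroup G, IsPGroup p P → Nat.card P ∣ p)
    (hsimple : ∀ M : Subgroup G, IsSimpleGroup M → ¬ IsMulCommutative M → Nat.card M = 60 ∨ Nat.card M = 360) :
    Nat.card G = 1 ∨ Nat.card G ∣ 6 ∨
      (Nat.card G ∣ 20 ∧ ∀ B : Subgroup G, IsPGroup 2 B → IsCyclic B) ∨
      (Nat.card G = 60 ∧ IsSimpleGroup G) := by
  classical
  by_cases hG : Nat.card G = 1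
  · exact Or.inl hG
  haveI : Nontrivial G := Finite.one_lt_card_iff_nontrivial.1 (by have := Nat.card_pos (α := G); omega)
  right
  have hfac : ∀ p, (p = 3 ∨ p = 5) → ∀ j, p ^ j ∣ Nat.card G → j ≤ 1 := by
    intro p hp j hj
    haveI := Fact.mk (mem_three_or_five hp)
    obtain ⟨P, hP⟩ := Sylow.exists_subgroup_card_pow_prime p hj
    have := hodd p hp P (IsPGroup.of_card hP)
    rw [hP] at this
    have h2p : 2 ≤ p := by omega
    by_contra hj1
    have : p ^ 2 ≤ p := le_trans (Nat.pow_le_pow_right (by omega) (by omega)) (Nat.le_of_dvd (by omega) this)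
    nlinarith
  by_cases hs : Group.IsSolvable G
  · obtain ⟨r, A, hr, hAn, hA1, hAr⟩ := exists_normal_prime_exp (G := G)
    haveI := hAn
    haveI := Fact.mk hr
    obtain ⟨n, hn⟩ := hAr.exists_card_eq
    have hn0 : n ≠ 0 := fun e => hA1 (card_eq_one.1 (by rw [hn, e, pow_zero]))
    have hr35 : r = 3 ∨ r = 5 := by
      rcases h.prime_cases hr ((dvd_pow_self r hn0).trans (hn ▸ card_subgroup_dvd_card A)) with e | e
      · subst e; exact absurd (h2 A hAn hAr) hA1
      · exact e
    have hAc : Nat.card A = r := by
      rcases (Nat.dvd_prime hr).1 (hodd r hr35 A hAr) with e | e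
      · exact absurd (card_eq_one.1 e) hA1
      · exact e
    obtain ⟨hd, hc⟩ := h.card_dvd_of_prime_normal A hAc (hodd r hr35)
    rcases hr35 with rfl | rfl
    · exact Or.inl hd
    · refine Or.inr (Or.inl ⟨hd, fun B hB => hc B ?_⟩)
      refine inf_eq_bot_of_coprime ?_
      obtain ⟨m, hm⟩ := hB.exists_card_eq
      rw [hm, hAc]
      exact Nat.Coprime.pow_left m (by norm_num)
  · refine Or.inr (Or.inr ?_)
    obtain ⟨M, hMn, hMs, hMc, hmin⟩ := CfsgLib.EPPO.simple_socle (G := G)
      (fun g => by
        by_cases hg : g = 1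
        · exact Or.inr hg
        · exact Or.inl (h.isPrimePow hg))
      (fun N hN hNs => by
        by_contra hN1
        haveI := hN
        haveI := hNs
        haveI : Nontrivial N := (nontrivial_iff_ne_bot N).2 hN1
        obtain ⟨r, A, hr, hAn, hA1, hAr⟩ := exists_normal_prime_exp (G := N)
        haveI := Fact.mk hr
        -- the Sylow subgroups of the solvable radical give a normal subgroup of prime order
        let B : Subgroup G := ⨆ g : G, ((A.map N.subtype).map (MulAut.conj g).toMonoidHom)
        have hBN : ∀ g : G, (A.map N.subtype).map (MulAut.conj g).toMonoidHom ≤ N := fun g => by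
          rintro _ ⟨x, hx, rfl⟩
          exact hN.conj_mem _ (map_subtype_le _ hx) g
        have hAnn : ∀ g : G, N ≤ normalizer (((A.map N.subtype).map (MulAut.conj g).toMonoidHom : Subgroup G) : Set G) := by
          intro g
          have h1 : N ≤ normalizer ((A.map N.subtype : Subgroup G) : Set G) :=
            (normal_subgroupOf_iff_le_normalizer (map_subtype_le _)).1 (by rw [subgroupOf, comap_map_eq_self_of_injective N.subtype_injective]; exact hAn)
          intro x hx
          have := Subgroup.le_normalizer_map (MulAut.conj g).toMonoidHom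
            (mem_map_of_mem (MulAut.conj g).toMonoidHom (h1 (by simpa using hN.conj_mem x hx g⁻¹)))
          simpa [mul_assoc] using this
        obtain ⟨S⟩ : Nonempty (Sylow r N) := inferInstance
        have hBS : B ≤ (S : Subgroup N).map N.subtype := iSup_le fun g => by
          haveI : ((((A.map N.subtype).map (MulAut.conj g).toMonoidHom)).subgroupOf N).Normal :=
            (normal_subgroupOf_iff_le_normalizer (hBN g)).2 (hAnn g)
          rw [← map_subgroupOf_eq_of_le (hBN g)]
          exact map_mono ((((hAr.map _).map _).of_equiv (subgroupOfEquivOfLe (hBN g)).symm).le_sylow_of_normal S)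
        have hBr : IsPGroup r B := (S.2.map N.subtype).to_le hBS
        have hBn : B.Normal := ⟨fun y hy z => by
          have h' : B.map (MulAut.conj z).toMonoidHom ≤ B := by
            rw [Subgroup.map_iSup]
            refine iSup_le fun x => le_trans ?_ (le_iSup _ (z * x))
            rintro _ ⟨_, ⟨w, hw, rfl⟩, rfl⟩
            exact ⟨w, hw, by simp [mul_assoc]⟩
          exact h' ⟨y, hy, rfl⟩⟩
        have hB1 : B ≠ ⊥ := fun e => by
          apply hA1
          rw [← map_eq_bot_iff_of_injective _ N.subtype_injective, eq_bot_iff, ← e]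
          exact le_trans (fun w hw => mem_map.2 ⟨w, hw, by simp⟩) (le_iSup (fun g : G => (A.map N.subtype).map (MulAut.conj g).toMonoidHom) 1)
        haveI := hBn
        obtain ⟨n, hn⟩ := hBr.exists_card_eq
        have hn0 : n ≠ 0 := fun e => hB1 (card_eq_one.1 (by rw [hn, e, pow_zero]))
        have hr35 : r = 3 ∨ r = 5 := by
          rcases h.prime_cases hr ((dvd_pow_self r hn0).trans (hn ▸ card_subgroup_dvd_card B)) with e | e
          · subst e; exact absurd (h2 B hBn hBr) hB1
          · exact e
        have hBc : Nat.card B = r := by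
          rcases (Nat.dvd_prime hr).1 (hodd r hr35 B hBr) with e | e
          · exact absurd (card_eq_one.1 e) hB1
          · exact e
        have hd := (h.card_dvd_of_prime_normal B hBc (hodd r hr35)).1
        obtain ⟨p', hp', hpd, hpne, hp2⟩ := CfsgLib.EPPO.exists_third_prime hs r 2
        have := hp'.dvd_mul.1 (hpd.trans hd)
        rcases this with e | e
        · exact hpne ((Nat.prime_dvd_prime_iff_eq hp' hr).1 e)
        · have := Nat.le_of_dvd (by omega) e
          rcases hr35 with rfl | rfl <;>
            rcases h.prime_cases hp' hpd with e' | e' | e' <;> subst e' <;> omega)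
    haveI := hMn
    haveI := hMs
    have hM : Nat.card M = 60 := by
      rcases hsimple M hMs hMc with e | e
      · exact e
      · have : (3 : ℕ) ^ 2 ∣ Nat.card G := (show (3 : ℕ) ^ 2 ∣ 360 by norm_num).trans (e ▸ card_subgroup_dvd_card M)
        exact absurd (hfac 3 (Or.inl rfl) 2 this) (by norm_num)
    obtain ⟨P⟩ : Nonempty (Sylow 3 G) := inferInstance
    obtain ⟨x, hx⟩ := exists_prime_orderOf_dvd_card' (G := M) 3 (by rw [hM]; norm_num)
    have hPc : Nat.card (P : Subgroup G) = 3 := by
      rcases (Nat.dvd_prime Nat.prime_three).1 (hodd 3 (Or.inl rfl) P P.2) with e | e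
      · exfalso
        have h3 : (3 : ℕ) ^ 1 ∣ Nat.card G := by
          rw [pow_one]; exact (show (3 : ℕ) ∣ 60 by norm_num).trans (hM ▸ card_subgroup_dvd_card M)
        have := P.pow_dvd_card_of_pow_dvd_card h3
        rw [e] at this; norm_num at this
      · exact e
    have hPM : (P : Subgroup G) ≤ M := by
      have hxz : IsPGroup 3 (zpowers (x : G)) := IsPGroup.of_card (n := 1) (by
        rw [Nat.card_zpowers, Subgroup.orderOf_coe, hx, pow_one])
      obtain ⟨Q, hQ⟩ := hxz.exists_le_sylow
      have hQe : zpowers (x : G) = (Q : Subgroup G) := eq_of_le_of_card_ge hQ (by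
        rw [Nat.card_zpowers, Subgroup.orderOf_coe, hx]
        exact Nat.le_of_dvd (by norm_num) (hodd 3 (Or.inl rfl) Q Q.2))
      obtain ⟨g, hg⟩ := MulAction.exists_smul_eq G Q P
      rw [← hg, Sylow.coe_subgroup_smul]
      rintro _ ⟨y, hy, rfl⟩
      have hy' : y ∈ M := (zpowers_le.2 x.2) (hQe ▸ hy)
      exact hMn.conj_mem y hy' g
    -- the normalizer of a Sylow three-subgroup has order at most six
    let NP := normalizer ((P : Subgroup G) : Set G)
    have hN6 : Nat.card NP ∣ 6 := by
      haveI : ((P : Subgroup G).subgroupOf NP).Normal := normal_in_normalizer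
      exact ((h.subgroup NP).card_dvd_of_prime_normal (p := 3) ((P : Subgroup G).subgroupOf NP)
        (by rw [Nat.card_congr (subgroupOfEquivOfLe le_normalizer).toEquiv, hPc])
        (fun Q hQ => by
          rw [Nat.card_congr (Q.equivMapOfInjective NP.subtype NP.subtype_injective).toEquiv]
          exact hodd 3 (Or.inl rfl) _ (hQ.map _))).1
    have hcov : Nat.card G ≤ 60 := by
      let S : Sylow 3 M := P.subtype hPM
      have hSc : (S : Subgroup M) = (P : Subgroup G).subgroupOf M := Sylow.coe_subtype P hPM
      have hS3 : Nat.card (S : Subgroup M) = 3 := by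
        rw [hSc, Nat.card_congr (subgroupOfEquivOfLe hPM).toEquiv, hPc]
      have hmod := card_sylow_modEq_one 3 M
      rw [S.card_eq_index_normalizer] at hmod
      have hd3 : (normalizer ((S : Subgroup M) : Set M)).index ∣ 20 := by
        have := S.card_dvd_index
        rwa [S.card_eq_index_normalizer, show (S : Subgroup M).index = 20 by
          have := card_mul_index (S : Subgroup M); rw [hS3, hM] at this; omega] at this
      have hi10 : (normalizer ((S : Subgroup M) : Set M)).index ≤ 10 := by
        have := Nat.le_of_dvd (by norm_num) hd3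
        rcases Nat.lt_or_ge 10 (normalizer ((S : Subgroup M) : Set M)).index with hgt | hle
        · exfalso
          interval_cases hi : (normalizer ((S : Subgroup M) : Set M)).index <;>
            first
              | exact absurd hd3 (by decide)
              | exact absurd hmod (by decide)
        · exact hle
      have hmap : (normalizer ((S : Subgroup M) : Set M)).map M.subtype ≤ NP := by
        refine (Subgroup.le_normalizer_map M.subtype).trans (le_of_eq ?_)
        rw [hSc, map_subgroupOf_eq_of_le hPM]
      have h6 : 6 ≤ Nat.card ((normalizer ((S : Subgroup M) : Set M)).map M.subtype) := by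
        rw [← Nat.card_congr ((normalizer ((S : Subgroup M) : Set M)).equivMapOfInjective M.subtype M.subtype_injective).toEquiv]
        have e := card_mul_index (normalizer ((S : Subgroup M) : Set M))
        rw [hM] at e
        by_contra hlt
        have hle5 : Nat.card (normalizer ((S : Subgroup M) : Set M)) ≤ 5 := by omega
        have := Nat.mul_le_mul hle5 hi10
        omega
      have hNM : NP ≤ M := by
        rw [← eq_of_le_of_card_ge hmap ((Nat.le_of_dvd (by norm_num) hN6).trans h6)]
        exact map_subtype_le _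
      have htop := S.normalizer_sup_eq_top
      rw [hSc, map_subgroupOf_eq_of_le hPM, sup_eq_right.2 hNM] at htop
      rw [htop, card_top] at hM
      exact hM.le
    have hMt : M = ⊤ := eq_top_of_le_card M (hcov.trans hM.ge)
    refine ⟨le_antisymm hcov (hM ▸ Nat.le_of_dvd Nat.card_pos (card_subgroup_dvd_card M)), ?_⟩
    exact (MulEquiv.subgroupCongr hMt |>.trans Subgroup.topEquiv).isSimpleGroup_congr.1 hMs

end CfsgLib.SpecFive
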