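import Cfsg.Agent.SpecFive.PairCount
import Cfsg.Agent.Dickson.OrderSixty
import Cfsg.Agent.InvChar.ThreeSixty
import Cfsg.Agent.Comp.Basic

/-!
Groups whose element orders are exactly `1, …, 5`.
-/

set_option autoImplicit false
set_option linter.unusedSectionVars false
set_option linter.unusedFintypeInType false

namespace CfsgLib.SpecFive

open Subgroup

universe u

/-- The orders of simple groups with element orders at most five. -/
theorem simple_cases : ∀ (n : ℕ) (G : Type u) [Group G] [Finite G], Nat.card G = n → IsSimpleGroup G →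
    ¬ IsMulCommutative G → Small G →
      Nat.card G = 60 ∨ (Nat.card G = 360 ∧ ∃ T U A : Subgroup G, Pair T U A 2) := by
  intro n
  induction n using Nat.strong_induction_on with
  | _ n ih =>
    intro G _ _ hn hG hnc hs
    haveI := hG
    have hb : Below G := by
      intro L N _ M hlt hM hMc
      rcases ih _ (hn ▸ hlt) M rfl hM hMc (((hs.subgroup L).quotient N).subgroup M) with e | ⟨e, -⟩
      · exact Or.inl e
      · exact Or.inr e
    by_cases hno : NoOff G
    · exact Or.inl (card_of_noOff hnc hs hb hno)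
    · refine Or.inr ?_
      unfold NoOff at hno
      push Not at hno
      obtain ⟨U, S, A, hU, h1, h2, h3, h4, h5⟩ := hno
      obtain ⟨T, q, hP⟩ := pair_of_offender hs hb hU h1 h2 h3 h4 h5
      have h360 := card_of_pair hnc hs hP
      refine ⟨h360, T, U, A, ?_⟩
      rcases hP.q_eq with rfl | rfl
      · exact hP
      · exfalso
        have := card_subgroup_dvd_card T
        rw [hP.card_T, h360] at this
        norm_num at this

variable {G : Type u} [Group G] [Finite G]

theorem simple_card (hG : IsSimpleGroup G) (hnc : ¬ IsMulCommutative G) (hs : Small G) :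
    Nat.card G = 60 ∨ Nat.card G = 360 := by
  rcases simple_cases _ G rfl hG hnc hs with e | ⟨e, -⟩
  · exact Or.inl e
  · exact Or.inr e

theorem radical_of_max (hs : Small G) (R : Subgroup G) [R.Normal] (hR : IsPGroup 2 R) (hR1 : R ≠ ⊥)
    (hmax : ∀ N : Subgroup G, N.Normal → IsPGroup 2 N → N ≤ R) : Radical G R where
  small := hs
  normal := inferInstance
  two := hR
  ne_bot := hR1
  max := hmax
  simples := fun {_} M hM hMc => simple_card hM hMc ((hs.quotient R).subgroup M)

/-- Frattini argument: a prime not dividing the normalizer of a Sylow subgroup. -/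
theorem dvd_card_of_normalizer {M : Subgroup G} [M.Normal] {p s : ℕ} [Fact p.Prime] (hsp : s.Prime) (P : Sylow p M)
    (hno : ¬ s ∣ Nat.card (normalizer (((P : Subgroup M).map M.subtype : Subgroup G) : Set G))) {e : ℕ}
    (he : s ^ e ∣ Nat.card G) : s ^ e ∣ Nat.card M := by
  set N := normalizer (((P : Subgroup M).map M.subtype : Subgroup G) : Set G) with hN
  have htop : N ⊔ M = ⊤ := P.normalizer_sup_eq_top
  have h := card_sup_mul (U := M) (A := N) (by rw [normalizer_eq_top]; exact le_top)
  rw [sup_comm, htop, card_top] at h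
  have h1 : s ^ e ∣ Nat.card M * Nat.card N := h ▸ dvd_mul_of_dvd_left he _
  exact (Nat.Coprime.pow_left e (hsp.coprime_iff_not_dvd.2 hno)).dvd_of_dvd_mul_right h1

theorem not_dvd_normalizer (hs : Small G) {p s : ℕ} [hp : Fact p.Prime] [hs' : Fact s.Prime] (hsp : s ≠ p)
    (P : Subgroup G) (hP : IsPGroup p P) (hmod : ¬ Nat.card P ≡ 1 [MOD s]) :
    ¬ s ∣ Nat.card (normalizer (P : Set G)) := by
  intro hd
  obtain ⟨x, hx⟩ := exists_prime_orderOf_dvd_card' s hd
  haveI : (P.subgroupOf (normalizer (P : Set G))).Normal := normal_in_normalizer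
  apply hmod
  have := fpf_modEq (P.subgroupOf (normalizer (P : Set G))) hx ((hs.subgroup _).fpf hp.out
    (hP.of_equiv (subgroupOfEquivOfLe le_normalizer).symm)
    (fun e => by rw [e, orderOf_one] at hx; exact hs'.out.ne_one hx.symm)
    (by rw [hx]; exact (Nat.coprime_primes hs'.out hp.out).2 hsp))
  rwa [Nat.card_congr (subgroupOfEquivOfLe le_normalizer).toEquiv] at this

theorem card_sylow_of_card {M : Type*} [Group M] [Finite M] {p e : ℕ} [hp : Fact p.Prime] (P : Sylow p M)
    (h1 : p ^ e ∣ Nat.card M) (h2 : ¬ p ^ (e + 1) ∣ Nat.card M) : Nat.card (P : Subgroup M) = p ^ e := by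
  rw [P.card_eq_multiplicity]
  have a := (hp.out.pow_dvd_iff_le_factorization Nat.card_pos.ne').1 h1
  have b : ¬ e + 1 ≤ (Nat.card M).factorization p := fun hc =>
    h2 ((hp.out.pow_dvd_iff_le_factorization Nat.card_pos.ne').2 hc)
  congr 1
  omega

theorem card_eq_sixty (hs : Small G) (hno : ∀ N : Subgroup G, N.Normal → IsPGroup 2 N → N = ⊥) (M : Subgroup G)
    [M.Normal] (hM : IsSimpleGroup M) (hMc : ¬ IsMulCommutative M) (h60 : Nat.card M = 60) :
    Nat.card G = 60 := by
  haveI := hM
  have hpart : ∀ p s : ℕ, (p = 3 ∧ s = 5 ∨ p = 5 ∧ s = 3) → ∀ P : Subgroup G, IsPGroup s P → Nat.card P ∣ s := by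
    intro p s hps P hP
    have hpp : p.Prime := by rcases hps with ⟨rfl, -⟩ | ⟨rfl, -⟩ <;> norm_num
    have hsp : s.Prime := by rcases hps with ⟨-, rfl⟩ | ⟨-, rfl⟩ <;> norm_num
    haveI := Fact.mk hpp
    haveI := Fact.mk hsp
    obtain ⟨S⟩ : Nonempty (Sylow p M) := inferInstance
    have hS : Nat.card (S : Subgroup M) = p := by
      have := card_sylow_of_card (e := 1) S (by rcases hps with ⟨rfl, rfl⟩ | ⟨rfl, rfl⟩ <;> rw [h60] <;> norm_num)
        (by rcases hps with ⟨rfl, rfl⟩ | ⟨rfl, rfl⟩ <;> rw [h60] <;> norm_num)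
      rwa [pow_one] at this
    obtain ⟨e, he⟩ := hP.exists_card_eq
    have hd := dvd_card_of_normalizer hsp S (not_dvd_normalizer hs (by rcases hps with ⟨rfl, rfl⟩ | ⟨rfl, rfl⟩ <;> omega)
      _ (S.2.map _) (by
        rw [← Nat.card_congr ((S : Subgroup M).equivMapOfInjective _ M.subtype_injective).toEquiv, hS]
        rcases hps with ⟨rfl, rfl⟩ | ⟨rfl, rfl⟩ <;> decide)) (he ▸ card_subgroup_dvd_card P)
    rw [he]
    rw [h60] at hd
    have : e ≤ 1 := by
      by_contra hcon
      have h2 := (Nat.pow_dvd_pow s (show 2 ≤ e by omega)).trans hd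
      rcases hps with ⟨-, rfl⟩ | ⟨-, rfl⟩ <;> norm_num at h2
    exact (Nat.pow_dvd_pow s this).trans (by rw [pow_one])
  rcases hs.shape hno (fun p hp => by
      rcases hp with rfl | rfl
      · exact hpart 5 3 (Or.inr ⟨rfl, rfl⟩)
      · exact hpart 3 5 (Or.inl ⟨rfl, rfl⟩))
    (fun N hN hNc => simple_card hN hNc (hs.subgroup N)) with e | e | ⟨e, -⟩ | ⟨e, -⟩
  · have := h60 ▸ card_le_card_group M
    omega
  · exact absurd ((h60 ▸ card_subgroup_dvd_card M : 60 ∣ _).trans e) (by norm_num)
  · exact absurd ((h60 ▸ card_subgroup_dvd_card M : 60 ∣ _).trans e) (by norm_num)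
  · exact e

theorem card_eq_three_sixty (hs : Small G) (M : Subgroup G) [M.Normal] (h360 : Nat.card M = 360)
    {T U A : Subgroup M} (hP : Pair T U A 2) : Nat.card G = 360 := by
  classical
  haveI : Fact (Nat.Prime 3) := ⟨Nat.prime_three⟩
  haveI : Fact (Nat.Prime 5) := ⟨Nat.prime_five⟩
  obtain ⟨E⟩ : Nonempty (Sylow 3 M) := inferInstance
  obtain ⟨F⟩ : Nonempty (Sylow 5 M) := inferInstance
  have hEc : Nat.card (E : Subgroup M) = 3 ^ 2 :=
    card_sylow_of_card E (by rw [h360]; norm_num) (by rw [h360]; norm_num)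
  have hFc : Nat.card (F : Subgroup M) = 5 := by
    have := card_sylow_of_card (e := 1) F (by rw [h360]; norm_num) (by rw [h360]; norm_num)
    rwa [pow_one] at this
  have hno5 := not_dvd_normalizer (s := 5) hs (by norm_num) _ (E.2.map M.subtype) (by
    rw [← Nat.card_congr ((E : Subgroup M).equivMapOfInjective _ M.subtype_injective).toEquiv, hEc]; decide)
  have h25 : ∀ P : Subgroup G, IsPGroup 5 P → Nat.card P ∣ 5 := by
    intro P hP'
    obtain ⟨e, he⟩ := hP'.exists_card_eq
    have hd := dvd_card_of_normalizer Nat.prime_five E hno5 (he ▸ card_subgroup_dvd_card P)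
    rw [he]
    rw [h360] at hd
    have : e ≤ 1 := by
      by_contra hcon
      have h2 := (Nat.pow_dvd_pow 5 (show 2 ≤ e by omega)).trans hd
      norm_num at h2
    exact (Nat.pow_dvd_pow 5 this).trans (by rw [pow_one])
  set F' := (F : Subgroup M).map M.subtype with hF'
  set N5 := normalizer (F' : Set G) with hN5
  have hF'c : Nat.card F' = 5 := by
    rw [hF', ← Nat.card_congr ((F : Subgroup M).equivMapOfInjective _ M.subtype_injective).toEquiv, hFc]
  have hN20 : Nat.card N5 ∣ 20 := by
    haveI : (F'.subgroupOf N5).Normal := normal_in_normalizer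
    exact ((hs.subgroup N5).card_dvd_of_prime_normal (p := 5) (F'.subgroupOf N5)
      (by rw [Nat.card_congr (subgroupOfEquivOfLe le_normalizer).toEquiv, hF'c])
      (fun Q hQ => by
        rw [Nat.card_congr (Q.equivMapOfInjective N5.subtype N5.subtype_injective).toEquiv]
        exact h25 _ (hQ.map _))).1
  have hfr := card_sup_mul (U := M) (A := N5) (by rw [normalizer_eq_top]; exact le_top)
  rw [sup_comm, F.normalizer_sup_eq_top, card_top, h360] at hfr
  have h10 : 10 ≤ Nat.card (N5 ⊓ M : Subgroup G) := by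
    have hle : (normalizer ((F : Subgroup M) : Set M)).map M.subtype ≤ N5 ⊓ M :=
      le_inf (Subgroup.le_normalizer_map M.subtype) (map_subtype_le _)
    refine le_trans ?_ (card_le_of_le hle)
    rw [← Nat.card_congr ((normalizer ((F : Subgroup M) : Set M)).equivMapOfInjective _ M.subtype_injective).toEquiv]
    have e := card_mul_index (normalizer ((F : Subgroup M) : Set M))
    rw [h360] at e
    have hmod := card_sylow_modEq_one 5 M
    rw [F.card_eq_index_normalizer] at hmod
    have hd : (normalizer ((F : Subgroup M) : Set M)).index ∣ 72 := by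
      have := F.card_dvd_index
      rwa [F.card_eq_index_normalizer, show (F : Subgroup M).index = 72 by
        have := card_mul_index (F : Subgroup M); rw [hFc, h360] at this; omega] at this
    generalize hN : Nat.card (normalizer ((F : Subgroup M) : Set M)) = N at e ⊢
    generalize hI : (normalizer ((F : Subgroup M) : Set M)).index = I at e hmod hd
    by_contra hlt
    have hI2 : 36 < I := by nlinarith
    have hI72 : I ≤ 72 := Nat.le_of_dvd (by norm_num) hd
    interval_cases I <;> first | exact absurd hd (by decide) | exact absurd hmod (by decide) | omega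
  have h720 : Nat.card G ≤ 720 := by
    have h20 := Nat.le_of_dvd (by norm_num) hN20
    nlinarith
  obtain ⟨i, hi⟩ := h360 ▸ card_subgroup_dvd_card M
  have hi2 : i ≤ 2 := by omega
  have hi0 : i ≠ 0 := fun e => by rw [e] at hi; have := Nat.card_pos (α := G); omega
  rcases (show i = 1 ∨ i = 2 by omega) with rfl | rfl
  · rw [hi]
  exfalso
  set U' := U.map M.subtype with hU'
  set A' := A.map M.subtype with hA'
  set T' := T.map M.subtype with hT'
  have hT'c : Nat.card T' = 8 := by
    rw [hT', ← Nat.card_congr (T.equivMapOfInjective _ M.subtype_injective).toEquiv, hP.card_T]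
  have hT'p : IsPGroup 2 T' := hP.syl.2.1.map _
  obtain ⟨S, hS, hTS⟩ := exists_isSyl (L := (⊤ : Subgroup G)) le_top hT'p
  have hTne : T' ≠ S := by
    intro e
    obtain ⟨P, hP'⟩ := Sylow.exists_subgroup_card_pow_prime 2 (n := 4)
      (show 2 ^ 4 ∣ Nat.card G by rw [hi]; norm_num)
    have := hS.card_le le_top (IsPGroup.of_card hP')
    rw [← e, hT'c, hP'] at this
    norm_num at this
  have hlt := lt_inf_normalizer hS.2.1 hTS hTne
  obtain ⟨g, ⟨hgS, hgN⟩, hgT⟩ := SetLike.exists_of_lt hlt
  have hSM : ∀ y ∈ S, y ∈ M → y ∈ T' := by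
    intro y hy hyM
    have hsub : IsPGroup 2 ((S ⊓ M).subgroupOf M) :=
      (hS.2.1.to_le inf_le_left).of_equiv (subgroupOfEquivOfLe inf_le_right).symm
    have := hP.syl.2.2 _ le_top hsub (fun x hx => mem_subgroupOf.2 ⟨hTS (mem_map_of_mem _ hx), x.2⟩)
    have hy' : (⟨y, hyM⟩ : M) ∈ T := this ▸ mem_subgroupOf.2 ⟨hy, hyM⟩
    exact ⟨_, hy', rfl⟩
  have hgg : g * g ∈ T' := by
    refine hSM _ (mul_mem hgS hgS) ?_
    have hidx : M.index = 2 := by
      have := card_mul_index M
      rw [h360, hi] at this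
      omega
    exact mul_self_mem_of_index_two hidx g
  have hcov : ∀ t ∈ T', t * t = 1 → t ∈ U' ∨ t ∈ A' := by
    rintro _ ⟨t, ht, rfl⟩ h1
    rcases hP.cover t ht (Subtype.ext h1) with e | e
    · exact Or.inl ⟨t, e, rfl⟩
    · exact Or.inr ⟨t, e, rfl⟩
  have hU'exp : ∀ u ∈ U', u * u = 1 := by
    rintro _ ⟨u, hu, rfl⟩
    exact congrArg Subtype.val (hP.exp_U u hu)
  have hU'c : Nat.card U' = 4 := by
    rw [hU', ← Nat.card_congr (U.equivMapOfInjective _ M.subtype_injective).toEquiv, hP.card_U]
  have hA'c : Nat.card A' = 4 := by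
    rw [hA', ← Nat.card_congr (A.equivMapOfInjective _ M.subtype_injective).toEquiv, hP.card_A]
  have hU'T : U' ≤ T' := map_mono hP.U_le
  have hswap : ∀ h : G, h ∈ normalizer (T' : Set G) → conjS h U' = U' ∨ conjS h U' = A' := by
    intro h hh
    have hle : conjS h U' ≤ T' := by
      rw [← conjS_eq_of_mem_normalizer hh]; exact conjS_mono hU'T
    rcases le_or_le_of_subset_union (fun b (hb : b ∈ conjS h U') => hcov b (hle hb) (by
      obtain ⟨u, hu, rfl⟩ := hb
      rw [← map_mul, hU'exp u hu, map_one])) with e | e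
    · exact Or.inl (eq_of_le_of_card_ge e (card_conjS h U').ge)
    · exact Or.inr (eq_of_le_of_card_ge e (by rw [card_conjS, hU'c, hA'c]))
  set N := normalizer (U' : Set G) with hN
  have hNM : (normalizer (U : Set M)).map M.subtype ≤ N := Subgroup.le_normalizer_map M.subtype
  have hT'N : T' ≤ N := (map_mono hP.T_norm).trans hNM
  have hgU : g ∈ N := by
    by_contra hgU
    have hsq : ∀ h ∈ S, h ∈ normalizer (T' : Set G) → h ∉ N → h * h ∈ T' → h * h ∈ A' ⊓ U' ∧ conjS h U' = A' := by
      intro h hhS hhN hhU hhh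
      have hUA : conjS h U' = A' := (hswap h hhN).resolve_left fun e => hhU (mem_normalizer_of_conjS_eq e)
      have hAU : conjS h A' = U' := by
        rw [← hUA, conjS_mul]
        exact conjS_eq_of_mem_normalizer (hT'N hhh)
      refine ⟨?_, hUA⟩
      obtain ⟨k, hk⟩ := hS.2.1 ⟨h, hhS⟩
      have h4 := hs.pow_four (p := h) (k := k) (congrArg Subtype.val hk)
      have h4' : h * h * (h * h) = 1 := by rw [← h4]; simp [pow_succ, mul_assoc]
      have hconj : ∀ X : Subgroup G, h * h ∈ X → h * h ∈ conjS h X := fun X hX =>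
        mem_conjS.2 (by simpa [mul_assoc] using hX)
      rcases hcov _ hhh h4' with e | e
      · exact ⟨hUA ▸ hconj U' e, e⟩
      · exact ⟨e, hAU ▸ hconj A' e⟩
    obtain ⟨h1, hgUA⟩ := hsq g hgS hgN hgU hgg
    obtain ⟨v, hvU, hvA⟩ : ∃ v ∈ U', v ∉ A' := by
      obtain ⟨v, hv, hvA⟩ : ∃ v ∈ U, v ∉ A := SetLike.not_le_iff_exists.1 fun h => by
        have := hP.card_inf
        rw [inf_eq_right.2 h, hP.card_U] at this
        norm_num at this
      exact ⟨_, mem_map_of_mem _ hv, fun e => hvA ((mem_map_iff_mem M.subtype_injective).1 e)⟩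
    have hvT : v ∈ T' := hU'T hvU
    have hgv : g * v * (g * v) ∈ T' := by
      rw [show g * v * (g * v) = g * g * (g⁻¹ * v * g) * v by group]
      refine mul_mem (mul_mem hgg ?_) hvT
      have := (mem_normalizer_iff.1 (inv_mem hgN) v).1 hvT
      rwa [inv_inv] at this
    obtain ⟨h2, -⟩ := hsq (g * v) (mul_mem hgS (hTS hvT)) (mul_mem hgN (le_normalizer hvT))
      (fun e => hgU ((Subgroup.mul_mem_cancel_right N (hT'N hvT)).1 e)) hgv
    have h3 : g⁻¹ * v * g * v ∈ A' ⊓ U' := by
      rw [show g⁻¹ * v * g * v = (g * g)⁻¹ * (g * v * (g * v)) by group]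
      exact mul_mem (inv_mem h1) h2
    have h4 : g⁻¹ * v * g ∈ A' := by
      have hgg' : conjS g⁻¹ U' = A' := by
        rw [← conjS_eq_of_mem_normalizer (show (g * g)⁻¹ ∈ normalizer (U' : Set G) from inv_mem (hT'N hgg))]
          at hgUA
        rw [← hgUA, conjS_mul, show g * (g * g)⁻¹ = g⁻¹ by group]
      rw [← hgg', mem_conjS]
      simpa [mul_assoc] using hvU
    have h5 := mul_mem (inv_mem h4) h3.1
    rw [show (g⁻¹ * v * g)⁻¹ * (g⁻¹ * v * g * v) = v by group] at h5
    exact hvA h5
  -- the normalizer of `U'` is too large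
  have hNc : Nat.card N = 48 := by
    have hgM : g ∉ M := fun h => hgT (hSM g hgS h)
    have hsup : N ⊔ M = ⊤ := by
      have hidx : M.index = 2 := by
        have := card_mul_index M
        rw [h360, hi] at this
        omega
      rw [eq_top_iff]
      intro y _
      by_cases hy : y ∈ M
      · exact mem_sup_right hy
      · have : g⁻¹ * y ∈ M := (mul_mem_iff_of_index_two hidx).2 (iff_of_false (fun h => hgM (by simpa using inv_mem h)) hy)
        rw [show y = g * (g⁻¹ * y) by group]
        exact mul_mem (mem_sup_left hgU) (mem_sup_right this)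
    have h := card_sup_mul (U := M) (A := N) (by rw [normalizer_eq_top]; exact le_top)
    rw [sup_comm, hsup, card_top, hi, h360] at h
    have hNMc : Nat.card (N ⊓ M : Subgroup G) = 24 := by
      rw [← hP.normalizer_card.1 rfl]
      have e : (N ⊓ M : Subgroup G) = (normalizer (U : Set M)).map M.subtype := by
        refine le_antisymm (fun y hy => ?_) (le_inf hNM (map_subtype_le _))
        refine ⟨⟨y, hy.2⟩, ?_, rfl⟩
        show (⟨y, hy.2⟩ : M) ∈ normalizer (U : Set M)
        rw [mem_normalizer_iff]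
        intro w
        rw [← mem_map_iff_mem M.subtype_injective (K := U), ← mem_map_iff_mem M.subtype_injective (K := U)]
        exact mem_normalizer_iff.1 hy.1 w
      rw [e, ← Nat.card_congr ((normalizer (U : Set M)).equivMapOfInjective _ M.subtype_injective).toEquiv]
    rw [hNMc] at h
    omega
  set W := twoCore N with hW
  have hU'W : U' ≤ W := le_twoCore le_normalizer (hP.syl.2.1.map M.subtype |>.to_le hU'T) le_rfl
  haveI hWn : (W.subgroupOf N).Normal :=
    (normal_subgroupOf_iff_le_normalizer (twoCore_le N)).2 (le_normalizer_twoCore N)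
  have hWp : IsPGroup 2 (W.subgroupOf N) :=
    (twoCore_isPGroup N).of_equiv (subgroupOfEquivOfLe (twoCore_le N)).symm
  have hW1 : W.subgroupOf N ≠ ⊥ := fun e => by
    have := card_le_of_le hU'W
    rw [hU'c, ← Nat.card_congr (subgroupOfEquivOfLe (twoCore_le N)).toEquiv, e, Subgroup.card_bot] at this
    omega
  have hR := radical_of_max (hs.subgroup N) (W.subgroupOf N) hWp hW1 (fun K hK hK2 x hx => by
    rw [mem_subgroupOf]
    refine le_twoCore (map_subtype_le K) (hK2.map _) ?_ (mem_map_of_mem _ hx)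
    exact (normal_subgroupOf_iff_le_normalizer (map_subtype_le K)).1
      (by rw [subgroupOf, comap_map_eq_self_of_injective (Subgroup.subtype_injective _)]; exact hK))
  obtain ⟨w, hw⟩ := (twoCore_isPGroup N).exists_card_eq
  have hmul := card_eq_card_quotient_mul_card_subgroup (W.subgroupOf N)
  rw [hNc, Nat.card_congr (subgroupOfEquivOfLe (twoCore_le N)).toEquiv, hw] at hmul
  obtain ⟨x, hx⟩ := exists_prime_orderOf_dvd_card' (G := N) 3 (by rw [hNc]; norm_num)
  have hmod := fpf_modEq (W.subgroupOf N) hx (hR.fpf_of_odd (Or.inl rfl) hx)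
  rw [Nat.card_congr (subgroupOfEquivOfLe (twoCore_le N)).toEquiv, hw] at hmod
  have hw2 : 4 ≤ 2 ^ w := by
    have := card_le_of_le hU'W
    rwa [hU'c, hw] at this
  have hd : 2 ^ w ∣ 48 := Dvd.intro_left _ hmul.symm
  have hw4 : w ≤ 4 := by
    by_contra hcon
    have := (Nat.pow_dvd_pow 2 (show 5 ≤ w by omega)).trans hd
    norm_num at this
  interval_cases w
  · norm_num at hw2
  · norm_num at hw2
  · -- quotient of order twelve
    have hq : Nat.card (N ⧸ W.subgroupOf N) = 12 := by omega
    rcases hR.quot_shape with e | e | ⟨e, -⟩ | ⟨e, -⟩ <;> rw [hq] at e <;> norm_num at e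
  · exact absurd hmod (by decide)
  · -- the part of the core inside `M` has order eight
    haveI : ((W ⊓ M).subgroupOf N).Normal := by
      refine ⟨fun y hy n => ?_⟩
      rw [mem_subgroupOf] at hy ⊢
      exact ⟨mem_subgroupOf.1 (hWn.conj_mem y (mem_subgroupOf.2 hy.1) n), ‹M.Normal›.conj_mem _ hy.2 _⟩
    have hWM : Nat.card (W ⊓ M : Subgroup G) = 8 := by
      obtain ⟨k, hk⟩ := ((twoCore_isPGroup N).to_le (inf_le_left : W ⊓ M ≤ W)).exists_card_eq
      have h1 : 2 ^ k ∣ 360 := hk ▸ h360 ▸ card_dvd_of_le inf_le_right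
      have hk3 : k ≤ 3 := by
        by_contra hcon
        have := (Nat.pow_dvd_pow 2 (show 4 ≤ k by omega)).trans h1
        norm_num at this
      have h2 := card_sup_mul (U := M) (A := W) (by rw [normalizer_eq_top]; exact le_top)
      have h3 := card_le_card_group (M ⊔ W)
      rw [h360, hw, hk] at h2
      have h4 : 8 ≤ 2 ^ k := by
        by_contra hcon
        have := Nat.mul_le_mul h3 (show 2 ^ k ≤ 7 by omega)
        rw [hi] at this
        omega
      have := Nat.pow_le_pow_right (show 0 < 2 by norm_num) hk3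
      omega
    have hmod' := fpf_modEq ((W ⊓ M).subgroupOf N) hx fun u hu hc =>
      hR.fpf_of_odd (Or.inl rfl) hx u (mem_subgroupOf.2 (mem_subgroupOf.1 hu).1) hc
    rw [Nat.card_congr (subgroupOfEquivOfLe (inf_le_left.trans (twoCore_le N))).toEquiv, hWM] at hmod'
    exact absurd hmod' (by decide)

/-- An elementary abelian subgroup of order four. -/
theorem exists_four (hs : Small G) [IsSimpleGroup G] (hnc : ¬ IsMulCommutative G) :
    ∃ a b : G, orderOf a = 2 ∧ orderOf b = 2 ∧ orderOf (a * b) = 2 ∧ Commute a b := by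
  rcases simple_cases _ G rfl inferInstance hnc hs with e | ⟨-, T, U, A, hP⟩
  · haveI : Fact (Nat.Prime 5) := ⟨Nat.prime_five⟩
    obtain ⟨P⟩ : Nonempty (Sylow 5 G) := inferInstance
    have hn : ¬ (P : Subgroup G).Normal := fun hn => by
      have hc := CfsgLib.Dickson.OrderSixty.card_eq_five e P
      rcases IsSimpleGroup.eq_bot_or_eq_top_of_normal _ hn with h | h
      · rw [h, Subgroup.card_bot] at hc; norm_num at hc
      · rw [h, card_top, e] at hc; norm_num at hc
    obtain ⟨φ⟩ := CfsgLib.Dickson.OrderSixty.nonempty_mulEquiv e P hn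
    obtain ⟨a, b, ha, hb, hab, hc⟩ : ∃ a b : alternatingGroup (Fin 5),
        (a * a = 1 ∧ a ≠ 1) ∧ (b * b = 1 ∧ b ≠ 1) ∧ (a * b * (a * b) = 1 ∧ a * b ≠ 1) ∧ a * b = b * a := by
      decide +kernel
    refine ⟨φ.symm a, φ.symm b, ?_, ?_, ?_, ?_⟩
    · rw [MulEquiv.orderOf_eq]; exact CfsgLib.Invol.orderOf_eq_two ha.1 ha.2
    · rw [MulEquiv.orderOf_eq]; exact CfsgLib.Invol.orderOf_eq_two hb.1 hb.2
    · rw [← map_mul, MulEquiv.orderOf_eq]; exact CfsgLib.Invol.orderOf_eq_two hab.1 hab.2
    · show φ.symm a * φ.symm b = φ.symm b * φ.symm a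
      rw [← map_mul, hc, map_mul]
  · obtain ⟨z, hz, hz1⟩ := hP.exists_z
    obtain ⟨v, hv, hvA⟩ : ∃ v ∈ U, v ∉ A := SetLike.not_le_iff_exists.1 fun h => by
      have := hP.card_inf
      rw [inf_eq_right.2 h, hP.card_U] at this
      norm_num at this
    refine ⟨z, v, CfsgLib.Invol.orderOf_eq_two (hP.exp_U z hz.2) hz1,
      CfsgLib.Invol.orderOf_eq_two (hP.exp_U v hv) (fun e => hvA (e ▸ one_mem A)),
      CfsgLib.Invol.orderOf_eq_two (hP.exp_U _ (mul_mem hz.2 hv)) (fun e => hvA ?_),
      commute_of_exp_two hP.exp_U hz.2 hv⟩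
    rw [eq_inv_of_mul_eq_one_right e]
    exact inv_mem hz.1

/-- The classification. -/
theorem main (h : Set.range (orderOf : G → ℕ) = {k : ℕ | 1 ≤ k ∧ k ≤ 5}) :
    Nonempty (G ≃* ↥(alternatingGroup (Fin 6))) ∨
      ∃ (N : Subgroup G) (_ : N.Normal), IsPGroup 2 N ∧ (∀ x ∈ N, x * x = 1) ∧
        Nonempty (G ⧸ N ≃* ↥(alternatingGroup (Fin 5))) := by
  classical
  have hs : Small G := fun g => by
    have : orderOf g ∈ {k : ℕ | 1 ≤ k ∧ k ≤ 5} := h ▸ ⟨g, rfl⟩
    exact this.2
  have hex : ∀ k, 1 ≤ k → k ≤ 5 → ∃ g : G, orderOf g = k := fun k h1 h2 => by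
    have : k ∈ Set.range (orderOf : G → ℕ) := h ▸ ⟨h1, h2⟩
    exact this
  have hpp : ∀ g : G, g ≠ 1 → IsPrimePow (orderOf g) := fun g hg => hs.isPrimePow hg
  have hdvd : ∀ k, 1 ≤ k → k ≤ 5 → k ∣ Nat.card G := fun k h1 h2 => by
    obtain ⟨g, hg⟩ := hex k h1 h2
    exact hg ▸ orderOf_dvd_natCard g
  have hbig : ∀ k, 5 < k → ¬ ∃ x : G, orderOf x = k := fun k hk ⟨x, hx⟩ => by
    have := hs x; omega
  have hns : ¬ Group.IsSolvable G := fun hsol => by
    haveI := hsol
    exact CfsgLib.Lucido.no_coclique_of_solvable Nat.prime_two Nat.prime_three Nat.prime_five (by norm_num)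
      (by norm_num) (by norm_num) (hdvd 2 (by norm_num) (by norm_num)) (hdvd 3 (by norm_num) (by norm_num))
      (hdvd 5 (by norm_num) (by norm_num)) (hbig _ (by norm_num)) (hbig _ (by norm_num)) (hbig _ (by norm_num))
  -- the solvable radical
  haveI := Fintype.ofFinite (Subgroup G)
  obtain ⟨R, hR, hRmax⟩ := (Finset.univ.filter fun N : Subgroup G => N.Normal ∧ Group.IsSolvable N).exists_max_image
    (fun N => Nat.card N) ⟨⊥, Finset.mem_filter.2 ⟨Finset.mem_univ _, inferInstance, inferInstance⟩⟩
  simp only [Finset.mem_filter, Finset.mem_univ, true_and] at hR hRmax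
  obtain ⟨hRn, hRs⟩ := hR
  haveI := hRn
  have hmax : ∀ N : Subgroup G, N.Normal → Group.IsSolvable N → N ≤ R := fun N hN hNs => by
    haveI := hN
    have := eq_of_le_of_card_ge (le_sup_left : R ≤ R ⊔ N)
      (hRmax (R ⊔ N) ⟨inferInstance, CfsgLib.Comp.isSolvable_sup (A := N) hNs hRs⟩)
    exact this ▸ le_sup_right
  obtain ⟨p, hp, hRp⟩ := CfsgLib.EPPO.exists_isPGroup hns hpp R hRs
  obtain ⟨M, hMn, hMs, hMc, -⟩ := CfsgLib.EPPO.structure_nonsolvable hns hpp R hRs hmax
  haveI := hMn
  haveI := hMs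
  have hsQ := hs.quotient R
  have hno : ∀ N : Subgroup (G ⧸ R), N.Normal → IsPGroup 2 N → N = ⊥ := fun N hN hN2 => by
    haveI := hN
    haveI := hN2.isNilpotent
    exact CfsgLib.EPPO.quotient_no_solvable R hRs hmax N inferInstance
  -- the radical is a two-group
  have hR2 : IsPGroup 2 R := by
    by_cases hR1 : R = ⊥
    · rw [hR1]; exact IsPGroup.of_bot
    haveI := Fact.mk hp
    by_cases hp2 : p = 2
    · exact hp2 ▸ hRp
    exfalso
    obtain ⟨a, b, ha, hb, hab, hc⟩ := exists_four (hsQ.subgroup M) hMc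
    let K := closure ({(a : G ⧸ R), (b : G ⧸ R)} : Set (G ⧸ R))
    have hlift : ∀ c : G ⧸ R, orderOf c = 2 → ∀ g : G, QuotientGroup.mk' R g = c → orderOf g = 2 ∨ orderOf g = 4 := by
      intro c hc g hg
      have hd := orderOf_map_dvd (QuotientGroup.mk' R) g
      rw [hg, hc] at hd
      rcases hs.cases g with e | e | e | e | e
      · rw [e, map_one] at hg; rw [← hg, orderOf_one] at hc; omega
      · exact Or.inl e
      · rw [e] at hd; norm_num at hd
      · exact Or.inr e
      · rw [e] at hd; norm_num at hd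
    obtain ⟨S⟩ : Nonempty (Sylow 2 (K.comap (QuotientGroup.mk' R))) := inferInstance
    have hKexp : ∀ c ∈ K, c * c = 1 := by
      intro c hc'
      haveI : IsMulCommutative K := Subgroup.isMulCommutative_closure (by
        have e : (a : G ⧸ R) * b = b * a := congrArg Subtype.val hc.eq
        rintro x (rfl | rfl) y (rfl | rfl) <;> first | rfl | exact e | exact e.symm)
      induction hc' using closure_induction with
      | mem x hx =>
        rcases hx with rfl | rfl
        · exact congrArg Subtype.val (CfsgLib.Invol.mul_self_eq_one ha)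
        · exact congrArg Subtype.val (CfsgLib.Invol.mul_self_eq_one hb)
      | one => exact one_mul 1
      | mul x y hx hy e1 e2 =>
        have h' := congrArg Subtype.val ((IsMulCommutative.is_comm (M := K)).comm ⟨x, hx⟩ ⟨y, hy⟩)
        simp only [Subgroup.coe_mul] at h'
        calc x * y * (x * y) = x * (y * x) * y := by group
          _ = x * (x * y) * y := by rw [h']
          _ = x * x * (y * y) := by group
          _ = 1 := by rw [e1, e2, one_mul]
      | inv x _ e => rw [← _root_.mul_inv_rev, e, inv_one]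
    set S' := (S : Subgroup (K.comap (QuotientGroup.mk' R))).map (K.comap (QuotientGroup.mk' R)).subtype with hS'
    have hSexp : ∀ y ∈ S', y * y = 1 := by
      intro y hy
      have hyK : QuotientGroup.mk' R y ∈ K := mem_comap.1 (map_subtype_le _ hy)
      have hmem : y * y ∈ R := (QuotientGroup.eq_one_iff _).1 (by
        rw [← QuotientGroup.mk'_apply, map_mul]; exact hKexp _ hyK)
      obtain ⟨k, hk⟩ := exists_pow_prime_of_mem hRp hmem
      obtain ⟨j, hj⟩ := exists_pow_prime_of_mem (S.2.map (K.comap (QuotientGroup.mk' R)).subtype) (mul_mem hy hy)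
      have hco : Nat.Coprime (2 ^ j) (p ^ k) :=
        Nat.Coprime.pow j k ((Nat.coprime_primes Nat.prime_two hp).2 (Ne.symm hp2))
      exact orderOf_eq_one_iff.1 (Nat.eq_one_of_dvd_coprimes hco (orderOf_dvd_of_pow_eq_one hj) (orderOf_dvd_of_pow_eq_one hk))
    -- two independent lifts
    have hcard4 : 4 ∣ Nat.card (K.comap (QuotientGroup.mk' R)) := by
      have h4 : 4 ∣ Nat.card K := by
        have hane : (a : G ⧸ R) ≠ 1 := fun e => CfsgLib.Invol.ne_one ha (Subtype.ext e)
        have hK2 : IsPGroup 2 K := fun c => ⟨1, Subtype.ext (by rw [pow_one, pow_two]; exact hKexp c c.2)⟩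
        obtain ⟨n, hn⟩ := hK2.exists_card_eq
        have hab' : (b : G ⧸ R) ≠ a := fun e => CfsgLib.Invol.ne_one hab (Subtype.ext (by
          rw [Subgroup.coe_mul, e, Subgroup.coe_one]
          exact congrArg Subtype.val (CfsgLib.Invol.mul_self_eq_one ha)))
        have hb1 : (b : G ⧸ R) ≠ 1 := fun e => CfsgLib.Invol.ne_one hb (Subtype.ext e)
        have h3 : 3 ≤ Nat.card K := by
          haveI : Fintype (G ⧸ R) := Fintype.ofFinite _
          have hsub : ({1, (a : G ⧸ R), (b : G ⧸ R)} : Finset (G ⧸ R)) ⊆ Finset.univ.filter (fun c => c ∈ K) := by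
            intro c hc'
            simp only [Finset.mem_insert, Finset.mem_singleton] at hc'
            simp only [Finset.mem_filter, Finset.mem_univ, true_and]
            rcases hc' with rfl | rfl | rfl
            · exact one_mem K
            · exact subset_closure (by simp)
            · exact subset_closure (by simp)
          have := Finset.card_le_card hsub
          rw [Finset.card_insert_of_notMem (by simp [hane.symm, hb1.symm]),
            Finset.card_insert_of_notMem (by simp [hab'.symm]), Finset.card_singleton] at this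
          rw [Nat.card_eq_fintype_card, Fintype.card_subtype]
          exact this
        rw [hn] at h3 ⊢
        have : 2 ≤ n := by
          by_contra hcon
          have : 2 ^ n ≤ 2 ^ 1 := Nat.pow_le_pow_right (by norm_num) (by omega)
          omega
        exact Nat.pow_dvd_pow 2 this
      have hsur : ∀ c : K, ∃ g : K.comap (QuotientGroup.mk' R), QuotientGroup.mk' R g = c := fun c => by
        obtain ⟨g, hg⟩ := QuotientGroup.mk'_surjective R c
        exact ⟨⟨g, mem_comap.2 (hg ▸ c.2)⟩, hg⟩
      refine h4.trans (card_dvd_of_surjective ((QuotientGroup.mk' R).subgroupComap K) ?_)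
      intro c
      obtain ⟨g, hg⟩ := hsur c
      exact ⟨g, Subtype.ext hg⟩
    have hScard : 4 ≤ Nat.card S' := by
      rw [hS', ← Nat.card_congr ((S : Subgroup (K.comap (QuotientGroup.mk' R))).equivMapOfInjective _ (Subgroup.subtype_injective _)).toEquiv]
      exact Nat.le_of_dvd Nat.card_pos (S.pow_dvd_card_of_pow_dvd_card (n := 2) hcard4)
    obtain ⟨x, hxS, hx1⟩ : ∃ x ∈ S', x ≠ 1 := by
      by_contra hcon
      push Not at hcon
      have : S' = ⊥ := eq_bot_iff.2 fun y hy => mem_bot.2 (hcon y hy)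
      rw [this, Subgroup.card_bot] at hScard
      omega
    have hx2 : orderOf x = 2 := CfsgLib.Invol.orderOf_eq_two (hSexp x hxS) hx1
    obtain ⟨y, hyS, hyx⟩ : ∃ y ∈ S', y ∉ zpowers x := SetLike.not_le_iff_exists.1 fun hle => by
      have := hScard.trans (card_le_of_le hle)
      rw [Nat.card_zpowers, hx2] at this
      omega
    obtain ⟨V, hVn, hVR, hV1, hVc⟩ := exists_abelian_normal R hRp hR1
    obtain ⟨n, hn⟩ := (hRp.to_le hVR).exists_card_eq
    have hfp : ∀ w ∈ S', w ≠ 1 → Fpf w V := fun w hw hw1 u hu hcw =>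
      hs.fpf hp hRp hw1 (by
        rw [CfsgLib.Invol.orderOf_eq_two (hSexp w hw) hw1]
        exact (Nat.coprime_primes Nat.prime_two hp).2 (Ne.symm hp2)) u (hVR hu) hcw
    refine no_fpf_pair hVc Nat.prime_two (hn ▸ Nat.Coprime.pow_right n ((Nat.coprime_primes Nat.prime_two hp).2 (Ne.symm hp2)))
      hV1 (commute_of_exp_two hSexp hyS hxS) (fun v hv => hVn.conj_mem v hv y) (fun v hv => hVn.conj_mem v hv x)
      (by rw [pow_two]; exact hSexp y hyS) (by rw [pow_two]; exact hSexp x hxS) (hfp x hxS hx1)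
      (fun j _ => hfp _ (mul_mem hyS (pow_mem hxS j)) (fun e => hyx ?_))
    rw [eq_inv_of_mul_eq_one_left e]
    exact inv_mem (npow_mem_zpowers _ j)
  -- the quotient
  have hQ : (Nat.card (G ⧸ R) = 60 ∧ IsSimpleGroup (G ⧸ R)) ∨ (R = ⊥ ∧ Nat.card (G ⧸ R) = 360 ∧ IsSimpleGroup (G ⧸ R)) := by
    have htop : Nat.card M = Nat.card (G ⧸ R) → IsSimpleGroup (G ⧸ R) := fun e =>
      (MulEquiv.subgroupCongr (eq_top_of_card_eq M e) |>.trans Subgroup.topEquiv).isSimpleGroup_congr.1 hMs
    rcases simple_cases _ M rfl hMs hMc (hsQ.subgroup M) with e | ⟨e, T, U, A, hP⟩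
    · have h60 := card_eq_sixty hsQ hno M hMs hMc e
      exact Or.inl ⟨h60, htop (e.trans h60.symm)⟩
    · have h360 := card_eq_three_sixty hsQ M e hP
      refine Or.inr ⟨?_, h360, htop (e.trans h360.symm)⟩
      by_contra hR1
      have hRad := radical_of_max hs R hR2 hR1 fun N hN hN2 => by
        haveI := hN2.isNilpotent
        exact hmax N hN inferInstance
      rcases hRad.quot_shape with e' | e' | ⟨e', -⟩ | ⟨e', -⟩
      · omega
      · rw [h360] at e'; norm_num at e'
      · rw [h360] at e'; norm_num at e'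
      · omega
  rcases hQ with ⟨h60, hsimp⟩ | ⟨hR1, h360, hsimp⟩
  · refine Or.inr ⟨R, hRn, hR2, ?_, ?_⟩
    · by_cases hR1 : R = ⊥
      · intro x hx
        rw [hR1, mem_bot] at hx
        rw [hx, one_mul]
      · exact (radical_of_max hs R hR2 hR1 fun N hN hN2 => by
          haveI := hN2.isNilpotent
          exact hmax N hN inferInstance).exp_two (by rw [h60]; norm_num) (by rw [h60]; norm_num)
    · haveI : Fact (Nat.Prime 5) := ⟨Nat.prime_five⟩
      obtain ⟨P⟩ : Nonempty (Sylow 5 (G ⧸ R)) := inferInstance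
      haveI := hsimp
      refine CfsgLib.Dickson.OrderSixty.nonempty_mulEquiv h60 P fun hn => ?_
      have hc := CfsgLib.Dickson.OrderSixty.card_eq_five h60 P
      rcases IsSimpleGroup.eq_bot_or_eq_top_of_normal _ hn with h' | h'
      · rw [h', Subgroup.card_bot] at hc; norm_num at hc
      · rw [h', card_top, h60] at hc; norm_num at hc
  · left
    subst hR1
    haveI := hsimp
    obtain ⟨φ⟩ := CfsgLib.InvChar.iso_alternatingSix h360
    exact ⟨(QuotientGroup.quotientBot (G := G)).symm.trans φ⟩

end CfsgLib.SpecFive
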