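import Cfsg.Agent.SpecFive.Affine

/-!
Classification of the critical groups for the element orders `1, …, 5`.
-/

set_option autoImplicit false
set_option linter.unusedSectionVars false

namespace CfsgLib.SpecFive

open CfsgLib.SpecBlow.A6

variable {G : Type*} [Group G] [Finite G]

/-- No proper quotient by a normal subgroup inside `N` keeps the element orders. -/
theorem eq_of_normal_le {N : Subgroup G} [N.Normal] (ψ : G →* alternatingGroup (Fin 5))
    (σ : alternatingGroup (Fin 5) →* G) (hσ : ∀ π, ψ (σ π) = π) (hs : Small G)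
    (hker : ψ.ker = N) (hN : ∀ n ∈ N, n * n = 1)
    (hcrit : ∀ (H : Subgroup G) (K : Subgroup ↥H) [K.Normal], (H ≠ ⊤ ∨ K ≠ ⊥) →
      Set.range (orderOf : (↥H ⧸ K) → ℕ) ≠ ({1, 2, 3, 4, 5} : Set ℕ))
    (W : Subgroup G) [W.Normal] (hW : W ≤ N) (hW1 : W ≠ ⊥) : W = N := by
  have hmem : ∀ {g : G}, g ∈ N ↔ ψ g = 1 := fun {g} => by rw [← hker, MonoidHom.mem_ker]
  refine le_antisymm hW ?_
  set f : G →* (↥(⊤ : Subgroup G) ⧸ W.subgroupOf ⊤) :=
    (QuotientGroup.mk' _).comp Subgroup.topEquiv.symm.toMonoidHom with hf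
  have hf1 : ∀ g, f g = 1 ↔ g ∈ W := fun g => by
    rw [hf, MonoidHom.comp_apply, QuotientGroup.mk'_apply, QuotientGroup.eq_one_iff, Subgroup.mem_subgroupOf]
    rfl
  have hfs : Function.Surjective f := fun q => by
    obtain ⟨⟨g, hg⟩, rfl⟩ := QuotientGroup.mk'_surjective _ q
    exact ⟨g, rfl⟩
  -- some element of `N` is moved modulo `W`
  by_contra hNW
  have key : ∃ n ∈ N, n * (σ Five.a * n * (σ Five.a)⁻¹) ∉ W := by
    by_contra hcon
    push Not at hcon
    apply hNW
    set A := σ Five.a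
    set B := σ (Five.t * Five.a * Five.t) with hB
    have cj : ∀ (g : G) {n : G}, n ∈ N → g * n * g⁻¹ ∈ N := fun g {n} hn => ‹N.Normal›.conj_mem n hn g
    have hT : (σ Five.t)⁻¹ = σ Five.t := by
      apply inv_eq_of_mul_eq_one_right
      rw [← map_mul, Five.t_sq, map_one]
    have hcB : ∀ n ∈ N, n * (B * n * B⁻¹) ∈ W := by
      intro n hn
      have h := ‹W.Normal›.conj_mem _ (hcon _ (cj (σ Five.t) hn)) (σ Five.t)⁻¹
      rw [show B * n * B⁻¹ = (σ Five.t)⁻¹ * (A * (σ Five.t * n * (σ Five.t)⁻¹) * A⁻¹) * σ Five.t by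
        simp only [hB, map_mul, _root_.mul_inv_rev, hT, mul_assoc, A]]
      convert h using 1
      group
    set y := A * B with hy
    have hy3 : orderOf (ψ y) = 3 := by
      rw [hy, map_mul, hσ, hB, hσ]
      exact orderOf_eq_prime (hp := ⟨Nat.prime_three⟩) (by decide +kernel) (by decide +kernel)
    have hyf := fpf_of_map_three ψ hs hN hy3
    have hyW : ∀ n ∈ N, n * (y * n * y⁻¹) ∈ W := by
      intro n hn
      have hh := mul_mem (hcon n hn) (‹W.Normal›.conj_mem _ (hcB n hn) A)
      rw [show n * (y * n * y⁻¹) = n * (A * n * A⁻¹) * (A * (n * (B * n * B⁻¹)) * A⁻¹) from ?_]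
      · exact hh
      · have e : A * n * A⁻¹ * (A * n * A⁻¹) = 1 := hN _ (cj A hn)
        rw [hy]
        calc n * (A * B * n * (A * B)⁻¹) = n * (A * n * A⁻¹ * (A * n * A⁻¹)) * (A * B * n * (A * B)⁻¹) := by
              rw [e, mul_one]
          _ = _ := by group
    intro m hm
    let F : N → N := fun n => ⟨n * (y * n * y⁻¹), mul_mem n.2 (cj y n.2)⟩
    have hF : Function.Injective F := by
      intro n n' e
      have e' : (n : G) * (y * n * y⁻¹) = n' * (y * n' * y⁻¹) := congrArg Subtype.val e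
      have hm : (n : G) * n' ∈ N := mul_mem n.2 n'.2
      have h1 : (n : G) * n' * (y * ((n : G) * n') * y⁻¹) = 1 := by
        calc (n : G) * n' * (y * ((n : G) * n') * y⁻¹) = n * (n' * (y * n * y⁻¹)) * (y * n' * y⁻¹) := by group
          _ = n * ((y * n * y⁻¹) * n') * (y * n' * y⁻¹) := by
            rw [(commute_of_exp_two hN n'.2 (cj y n.2)).eq]
          _ = (n * (y * n * y⁻¹)) * (n' * (y * n' * y⁻¹)) := by group
          _ = 1 := by rw [e']; exact hN _ (mul_mem n'.2 (cj y n'.2))
      have h2 : y * ((n : G) * n') * y⁻¹ = (n : G) * n' :=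
        (inv_eq_of_mul_eq_one_right h1).symm.trans (inv_eq_of_mul_eq_one_right (hN _ hm))
      have h3 := hyf _ hm (mul_inv_eq_iff_eq_mul.1 h2)
      exact Subtype.ext (by
        rw [eq_inv_of_mul_eq_one_left h3]
        exact inv_eq_of_mul_eq_one_right (hN _ n'.2))
    obtain ⟨n, hn⟩ := Finite.injective_iff_surjective.1 hF ⟨m, hm⟩
    have := hyW n n.2
    rwa [show (n : G) * (y * n * y⁻¹) = m from congrArg Subtype.val hn] at this
  obtain ⟨n, hn, hnW⟩ := key
  apply hcrit ⊤ (W.subgroupOf ⊤) (Or.inr fun e => hW1 (by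
    rw [Subgroup.subgroupOf_eq_bot, disjoint_top] at e
    exact e))
  ext k
  constructor
  · rintro ⟨q, rfl⟩
    obtain ⟨g, rfl⟩ := hfs q
    have hd := orderOf_map_dvd f g
    have h1 := Nat.le_of_dvd (orderOf_pos g) hd
    have h2 := orderOf_pos (f g)
    have h3 := hs g
    simp only [Set.mem_insert_iff, Set.mem_singleton_iff]
    omega
  · have hprime : ∀ {p : ℕ} (π : alternatingGroup (Fin 5)), p.Prime → orderOf π = p →
        orderOf (f (σ π)) = p := by
      intro p π hp hπ
      refine orderOf_eq_prime (hp := ⟨hp⟩) ?_ ?_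
      · rw [← map_pow, ← map_pow, ← hπ, pow_orderOf_eq_one, map_one, map_one]
      · intro e
        have := hmem.1 (hW ((hf1 _).1 e))
        rw [hσ] at this
        rw [this, orderOf_one] at hπ
        exact hp.ne_one hπ.symm
    rintro (rfl | rfl | rfl | rfl | rfl)
    · exact ⟨1, orderOf_one⟩
    · exact ⟨_, hprime _ Nat.prime_two Five.orderOf_a⟩
    · exact ⟨_, hprime _ Nat.prime_three Five.orderOf_x⟩
    · refine ⟨f (n * σ Five.a), ?_⟩
      have hA2 : σ Five.a * σ Five.a = 1 := by rw [← map_mul, Five.a_sq, map_one]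
      have hsq : n * σ Five.a * (n * σ Five.a) = n * (σ Five.a * n * (σ Five.a)⁻¹) := by
        rw [inv_eq_of_mul_eq_one_right hA2]; group
      refine orderOf_eq_prime_pow (p := 2) (n := 1) (hp := ⟨Nat.prime_two⟩) ?_ ?_
      · rw [← map_pow, hf1, pow_one, pow_two, hsq]
        exact hnW
      · rw [← map_pow]
        rw [show (n * σ Five.a) ^ 2 ^ (1 + 1) = (n * σ Five.a * (n * σ Five.a)) * (n * σ Five.a * (n * σ Five.a)) by
          rw [show (2 : ℕ) ^ (1 + 1) = 2 + 2 by norm_num, pow_add, pow_two],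
          hN _ (by rw [hsq]; exact mul_mem hn (‹N.Normal›.conj_mem n hn _)), map_one]
    · rcases Five.orderOf_five with e | e <;> exact ⟨_, hprime _ Nat.prime_five e⟩

/-- The critical groups for the element orders `1, …, 5`. -/
theorem critical_cases
    (hspec : Set.range (orderOf : G → ℕ) = ({1, 2, 3, 4, 5} : Set ℕ))
    (hcrit : ∀ (H : Subgroup G) (K : Subgroup ↥H) [K.Normal], (H ≠ ⊤ ∨ K ≠ ⊥) →
      Set.range (orderOf : (↥H ⧸ K) → ℕ) ≠ ({1, 2, 3, 4, 5} : Set ℕ)) :
    Nonempty (G ≃* alternatingGroup (Fin 6)) ∨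
      ∃ (F : Type) (_ : Field F) (_ : Fintype F), Fintype.card F = 4 ∧ Nonempty (G ≃* AG F) := by
  classical
  have h : Set.range (orderOf : G → ℕ) = {k : ℕ | 1 ≤ k ∧ k ≤ 5} := by
    rw [hspec]
    ext k
    simp only [Set.mem_insert_iff, Set.mem_singleton_iff, Set.mem_ofPred_eq]
    omega
  have hs : Small G := fun g => by
    have : orderOf g ∈ {k : ℕ | 1 ≤ k ∧ k ≤ 5} := h ▸ ⟨g, rfl⟩
    exact this.2
  rcases main h with h6 | ⟨N, hNn, hp, hN, ⟨φ⟩⟩
  · exact Or.inl h6
  right
  haveI := hNn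
  set ψ : G →* alternatingGroup (Fin 5) := φ.toMonoidHom.comp (QuotientGroup.mk' N) with hψdef
  have hψ : Function.Surjective ψ := φ.surjective.comp (QuotientGroup.mk'_surjective N)
  have hker : ψ.ker = N := by
    ext g
    simp [hψdef]
  obtain ⟨σ, hσ⟩ := exists_section ψ hs hψ hker hN
  have hmem : ∀ {g : G}, g ∈ N ↔ ψ g = 1 := fun {g} => by rw [← hker, MonoidHom.mem_ker]
  -- an element of order four forces `N` nontrivial
  have hN1 : N ≠ ⊥ := by
    intro e
    obtain ⟨g, hg⟩ : (4 : ℕ) ∈ Set.range (orderOf : G → ℕ) := by rw [hspec]; simp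
    have hinj : Function.Injective ψ := (MonoidHom.ker_eq_bot_iff ψ).1 (hker.trans e)
    have h4 := orderOf_injective ψ hinj g
    have : ∀ π : alternatingGroup (Fin 5), π ^ 2 = 1 ∨ π ^ 3 = 1 ∨ π ^ 5 = 1 := by decide +kernel
    rcases this (ψ g) with e | e | e <;> have := orderOf_dvd_of_pow_eq_one e <;> rw [h4, hg] at this <;>
      norm_num at this
  letI : CommGroup N := { (inferInstance : Group N) with
    mul_comm := fun a b => Subtype.ext (commute_of_exp_two hN a.2 b.2).eq }
  let ρ : alternatingGroup (Fin 5) →* AddMonoid.End (Additive N) :=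
    { toFun := fun π => MonoidHom.toAdditive (MulAut.conjNormal (H := N) (σ π)).toMonoidHom
      map_one' := by
        refine AddMonoidHom.ext fun v => Additive.toMul.injective (Subtype.ext ?_)
        show σ 1 * ((Additive.toMul v : N) : G) * (σ 1)⁻¹ = ((Additive.toMul v : N) : G)
        rw [map_one, one_mul, inv_one, mul_one]
      map_mul' := fun π π' => by
        refine AddMonoidHom.ext fun v => Additive.toMul.injective (Subtype.ext ?_)
        show σ (π * π') * ((Additive.toMul v : N) : G) * (σ (π * π'))⁻¹ =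
          σ π * (σ π' * ((Additive.toMul v : N) : G) * (σ π')⁻¹) * (σ π)⁻¹
        rw [map_mul]; group }
  have hρ : ∀ π (v : Additive N),
      ((Additive.toMul (ρ π v) : N) : G) = σ π * ((Additive.toMul v : N) : G) * (σ π)⁻¹ :=
    fun π v => MulAut.conjNormal_apply _ _
  haveI : Nontrivial (Additive N) := by
    haveI := (Subgroup.nontrivial_iff_ne_bot N).2 hN1
    infer_instance
  obtain ⟨F, hFf, hFt, hF⟩ : ∃ (F : Type) (_ : Field F) (_ : Fintype F), Fintype.card F = 4 := by
    haveI : Fact (Nat.Prime 2) := ⟨Nat.prime_two⟩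
    letI := Fintype.ofFinite (GaloisField 2 2)
    refine ⟨GaloisField 2 2, inferInstance, inferInstance, ?_⟩
    rw [← Nat.card_eq_fintype_card, GaloisField.card 2 2 (by norm_num)]
    norm_num
  refine ⟨F, hFf, hFt, hF, ?_⟩
  obtain ⟨ι, w, hw, hX, hT, hA⟩ := natural ρ (fun v => by
      apply Additive.toMul.injective
      exact Subtype.ext (hN _ (Additive.toMul v).2))
    (fun π h3 h1 v hv => by
      have ho : orderOf π = 3 := orderOf_eq_prime (hp := ⟨Nat.prime_three⟩) (by rw [pow_succ, pow_two]; exact h3) h1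
      have e := congrArg (fun v : Additive N => ((Additive.toMul v : N) : G)) hv
      rw [hρ] at e
      apply Additive.toMul.injective
      refine Subtype.ext (fpf_of_map_three ψ hs hN (g := σ π) (by rw [hσ]; exact ho) _ (Additive.toMul v).2 ?_)
      exact mul_inv_eq_iff_eq_mul.1 e)
    (fun W hinv hW => by
      set W' := (AddSubgroup.toSubgroup' W).map N.subtype with hW'
      have hle : W' ≤ N := Subgroup.map_subtype_le _
      haveI : W'.Normal := ⟨by
        rintro _ ⟨⟨n, hn⟩, hnW, rfl⟩ g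
        refine ⟨Additive.toMul (ρ (ψ g) (Additive.ofMul (⟨n, hn⟩ : N))), hinv _ _ hnW, ?_⟩
        rw [Subgroup.coe_subtype, hρ]
        exact conj_eq_of_map_eq ψ hker hN (by rw [hσ]) hn⟩
      have hne : W' ≠ ⊥ := by
        rw [hW', Ne, Subgroup.map_eq_bot_iff_of_injective _ N.subtype_injective]
        exact fun e => hW (by simpa using congrArg (OrderIso.symm AddSubgroup.toSubgroup') e)
      have he := eq_of_normal_le ψ σ hσ hs hker hN hcrit W' hle hne
      rw [eq_top_iff]
      intro v _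
      have : ((Additive.toMul v : N) : G) ∈ W' := he.symm ▸ (Additive.toMul v).2
      obtain ⟨m, hm, hmv⟩ := this
      rw [Subtype.coe_injective hmv] at hm
      exact hm)
    hF
  let J : F × F → G := fun z => ((Additive.toMul (ι z) : N) : G)
  have hconj : ∀ π z z', ρ π (ι z) = ι z' → σ π * J z * (σ π)⁻¹ = J z' := fun π z z' e => by
    show σ π * ((Additive.toMul (ι z) : N) : G) * (σ π)⁻¹ = ((Additive.toMul (ι z') : N) : G)
    rw [← hρ, e]
  refine nonempty_affine ψ σ hσ J (fun z z' => ?_) (fun z z' e => ι.injective ?_) (fun g => ⟨fun hg => ?_, ?_⟩)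
    (fun p q => hconj _ _ _ (hX p q)) (fun p q => hconj _ _ _ (hT p q)) (fun p q => hconj _ _ _ (hA p q)) hw hF
  · show ((Additive.toMul (ι (z + z')) : N) : G) = _
    rw [map_add]; rfl
  · exact Additive.toMul.injective (Subtype.ext e)
  · refine ⟨ι.symm (Additive.ofMul ⟨g, hmem.2 hg⟩), ?_⟩
    simp [J]
  · rintro ⟨z, rfl⟩
    exact hmem.1 (Additive.toMul (ι z)).2

end CfsgLib.SpecFive
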