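import Cfsg.Agent.SpecFive.Critical

/-!
A split extension by the natural module is the affine special linear group.
-/

set_option autoImplicit false
set_option linter.unusedSectionVars false

namespace CfsgLib.SpecFive

open Matrix CfsgLib.SpecBlow.A6

variable {F : Type} [Field F]

/-- The affine action of a matrix. -/
def act (M : AG F) (z : F × F) : F × F :=
  let A := ((M : SpecialLinearGroup (Fin 3) F) : Matrix (Fin 3) (Fin 3) F)
  (A 0 0 * z.1 + A 0 1 * z.2 + A 0 2, A 1 0 * z.1 + A 1 1 * z.2 + A 1 2)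

theorem act_one (z : F × F) : act (1 : AG F) z = z := by simp [act]

theorem act_mul (M M' : AG F) (z : F × F) : act (M * M') z = act M (act M' z) := by
  have h0 := row_of_mem M'.2 0
  have h1 := row_of_mem M'.2 1
  have h2 := row_of_mem M'.2 2
  simp [act, Matrix.mul_apply, Fin.sum_univ_three, h0, h1, h2]
  constructor <;> ring

theorem act_mk (a b c d u v : F) (h : a * d - b * c = 1) (z : F × F) :
    act (mk a b c d u v h) z = (a * z.1 + b * z.2 + u, c * z.1 + d * z.2 + v) := by
  simp [act, mk]

theorem act_injective {M M' : AG F} (h : ∀ z, act M z = act M' z) : M = M' := by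
  have e0 := h (0, 0)
  have e1 := h (1, 0)
  have e2 := h (0, 1)
  simp only [act, mul_zero, mul_one, zero_add, add_zero, Prod.mk.injEq] at e0 e1 e2
  rw [e0.1, e0.2, add_left_inj, add_left_inj] at e1 e2
  refine Subtype.ext (Subtype.ext (Matrix.ext fun i j => ?_))
  fin_cases i <;> fin_cases j
  · exact e1.1
  · exact e2.1
  · exact e0.1
  · exact e1.2
  · exact e2.2
  · exact e0.2
  all_goals exact (row_of_mem M.2 _).trans (row_of_mem M'.2 _).symm

section

variable {G : Type*} [Group G] [Finite G] (ψ : G →* alternatingGroup (Fin 5))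
  (σ : alternatingGroup (Fin 5) →* G) (hσ : ∀ π, ψ (σ π) = π)
  (J : F × F → G) (hJadd : ∀ z z', J (z + z') = J z * J z') (hJinj : Function.Injective J)
  (hJker : ∀ g, ψ g = 1 ↔ ∃ z, J z = g)
  {w : F}
  (hX : ∀ p q, σ Five.x * J (p, q) * (σ Five.x)⁻¹ = J (w * p, (w + 1) * q))
  (hT : ∀ p q, σ Five.t * J (p, q) * (σ Five.t)⁻¹ = J (q, p))
  (hA : ∀ p q, σ Five.a * J (p, q) * (σ Five.a)⁻¹ = J (p + q, q))
  (hw : w * w + w + 1 = 0) [Fintype F] (hF : Fintype.card F = 4)

/-- The relation between an element and its matrix. -/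
def Rel (g : G) (M : AG F) : Prop := ∀ z, g * J z * (σ (ψ g))⁻¹ = J (act M z)

theorem rel_one : Rel ψ σ J 1 (1 : AG F) := fun z => by simp [act_one]

theorem rel_mul {g h : G} {M M' : AG F} (h1 : Rel ψ σ J g M) (h2 : Rel ψ σ J h M') :
    Rel ψ σ J (g * h) (M * M') := fun z => by
  rw [act_mul, ← h1, ← h2, map_mul, map_mul]
  group

include hJinj in
theorem rel_unique {g : G} {M M' : AG F} (h1 : Rel ψ σ J g M) (h2 : Rel ψ σ J g M') : M = M' :=
  act_injective fun z => hJinj ((h1 z).symm.trans (h2 z))

include hσ hJadd hJker hX hT hA hw hF in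
theorem exists_rel (g : G) : ∃ M : AG F, Rel ψ σ J g M := by
  haveI := charP_two hF
  have two : (2 : F) = 0 := CharTwo.two_eq_zero
  have hgen : ∀ π, ∃ M : AG F, Rel ψ σ J (σ π) M := by
    intro π
    have hg : π ∈ Subgroup.closure ({Five.a, Five.x, Five.t} : Set (alternatingGroup (Fin 5))) :=
      Five.closure_eq_top ▸ Subgroup.mem_top π
    induction hg using Subgroup.closure_induction with
    | mem π hπ =>
      rcases hπ with rfl | rfl | rfl
      · exact ⟨mk 1 1 0 1 0 0 (by ring), fun ⟨p, q⟩ => by rw [hσ, hA, act_mk]; simp⟩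
      · exact ⟨mk w 0 0 (w + 1) 0 0 (by linear_combination hw - two), fun ⟨p, q⟩ => by rw [hσ, hX, act_mk]; simp⟩
      · exact ⟨mk 0 1 1 0 0 0 (by linear_combination -two), fun ⟨p, q⟩ => by rw [hσ, hT, act_mk]; simp⟩
    | one => exact ⟨1, by rw [map_one]; exact rel_one ψ σ J⟩
    | mul π π' _ _ e e' =>
      obtain ⟨M, hM⟩ := e
      obtain ⟨M', hM'⟩ := e'
      exact ⟨M * M', by rw [map_mul]; exact rel_mul ψ σ J hM hM'⟩
    | inv π _ e =>
      obtain ⟨M, hM⟩ := e
      have hp : ∀ n : ℕ, Rel ψ σ J (σ π ^ n) (M ^ n) := by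
        intro n
        induction n with
        | zero => rw [pow_zero, pow_zero]; exact rel_one ψ σ J
        | succ n ih => rw [pow_succ, pow_succ]; exact rel_mul ψ σ J ih hM
      refine ⟨M ^ (orderOf (σ π) - 1), ?_⟩
      rw [map_inv, show (σ π)⁻¹ = σ π ^ (orderOf (σ π) - 1) from inv_eq_of_mul_eq_one_right (by
        rw [← pow_succ', Nat.sub_add_cancel (orderOf_pos _), pow_orderOf_eq_one])]
      exact hp _
  obtain ⟨⟨u, v⟩, hz⟩ := (hJker (g * (σ (ψ g))⁻¹)).1 (by rw [map_mul, map_inv, hσ, mul_inv_cancel])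
  have htr : Rel ψ σ J (J (u, v)) (mk 1 0 0 1 u v (by ring)) := fun ⟨p, q⟩ => by
    rw [(hJker _).2 ⟨_, rfl⟩, map_one, inv_one, mul_one, act_mk, ← hJadd]
    simp [add_comm]
  obtain ⟨M, hM⟩ := hgen (ψ g)
  refine ⟨mk 1 0 0 1 u v (by ring) * M, ?_⟩
  have := rel_mul ψ σ J htr hM
  rwa [hz, inv_mul_cancel_right] at this

include hσ hJadd hJinj hJker hX hT hA hw hF in
theorem nonempty_affine : Nonempty (G ≃* AG F) := by
  haveI := charP_two hF
  have two : (2 : F) = 0 := CharTwo.two_eq_zero
  have hex := exists_rel ψ σ hσ J hJadd hJker hX hT hA hw hF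
  choose Φ hΦ using hex
  have hΦu : ∀ {g : G} {M : AG F}, Rel ψ σ J g M → Φ g = M := fun {g M} h => rel_unique ψ σ J hJinj (hΦ g) h
  let f : G →* AG F := MonoidHom.mk' Φ fun g h => hΦu (rel_mul ψ σ J (hΦ g) (hΦ h))
  have hJ0 : J 0 = 1 := by
    have := hJadd 0 0
    rw [add_zero] at this
    exact left_eq_mul.1 this
  have hinj : Function.Injective f := by
    rw [injective_iff_map_eq_one]
    intro g hg
    have hr : ∀ z, g * J z * (σ (ψ g))⁻¹ = J z := fun z => by
      have := hΦ g z
      rwa [show Φ g = 1 from hg, act_one] at this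
    have hg' : g = σ (ψ g) := by
      have := hr 0
      rw [hJ0, mul_one] at this
      exact mul_inv_eq_one.1 this
    have hπ : ψ g = 1 := by
      by_contra hne
      let K : Subgroup (alternatingGroup (Fin 5)) :=
        { carrier := {π | ∀ z, σ π * J z = J z * σ π}
          one_mem' := fun z => by rw [map_one, one_mul, mul_one]
          mul_mem' := fun {a b} ha hb z => by rw [map_mul, mul_assoc, hb, ← mul_assoc, ha, mul_assoc]
          inv_mem' := fun {a} ha z => by
            rw [map_inv]
            calc (σ a)⁻¹ * J z = (σ a)⁻¹ * (J z * σ a) * (σ a)⁻¹ := by group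
              _ = (σ a)⁻¹ * (σ a * J z) * (σ a)⁻¹ := by rw [← ha z]
              _ = _ := by group }
      haveI : K.Normal := ⟨fun π hπ ρ z => by
        obtain ⟨z', hz'⟩ := (hJker ((σ ρ)⁻¹ * J z * σ ρ)).1 (by
          rw [map_mul, map_mul, map_inv, (hJker _).2 ⟨z, rfl⟩]; simp)
        rw [map_mul, map_mul, map_inv]
        have hk : σ π * J z' = J z' * σ π := hπ z'
        calc σ ρ * σ π * (σ ρ)⁻¹ * J z = σ ρ * (σ π * ((σ ρ)⁻¹ * J z * σ ρ)) * (σ ρ)⁻¹ := by group
          _ = σ ρ * (((σ ρ)⁻¹ * J z * σ ρ) * σ π) * (σ ρ)⁻¹ := by rw [← hz', hk]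
          _ = _ := by group⟩
      have hmem : ψ g ∈ K := fun z => by
        have := hr z
        rw [← hg'] at this ⊢
        exact mul_inv_eq_iff_eq_mul.1 this
      haveI := alternatingGroup.isSimpleGroup_five
      rcases Subgroup.Normal.eq_bot_or_eq_top (H := K) inferInstance with e | e
      · rw [e, Subgroup.mem_bot] at hmem
        exact hne hmem
      · have : Five.a ∈ K := e ▸ Subgroup.mem_top _
        have h1 := this (0, 1)
        have h2 := hA 0 1
        rw [h1, mul_inv_cancel_right, zero_add] at h2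
        exact one_ne_zero (congrArg Prod.fst (hJinj h2)).symm
    rw [hg', hπ, map_one]
  have hsurj : Function.Surjective f := by
    have htr : ∀ u v : F, mk 1 0 0 1 u v (by ring) ∈ f.range := fun u v => ⟨J (u, v), hΦu fun ⟨p, q⟩ => by
      rw [(hJker _).2 ⟨_, rfl⟩, map_one, inv_one, mul_one, act_mk, ← hJadd]
      simp [add_comm]⟩
    have hXf : f (σ Five.x) = mk w 0 0 (w + 1) 0 0 (by linear_combination hw - two) :=
      hΦu fun ⟨p, q⟩ => by rw [hσ, hX, act_mk]; simp
    have hAf : f (σ Five.a) = mk 1 1 0 1 0 0 (by ring) :=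
      hΦu fun ⟨p, q⟩ => by rw [hσ, hA, act_mk]; simp
    have hTf : f (σ Five.t) = mk 0 1 1 0 0 0 (by linear_combination -two) :=
      hΦu fun ⟨p, q⟩ => by rw [hσ, hT, act_mk]; simp
    have hxm : mk w 0 0 (w + 1) 0 0 (by linear_combination hw - two) ∈ f.range := ⟨_, hXf⟩
    have ham : mk 1 1 0 1 0 0 (by ring) ∈ f.range := ⟨_, hAf⟩
    have htm : mk 0 1 1 0 0 0 (by linear_combination -two) ∈ f.range := ⟨_, hTf⟩
    have h4 : ∀ p : F, p = 0 ∨ p = 1 ∨ p = w ∨ p = w + 1 := by
      intro p
      rcases trace_cases hF p with h | h | h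
      · exact Or.inl h
      · exact Or.inr (Or.inl h)
      · have : (p - w) * (p - (w + 1)) = 0 := by linear_combination h + hw - (w * p + p + 1) * two
        rcases mul_eq_zero.1 this with e | e
        · exact Or.inr (Or.inr (Or.inl (sub_eq_zero.1 e)))
        · exact Or.inr (Or.inr (Or.inr (sub_eq_zero.1 e)))
    have hup : ∀ p : F, mk 1 p 0 1 0 0 (by ring) ∈ f.range := by
      intro p
      rcases h4 p with h | h | h | h <;> simp only [h]
      · exact htr 0 0
      · exact ham
      · refine (mul_mem_cancel_left (H := f.range) hxm).1 ?_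
        convert mul_mem ham hxm using 1
        refine act_injective fun ⟨p, q⟩ => ?_
        simp only [act_mul, act_mk, Prod.mk.injEq]
        constructor
        · linear_combination q * hw - q * (w + 1) * two
        · ring
      · refine (mul_mem_cancel_right (H := f.range) hxm).1 ?_
        convert mul_mem hxm ham using 1
        refine act_injective fun ⟨p, q⟩ => ?_
        simp only [act_mul, act_mk, Prod.mk.injEq]
        constructor
        · linear_combination (w + 1) * q * two * 0 + (q * hw)
        · ring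
    have hlow : ∀ c : F, mk 1 0 c 1 0 0 (by ring) ∈ f.range := by
      intro c
      convert mul_mem (mul_mem htm (hup c)) htm using 1
      refine act_injective fun ⟨p, q⟩ => ?_
      simp only [act_mul, act_mk, Prod.mk.injEq]
      constructor <;> ring
    have hlin' : ∀ (a b c d : F) (h : a * d - b * c = 1), c ≠ 0 → mk a b c d 0 0 h ∈ f.range := by
      intro a b c d h hc
      convert mul_mem (mul_mem (hup ((a - 1) / c)) (hlow c)) (hup ((d - 1) / c)) using 1
      refine act_injective fun ⟨p, q⟩ => ?_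
      simp only [act_mul, act_mk, Prod.mk.injEq]
      constructor
      · field_simp
        linear_combination -(q * h)
      · field_simp
        ring
    have hlin : ∀ (a b c d : F) (h : a * d - b * c = 1), mk a b c d 0 0 h ∈ f.range := by
      intro a b c d h
      by_cases hc : c = 0
      · have ha : c + a ≠ 0 := by
          intro e
          rw [hc, zero_add] at e
          rw [e, hc] at h
          simp at h
        refine (mul_mem_cancel_left (H := f.range) (hlow 1)).1 ?_
        convert hlin' a b (c + a) (b + d) (by linear_combination h) ha using 1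
        refine act_injective fun ⟨p, q⟩ => ?_
        simp only [act_mul, act_mk, Prod.mk.injEq]
        constructor <;> ring
      · exact hlin' a b c d h hc
    intro M
    have hd : ((M : SpecialLinearGroup (Fin 3) F) : Matrix (Fin 3) (Fin 3) F).det = 1 := M.1.2
    have r0 := row_of_mem M.2 0
    have r1 := row_of_mem M.2 1
    have r2 := row_of_mem M.2 2
    set A := ((M : SpecialLinearGroup (Fin 3) F) : Matrix (Fin 3) (Fin 3) F) with hAdef
    simp at r0 r1 r2
    rw [Matrix.det_fin_three, r0, r1, r2] at hd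
    have hmem := mul_mem (htr (A 0 2) (A 1 2)) (hlin (A 0 0) (A 0 1) (A 1 0) (A 1 1) (by linear_combination hd))
    obtain ⟨g, hg⟩ := hmem
    refine ⟨g, hg.trans (act_injective fun ⟨p, q⟩ => ?_)⟩
    simp only [act_mul, act_mk]
    simp [act, hAdef]
  exact ⟨MulEquiv.ofBijective f ⟨hinj, hsurj⟩⟩

end

end CfsgLib.SpecFive
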