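import Mathlib.Tactic

/-!
Arithmetic for groups with element orders at most five.
-/

set_option autoImplicit false

namespace CfsgLib.SpecFive.Arith

/-- Indicator of an even value. -/
def ev (k : ℕ) : ℚ := if 2 ∣ k then 1 else 0

theorem pow_three (u : ℕ) (hu : 1 ≤ u) : (3 : ℚ) ^ u = 3 ∨ (9 : ℚ) ≤ 3 ^ u := by
  rcases Nat.lt_or_ge u 2 with h | h
  · left; rw [show u = 1 by omega]; norm_num
  · right
    calc (9 : ℚ) = 3 ^ 2 := by norm_num
      _ ≤ _ := pow_le_pow_right₀ (by norm_num) h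

theorem pow_five (v : ℕ) (hv : 1 ≤ v) : (5 : ℚ) ^ v = 5 ∨ (25 : ℚ) ≤ 5 ^ v := by
  rcases Nat.lt_or_ge v 2 with h | h
  · left; rw [show v = 1 by omega]; norm_num
  · right
    calc (25 : ℚ) = 5 ^ 2 := by norm_num
      _ ≤ _ := pow_le_pow_right₀ (by norm_num) h

/-- The strongly embedded case with three involutions in a Sylow subgroup. -/
theorem three {u v n k3 k5 : ℕ} (hu : 1 ≤ u) (hv : 1 ≤ v)
    (h3 : k3 = 1 ∨ k3 = 2 ∨ k3 = 4 ∨ k3 = 8 ∨ k3 = 5) (h5 : k5 = 1 ∨ k5 = 2 ∨ k5 = 4 ∨ k5 = 8 ∨ k5 = 3)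
    (e1 : (3 : ℚ) ^ u * 5 ^ v = 3 + 2 ^ n * (ev k3 * (((3 : ℚ) ^ u - 1) / k3) + ev k5 * (((5 : ℚ) ^ v - 1) / k5)))
    (e2 : 3 * ((5 : ℚ) ^ v * (((3 : ℚ) ^ u - 1) / k3) + (3 : ℚ) ^ u * (((5 : ℚ) ^ v - 1) / k5)) -
      2 * ((3 : ℚ) ^ u * 5 ^ v) = ev k3 * (((3 : ℚ) ^ u - 1) / k3) + ev k5 * (((5 : ℚ) ^ v - 1) / k5)) :
    u = 1 ∧ v = 1 ∧ n = 2 := by
  have hP3 : (3 : ℚ) ≤ 3 ^ u := by
    rcases pow_three u hu with e | e <;> linarith
  have hQ5 : (5 : ℚ) ≤ 5 ^ v := by
    rcases pow_five v hv with e | e <;> linarith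
  have hP := pow_three u hu
  have hQ := pow_five v hv
  have hPQ : (15 : ℚ) ≤ 3 ^ u * 5 ^ v := by nlinarith
  rcases h3 with rfl | rfl | rfl | rfl | rfl <;> rcases h5 with rfl | rfl | rfl | rfl | rfl <;>
    norm_num [ev] at e1 e2 <;> try (exfalso; nlinarith)
  · -- both two
    have key : (3 : ℚ) ^ u * 5 ^ v - 2 * 3 ^ u - 2 * 5 ^ v + 1 = 0 := by linarith
    have hu1 : u = 1 := by
      by_contra h
      have : (9 : ℚ) ≤ 3 ^ u := by
        calc (9 : ℚ) = 3 ^ 2 := by norm_num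
          _ ≤ _ := pow_le_pow_right₀ (by norm_num) (by omega)
      nlinarith
    subst hu1
    have hv1 : v = 1 := by
      by_contra h
      have : (25 : ℚ) ≤ 5 ^ v := by
        calc (25 : ℚ) = 5 ^ 2 := by norm_num
          _ ≤ _ := pow_le_pow_right₀ (by norm_num) (by omega)
      norm_num at key
      linarith
    subst hv1
    norm_num at e1
    refine ⟨rfl, rfl, ?_⟩
    have : (2 : ℚ) ^ n = 2 ^ 2 := by norm_num; linarith
    exact pow_right_injective₀ (by norm_num) (by norm_num) this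
  all_goals exfalso
  all_goals
    rcases hP with hp | hp
    · rw [hp] at e1 e2
      rcases hQ with hq | hq
      · rw [hq] at e1 e2; linarith
      · linarith
    · rcases hQ with hq | hq
      · rw [hq] at e1 e2
        have hu7 : u ≤ 6 := by
          by_contra h
          have : (2187 : ℚ) ≤ 3 ^ u := by
            calc (2187 : ℚ) = 3 ^ 7 := by norm_num
              _ ≤ _ := pow_le_pow_right₀ (by norm_num) (by omega)
          linarith
        interval_cases u <;> first | (norm_num at e1; done) | (norm_num at e2; done)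
      · have hu3 : u ≤ 3 := by
          by_contra h
          have : (81 : ℚ) ≤ 3 ^ u := by
            calc (81 : ℚ) = 3 ^ 4 := by norm_num
              _ ≤ _ := pow_le_pow_right₀ (by norm_num) (by omega)
          nlinarith
        interval_cases u
        all_goals
          try norm_num at hp
        all_goals
          norm_num at e1
        all_goals
          norm_num at e2
        all_goals
          have hv3 : v ≤ 3 := by
            by_contra h
            have : (625 : ℚ) ≤ 5 ^ v := by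
              calc (625 : ℚ) = 5 ^ 4 := by norm_num
                _ ≤ _ := pow_le_pow_right₀ (by norm_num) (by omega)
            linarith
          interval_cases v <;> (first | (norm_num at e1; done) | (norm_num at e2; done) | norm_num at e1 e2)
          all_goals
            have hn : (2 : ℚ) ^ n = 56 := by linarith
            have hn' : 2 ^ n = 56 := by exact_mod_cast hn
            have : n ≤ 5 := by
              by_contra h
              have : 2 ^ 6 ≤ 2 ^ n := Nat.pow_le_pow_right (by norm_num) (by omega)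
              omega
            interval_cases n <;> omega

/-- The strongly embedded case with one involution in a Sylow subgroup. -/
theorem one {u v k3 k5 : ℕ} (hu : 1 ≤ u) (hv : 1 ≤ v) (h3 : 1 ≤ k3) (h5 : 1 ≤ k5)
    (e : (5 : ℚ) ^ v * (((3 : ℚ) ^ u - 1) / k3) + (3 : ℚ) ^ u * (((5 : ℚ) ^ v - 1) / k5) =
      ev k3 * (((3 : ℚ) ^ u - 1) / k3) + ev k5 * (((5 : ℚ) ^ v - 1) / k5)) : False := by
  have hP3 : (3 : ℚ) ≤ 3 ^ u := by rcases pow_three u hu with e | e <;> linarith
  have hQ5 : (5 : ℚ) ≤ 5 ^ v := by rcases pow_five v hv with e | e <;> linarith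
  have ha : 0 < ((3 : ℚ) ^ u - 1) / k3 := by
    apply div_pos <;> [linarith; exact_mod_cast h3]
  have hb : 0 < ((5 : ℚ) ^ v - 1) / k5 := by
    apply div_pos <;> [linarith; exact_mod_cast h5]
  have hε : ∀ k, ev k ≤ 1 := fun k => by unfold ev; split <;> norm_num
  nlinarith [hε k3, hε k5]

/-- A dihedral Sylow two-subgroup of order eight. -/
theorem eight {u v k3 k5 : ℕ} (hu : 1 ≤ u) (hv : 1 ≤ v)
    (h3 : k3 = 1 ∨ k3 = 2 ∨ k3 = 4 ∨ k3 = 8 ∨ k3 = 5) (h5 : k5 = 1 ∨ k5 = 2 ∨ k5 = 4 ∨ k5 = 8 ∨ k5 = 3)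
    (e1 : (3 : ℚ) ^ u * 5 ^ v = 13 + 8 * (ev k3 * (((3 : ℚ) ^ u - 1) / k3) + ev k5 * (((5 : ℚ) ^ v - 1) / k5)))
    (e2 : 5 * ((3 : ℚ) ^ u * 5 ^ v) =
      1 + 8 * ((5 : ℚ) ^ v * (((3 : ℚ) ^ u - 1) / k3) + (3 : ℚ) ^ u * (((5 : ℚ) ^ v - 1) / k5))) :
    u = 2 ∧ v = 1 := by
  have hP3 : (3 : ℚ) ≤ 3 ^ u := by rcases pow_three u hu with e | e <;> linarith
  have hQ5 : (5 : ℚ) ≤ 5 ^ v := by rcases pow_five v hv with e | e <;> linarith
  have small : u ≤ 1 ∨ v ≤ 1 := by
    by_contra h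
    push Not at h
    have h9 : (9 : ℚ) ≤ 3 ^ u := by
      calc (9 : ℚ) = 3 ^ 2 := by norm_num
        _ ≤ _ := pow_le_pow_right₀ (by norm_num) (by omega)
    have h25 : (25 : ℚ) ≤ 5 ^ v := by
      calc (25 : ℚ) = 5 ^ 2 := by norm_num
        _ ≤ _ := pow_le_pow_right₀ (by norm_num) (by omega)
    rcases h3 with rfl | rfl | rfl | rfl | rfl <;> rcases h5 with rfl | rfl | rfl | rfl | rfl <;>
      norm_num [ev] at e1 <;> nlinarith
  rcases small with hs | hs
  · obtain rfl : u = 1 := by omega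
    exfalso
    have hv4 : v ≤ 3 := by
      by_contra h
      have h625 : (625 : ℚ) ≤ 5 ^ v := by
        calc (625 : ℚ) = 5 ^ 4 := by norm_num
          _ ≤ _ := pow_le_pow_right₀ (by norm_num) (by omega)
      rcases h3 with rfl | rfl | rfl | rfl | rfl <;> rcases h5 with rfl | rfl | rfl | rfl | rfl <;>
        norm_num [ev] at e1 <;> linarith
    interval_cases v <;> rcases h3 with rfl | rfl | rfl | rfl | rfl <;>
      rcases h5 with rfl | rfl | rfl | rfl | rfl <;>
      first | (norm_num [ev] at e1; done) | (norm_num [ev] at e2; done)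
  · obtain rfl : v = 1 := by omega
    have hu4 : u ≤ 5 := by
      by_contra h
      have h729 : (729 : ℚ) ≤ 3 ^ u := by
        calc (729 : ℚ) = 3 ^ 6 := by norm_num
          _ ≤ _ := pow_le_pow_right₀ (by norm_num) (by omega)
      rcases h3 with rfl | rfl | rfl | rfl | rfl <;> rcases h5 with rfl | rfl | rfl | rfl | rfl <;>
        norm_num [ev] at e1 <;> linarith
    interval_cases u <;> rcases h3 with rfl | rfl | rfl | rfl | rfl <;>
      rcases h5 with rfl | rfl | rfl | rfl | rfl <;>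
      first | exact ⟨rfl, rfl⟩ | (norm_num [ev] at e1; done) | (norm_num [ev] at e2; done)

/-- A Sylow two-subgroup of order sixty-four. -/
theorem sixtyFour {u v k3 k5 : ℕ} (hu : 1 ≤ u) (hv : 1 ≤ v)
    (h3 : k3 = 1 ∨ k3 = 2 ∨ k3 = 4 ∨ k3 = 8 ∨ k3 = 5) (h5 : k5 = 1 ∨ k5 = 2 ∨ k5 = 4 ∨ k5 = 8 ∨ k5 = 3)
    (hk5 : 2 ∣ k5)
    (e1 : (3 : ℚ) ^ u * 5 ^ v = 123 + 64 * (ev k3 * (((3 : ℚ) ^ u - 1) / k3) + ev k5 * (((5 : ℚ) ^ v - 1) / k5)))
    (e2 : 51 * ((3 : ℚ) ^ u * 5 ^ v) =
      1 + 64 * ((5 : ℚ) ^ v * (((3 : ℚ) ^ u - 1) / k3) + (3 : ℚ) ^ u * (((5 : ℚ) ^ v - 1) / k5))) :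
    False := by
  have hP3 : (3 : ℚ) ≤ 3 ^ u := by rcases pow_three u hu with e | e <;> linarith
  have hQ5 : (5 : ℚ) ≤ 5 ^ v := by rcases pow_five v hv with e | e <;> linarith
  have small : u ≤ 3 ∨ v ≤ 2 := by
    by_contra h
    push Not at h
    have h81 : (81 : ℚ) ≤ 3 ^ u := by
      calc (81 : ℚ) = 3 ^ 4 := by norm_num
        _ ≤ _ := pow_le_pow_right₀ (by norm_num) (by omega)
    have h125 : (125 : ℚ) ≤ 5 ^ v := by
      calc (125 : ℚ) = 5 ^ 3 := by norm_num
        _ ≤ _ := pow_le_pow_right₀ (by norm_num) (by omega)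
    rcases h3 with rfl | rfl | rfl | rfl | rfl <;> rcases h5 with rfl | rfl | rfl | rfl | rfl <;>
      norm_num [ev] at e1 <;> nlinarith
  rcases small with hs | hs
  · have hv4 : v ≤ 4 := by
      by_contra h
      have h3125 : (3125 : ℚ) ≤ 5 ^ v := by
        calc (3125 : ℚ) = 5 ^ 5 := by norm_num
          _ ≤ _ := pow_le_pow_right₀ (by norm_num) (by omega)
      interval_cases u <;> rcases h3 with rfl | rfl | rfl | rfl | rfl <;>
        rcases h5 with rfl | rfl | rfl | rfl | rfl <;> norm_num [ev] at e1 <;> linarith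
    interval_cases u <;> interval_cases v <;> rcases h3 with rfl | rfl | rfl | rfl | rfl <;>
      rcases h5 with rfl | rfl | rfl | rfl | rfl <;>
      first | (norm_num [ev] at e1; done) | (norm_num [ev] at e2; done) | (norm_num at hk5; done)
  · have hu7 : u ≤ 7 := by
      by_contra h
      have h6561 : (6561 : ℚ) ≤ 3 ^ u := by
        calc (6561 : ℚ) = 3 ^ 8 := by norm_num
          _ ≤ _ := pow_le_pow_right₀ (by norm_num) (by omega)
      interval_cases v <;> rcases h3 with rfl | rfl | rfl | rfl | rfl <;>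
        rcases h5 with rfl | rfl | rfl | rfl | rfl <;> norm_num [ev] at e1 <;> linarith
    interval_cases u <;> interval_cases v <;> rcases h3 with rfl | rfl | rfl | rfl | rfl <;>
      rcases h5 with rfl | rfl | rfl | rfl | rfl <;>
      first | (norm_num [ev] at e1; done) | (norm_num [ev] at e2; done) | (norm_num at hk5; done)

end CfsgLib.SpecFive.Arith
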