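import Cfsg.Agent.FGSB.SymThreeExponent
import Mathlib.GroupTheory.Sylow
import Mathlib.GroupTheory.PGroup
import Mathlib.GroupTheory.Commutator.Basic

/-!
Finite groups all of whose element orders are at most five: elementary facts.
-/

set_option autoImplicit false
set_option linter.unusedSectionVars false

namespace CfsgLib.SpecFive

open Subgroup
open scoped commutatorElement

variable {G : Type*} [Group G]

/-- All element orders are at most five. -/
def Small (G : Type*) [Group G] : Prop := ∀ g : G, orderOf g ≤ 5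

theorem Small.subgroup (h : Small G) (H : Subgroup G) : Small H := fun x => by
  rw [← Subgroup.orderOf_coe]; exact h x

variable [Finite G]

theorem Small.quotient (h : Small G) (N : Subgroup G) [N.Normal] : Small (G ⧸ N) := fun x => by
  obtain ⟨g, rfl⟩ := QuotientGroup.mk'_surjective N x
  exact (Nat.le_of_dvd (orderOf_pos g) (orderOf_map_dvd _ g)).trans (h g)

theorem Small.cases (h : Small G) (g : G) :
    g = 1 ∨ orderOf g = 2 ∨ orderOf g = 3 ∨ orderOf g = 4 ∨ orderOf g = 5 := by
  have h1 := h g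
  have h2 := orderOf_pos g
  rw [← orderOf_eq_one_iff]
  omega

theorem Small.isPrimePow (h : Small G) {g : G} (hg : g ≠ 1) : IsPrimePow (orderOf g) := by
  rcases h.cases g with e | e | e | e | e
  · exact absurd e hg
  · rw [e]; exact Nat.prime_two.isPrimePow
  · rw [e]; exact Nat.prime_three.isPrimePow
  · rw [e]; exact ⟨2, 2, Nat.prime_two.prime, by norm_num, by norm_num⟩
  · rw [e]; exact Nat.prime_five.isPrimePow

theorem Small.no_commute (h : Small G) {x y : G} (hc : Commute x y)
    (hco : (orderOf x).Coprime (orderOf y)) : x = 1 ∨ y = 1 := by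
  by_contra hne
  push Not at hne
  have h1 : 2 ≤ orderOf x := by
    have := orderOf_pos x
    have : orderOf x ≠ 1 := fun e => hne.1 (orderOf_eq_one_iff.1 e)
    omega
  have h2 : 2 ≤ orderOf y := by
    have := orderOf_pos y
    have : orderOf y ≠ 1 := fun e => hne.2 (orderOf_eq_one_iff.1 e)
    omega
  have h3 := h (x * y)
  rw [hc.orderOf_mul_eq_mul_orderOf_of_coprime hco] at h3
  have : orderOf x ≠ orderOf y := fun e => by
    rw [e, Nat.coprime_self] at hco; omega
  rcases Nat.lt_or_gt_of_ne this with hlt | hlt <;> nlinarith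

theorem Small.prime_cases (h : Small G) {p : ℕ} (hp : p.Prime) (hd : p ∣ Nat.card G) :
    p = 2 ∨ p = 3 ∨ p = 5 := by
  haveI := Fact.mk hp
  obtain ⟨x, hx⟩ := exists_prime_orderOf_dvd_card' p hd
  have := h x
  rw [hx] at this
  have := hp.two_le
  have : p ≠ 4 := fun e => by rw [e] at hp; norm_num at hp
  omega

theorem Small.pow_four (h : Small G) {p : G} {k : ℕ} (hp : p ^ (2 ^ k) = 1) : p ^ 4 = 1 := by
  obtain ⟨i, -, hi⟩ := (Nat.dvd_prime_pow Nat.prime_two).1 (orderOf_dvd_of_pow_eq_one hp)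
  have h5 := h p
  rw [hi] at h5
  have : i ≤ 2 := by
    by_contra hcon
    have : 2 ^ 3 ≤ 2 ^ i := Nat.pow_le_pow_right (by norm_num) (by omega)
    omega
  refine orderOf_dvd_iff_pow_eq_one.1 (hi ▸ ?_)
  rw [show (4 : ℕ) = 2 ^ 2 by norm_num]
  exact Nat.pow_dvd_pow 2 this

theorem Small.isPGroup_of_centralizes (h : Small G) {p : ℕ} (hp : p.Prime) {x : G}
    (hx : orderOf x = p) {H : Subgroup G} (hH : ∀ y ∈ H, Commute x y) : IsPGroup p H := by
  intro y
  by_cases hy : y = 1
  · exact ⟨0, by simp [hy]⟩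
  obtain ⟨r, k, hr, hk, hk'⟩ := h.isPrimePow (g := (y : G)) (fun e => hy (Subtype.ext e))
  by_cases hrp : r = p
  · refine ⟨k, Subtype.ext ?_⟩
    rw [Subgroup.coe_pow, ← hrp, hk', pow_orderOf_eq_one, Subgroup.coe_one]
  · exfalso
    rcases h.no_commute (hH y y.2) (by
      rw [hx, ← hk']
      exact Nat.Coprime.pow_right k ((Nat.coprime_primes hp hr.nat_prime).2 (Ne.symm hrp))) with e | e
    · rw [e, orderOf_one] at hx; exact hp.ne_one hx.symm
    · exact hy (Subtype.ext e)

/-- An element acts without fixed points on a subgroup. -/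
def Fpf (x : G) (U : Subgroup G) : Prop := ∀ u ∈ U, Commute x u → u = 1

theorem Small.fpf (h : Small G) {p : ℕ} (hp : p.Prime) {U : Subgroup G} (hU : IsPGroup p U) {x : G}
    (hx1 : x ≠ 1) (hx : (orderOf x).Coprime p) : Fpf x U := by
  intro u hu hc
  obtain ⟨k, hk⟩ := hU ⟨u, hu⟩
  have hd : orderOf u ∣ p ^ k := orderOf_dvd_of_pow_eq_one (congrArg Subtype.val hk)
  exact (h.no_commute hc ((Nat.Coprime.pow_right k hx).coprime_dvd_right hd)).resolve_left hx1

/-- All elements of the coset `x U` are conjugate to `x` by elements of `U`. -/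
theorem exists_conj_of_fpf {U : Subgroup G} [U.Normal] {x : G} (hx : Fpf x U) {u : G} (hu : u ∈ U) :
    ∃ v ∈ U, v⁻¹ * x * v = x * u := by
  let f : U → U := fun v => ⟨(x⁻¹ * (v : G)⁻¹ * x) * v, mul_mem
    (by simpa using Normal.conj_mem ‹U.Normal› _ (inv_mem v.2) x⁻¹) v.2⟩
  have hf : Function.Injective f := by
    intro v w hvw
    have e : x⁻¹ * (v : G)⁻¹ * x * v = x⁻¹ * (w : G)⁻¹ * x * w := congrArg Subtype.val hvw
    have e' : (v : G)⁻¹ * x * v = (w : G)⁻¹ * x * w := by
      have := congrArg (x * ·) e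
      simpa [mul_assoc] using this
    have hc : Commute x ((v : G) * (w : G)⁻¹) := by
      show x * ((v : G) * (w : G)⁻¹) = (v : G) * (w : G)⁻¹ * x
      calc x * ((v : G) * (w : G)⁻¹) = (v : G) * ((v : G)⁻¹ * x * v) * (w : G)⁻¹ := by group
        _ = (v : G) * ((w : G)⁻¹ * x * w) * (w : G)⁻¹ := by rw [e']
        _ = _ := by group
    exact Subtype.ext (mul_inv_eq_one.1 (hx _ (mul_mem v.2 (inv_mem w.2)) hc))
  obtain ⟨v, hv⟩ := (Finite.injective_iff_surjective.1 hf) ⟨u, hu⟩
  refine ⟨v, v.2, ?_⟩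
  have e : x⁻¹ * (v : G)⁻¹ * x * v = u := congrArg Subtype.val hv
  rw [← e]; group

theorem orderOf_mul_of_fpf {U : Subgroup G} [U.Normal] {x : G} (hx : Fpf x U) {u : G} (hu : u ∈ U) :
    orderOf (x * u) = orderOf x := by
  obtain ⟨v, -, hv⟩ := exists_conj_of_fpf hx hu
  rw [← hv]
  have h : v⁻¹ * x * v = MulAut.conj v⁻¹ x := by simp
  rw [h, MulEquiv.orderOf_eq]

/-- An involution acting without fixed points inverts. -/
theorem inverts_of_fpf {U : Subgroup G} [U.Normal] {t : G} (ht : t * t = 1) (hf : Fpf t U) {u : G}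
    (hu : u ∈ U) : t * u * t⁻¹ = u⁻¹ := by
  have ho := orderOf_mul_of_fpf hf hu
  have h2 : (t * u) * (t * u) = 1 := by
    by_cases h1 : t = 1
    · have := hf u hu (h1 ▸ Commute.one_left u)
      simp [h1, this]
    · rw [← pow_two, ← orderOf_dvd_iff_pow_eq_one, ho]
      exact orderOf_dvd_of_pow_eq_one (by rw [pow_two, ht])
  rw [inv_eq_of_mul_eq_one_right ht]
  exact eq_inv_of_mul_eq_one_left (by rw [← h2]; group)

/-- An element of order coprime and a prime `q` elementary pair cannot act without fixed points. -/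
theorem no_fpf_pair {V : Subgroup G} (hV : ∀ a ∈ V, ∀ b ∈ V, Commute a b) {q : ℕ} (hq : q.Prime)
    (hco : q.Coprime (Nat.card V)) (hV1 : V ≠ ⊥) {a b : G} (hab : Commute a b)
    (haV : ∀ v ∈ V, a * v * a⁻¹ ∈ V) (hbV : ∀ v ∈ V, b * v * b⁻¹ ∈ V) (haq : a ^ q = 1) (hbq : b ^ q = 1)
    (hb : Fpf b V) (hj : ∀ j < q, Fpf (a * b ^ j) V) : False := by
  classical
  haveI : IsMulCommutative V := ⟨⟨fun x y => Subtype.ext (hV _ x.2 _ y.2)⟩⟩
  letI : CommGroup V := { (inferInstance : Group V) with mul_comm := fun x y => Subtype.ext (hV _ x.2 _ y.2) }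
  let act : (g : G) → (∀ v ∈ V, g * v * g⁻¹ ∈ V) → (V →* V) := fun g hg =>
    { toFun := fun v => ⟨g * v * g⁻¹, hg v v.2⟩
      map_one' := Subtype.ext (by simp)
      map_mul' := fun v w => Subtype.ext (by simp [mul_assoc]) }
  let f := act a haV
  let g := act b hbV
  have fk : ∀ (k : ℕ) (v : V), ((f^[k] v : V) : G) = a ^ k * v * (a ^ k)⁻¹ := by
    intro k
    induction k with
    | zero => intro v; simp
    | succ k ih =>
      intro v
      rw [Function.iterate_succ_apply', show ((f (f^[k] v) : V) : G) = a * (f^[k] v : V) * a⁻¹ from rfl, ih, pow_succ']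
      group
  have gk : ∀ (k : ℕ) (v : V), ((g^[k] v : V) : G) = b ^ k * v * (b ^ k)⁻¹ := by
    intro k
    induction k with
    | zero => intro v; simp
    | succ k ih =>
      intro v
      rw [Function.iterate_succ_apply', show ((g (g^[k] v) : V) : G) = b * (g^[k] v : V) * b⁻¹ from rfl, ih, pow_succ']
      group
  -- norms along a fixed-point-free element vanish
  have norm1 : ∀ (φ : V →* V), (∀ v, φ v = v → v = 1) → (∀ v, φ^[q] v = v) →
      ∀ v : V, ∏ i ∈ Finset.range q, φ^[i] v = 1 := by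
    intro φ hφ hφq v
    apply hφ
    rw [map_prod]
    have e1 := Finset.prod_range_succ (fun i => φ^[i] v) q
    have e2 := Finset.prod_range_succ' (fun i => φ^[i] v) q
    rw [e1] at e2
    simp only [hφq, Function.iterate_zero, id_eq, Function.iterate_succ_apply'] at e2
    exact (mul_right_cancel e2).symm
  have hgf : ∀ j i (v : V), (g^[j] (f^[i] v) : V) = f^[i] (g^[j] v) := fun j i v => Subtype.ext (by
    rw [gk, fk, fk, gk]
    have := (hab.pow_pow i j).eq
    calc b ^ j * (a ^ i * v * (a ^ i)⁻¹) * (b ^ j)⁻¹ = (b ^ j * a ^ i) * v * (b ^ j * a ^ i)⁻¹ := by group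
      _ = (a ^ i * b ^ j) * v * (a ^ i * b ^ j)⁻¹ := by rw [this]
      _ = _ := by group)
  let F : ℕ → (V →* V) := fun j => act (a * b ^ j) (fun v hv => by
    have := haV _ (show b ^ j * v * (b ^ j)⁻¹ ∈ V by rw [← gk j ⟨v, hv⟩]; exact SetLike.coe_mem _)
    simpa [mul_assoc] using this)
  have Fk : ∀ j k (v : V), ((F j)^[k] v : V) = g^[j * k] (f^[k] v) := by
    intro j k v
    apply Subtype.ext
    rw [gk, fk]
    have : ∀ k, (((F j)^[k] v : V) : G) = (a * b ^ j) ^ k * v * ((a * b ^ j) ^ k)⁻¹ := by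
      intro k
      induction k with
      | zero => simp
      | succ k ih =>
        rw [Function.iterate_succ_apply',
          show ((F j ((F j)^[k] v) : V) : G) = a * b ^ j * ((F j)^[k] v : V) * (a * b ^ j)⁻¹ from rfl, ih, pow_succ' (a * b ^ j)]
        generalize a * b ^ j = c
        group
    rw [this, (hab.pow_right j).mul_pow, ← pow_mul, (hab.pow_pow k (j * k)).eq]
    group
  haveI : Nontrivial V := (nontrivial_iff_ne_bot V).2 hV1
  obtain ⟨v, hv⟩ := exists_ne (1 : V)
  have hA : ∀ j < q, ∏ i ∈ Finset.range q, g^[j * i] (f^[i] v) = 1 := fun j hjq => by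
    have := norm1 (F j) (fun w hw => Subtype.ext (hj j hjq w w.2 (by
      have e : a * b ^ j * (w : G) * (a * b ^ j)⁻¹ = w := congrArg Subtype.val hw
      exact mul_inv_eq_iff_eq_mul.1 e))) (fun w => Subtype.ext (by
        rw [Fk, gk, fk, haq, mul_comm j q, pow_mul, hbq]; simp)) v
    simpa only [Fk] using this
  have hB : ∀ i ∈ Finset.range q, i ≠ 0 → ∏ j ∈ Finset.range q, g^[j * i] (f^[i] v) = 1 := by
    intro i hi hi0
    rw [Finset.mem_range] at hi
    have hg : ∀ w : V, g^[i] w = (g^[i]) w := fun _ => rfl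
    let φ : V →* V := act (b ^ i) (fun w hw => by rw [← gk i ⟨w, hw⟩]; exact SetLike.coe_mem _)
    have φk : ∀ j (w : V), φ^[j] w = g^[j * i] w := fun j w => by
      rw [mul_comm, Function.iterate_mul]
      have : (φ : V → V) = g^[i] := funext fun w => Subtype.ext (by rw [gk]; rfl)
      rw [this]
    have := norm1 φ (fun w hw => Subtype.ext (hb w w.2 (by
      have e : b ^ i * (w : G) * (b ^ i)⁻¹ = w := congrArg Subtype.val hw
      have hc : Commute (b ^ i) (w : G) := mul_inv_eq_iff_eq_mul.1 e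
      have hcop : Nat.Coprime i (orderOf b) := by
        refine Nat.Coprime.coprime_dvd_right (orderOf_dvd_of_pow_eq_one hbq) ?_
        exact (hq.coprime_iff_not_dvd.2 fun h => absurd (Nat.le_of_dvd (by omega) h) (by omega)).symm
      obtain ⟨m, hm⟩ := exists_pow_eq_self_of_coprime hcop
      rw [← hm]
      exact hc.pow_left m))) (fun w => Subtype.ext (by
        rw [φk, gk, pow_mul, hbq]; simp)) (f^[i] v)
    simpa only [φk] using this
  have hsum := Finset.prod_comm (s := Finset.range q) (t := Finset.range q)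
    (f := fun j i => g^[j * i] (f^[i] v))
  rw [Finset.prod_eq_one (fun j hjq => hA j (Finset.mem_range.1 hjq)),
    Finset.prod_eq_single 0 (fun i hi h0 => hB i hi h0) (fun h => absurd (Finset.mem_range.2 hq.pos) h)] at hsum
  have hvq : v ^ q = 1 := by
    simpa using hsum.symm
  apply hv
  have : orderOf v ∣ q := orderOf_dvd_of_pow_eq_one hvq
  exact orderOf_eq_one_iff.1 (Nat.eq_one_of_dvd_coprimes hco this (orderOf_dvd_natCard v))

/-- A symmetric group of degree three with fixed-point-free three-part forces exponent two. -/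
theorem Small.exp_two_of_sym (h : Small G) (U : Subgroup G) [U.Normal] (hU : IsPGroup 2 U) (a x : G)
    (ha : a * a = 1) (hx : orderOf x = 3) (hinv : a * x * a⁻¹ = x⁻¹) : ∀ u ∈ U, u * u = 1 := by
  induction hn : Nat.card G using Nat.strong_induction_on generalizing G with
  | _ n ih =>
  by_cases hU1 : U = ⊥
  · intro u hu
    rw [hU1, mem_bot] at hu
    simp [hu]
  haveI : Nontrivial U := (nontrivial_iff_ne_bot U).2 hU1
  haveI := hU.center_nontrivial
  let W : Subgroup G := (center U).map U.subtype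
  have hW1 : W ≠ ⊥ := by
    rw [Ne, map_eq_bot_iff_of_injective _ U.subtype_injective]
    exact (nontrivial_iff_ne_bot _).1 inferInstance
  haveI hWn : W.Normal := inferInstance
  have hWU : W ≤ U := map_subtype_le _
  have hsm : Nat.card (G ⧸ W) < n := by
    rw [← hn, card_eq_card_quotient_mul_card_subgroup W]
    have := one_lt_card_iff_ne_bot W |>.2 hW1
    have := Nat.card_pos (α := G ⧸ W)
    nlinarith
  have hxW : ¬ x ∈ W := fun hxm => by
    obtain ⟨k, hk⟩ := hU ⟨x, hWU hxm⟩
    have := orderOf_dvd_of_pow_eq_one (congrArg Subtype.val hk : x ^ 2 ^ k = 1)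
    rw [hx] at this
    exact absurd ((Nat.prime_three).dvd_of_dvd_pow this) (by norm_num)
  have hq := ih _ hsm (h.quotient W) (U.map (QuotientGroup.mk' W)) (hU.map _) (QuotientGroup.mk' W a)
    (QuotientGroup.mk' W x) (by rw [← map_mul, ha, map_one])
    (by
      have hd := orderOf_map_dvd (QuotientGroup.mk' W) x
      rw [hx] at hd
      rcases (Nat.dvd_prime Nat.prime_three).1 hd with e | e
      · exact absurd ((QuotientGroup.eq_one_iff x).1 (orderOf_eq_one_iff.1 e)) hxW
      · exact e)
    (by rw [← map_inv, ← map_inv, ← map_mul, ← map_mul, hinv]) rfl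
  have hx1 : x ≠ 1 := fun e => by rw [e, orderOf_one] at hx; omega
  have hfpf : Fpf x U := h.fpf Nat.prime_two hU hx1 (by rw [hx]; norm_num)
  let mk : (g : G) → (U ≃* U) := fun g => (MulAut.conjNormal g)
  have hmk : ∀ g (u : U), ((mk g u : U) : G) = g * u * g⁻¹ := fun g u => MulAut.conjNormal_apply g u
  have hsq : ∀ m : U, m * m ∈ center U := by
    intro m
    have e := hq (QuotientGroup.mk' W m) (mem_map_of_mem _ m.2)
    rw [← map_mul, QuotientGroup.mk'_apply, QuotientGroup.eq_one_iff] at e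
    obtain ⟨c, hc, hce⟩ := e
    have : c = m * m := Subtype.ext hce
    exact this ▸ hc
  have hcl : commutator U ≤ center U := by
    rw [commutator_eq_closure, closure_le]
    rintro _ ⟨u, v, rfl⟩
    let π := QuotientGroup.mk' (center U)
    show ⁅u, v⁆ ∈ center U
    rw [← QuotientGroup.eq_one_iff, ← QuotientGroup.mk'_apply]
    show π ⁅u, v⁆ = 1
    rw [map_commutatorElement, commutatorElement_eq_one_iff_mul_comm]
    have hs : ∀ w, π w * π w = 1 := fun w => by
      rw [← map_mul]; exact (QuotientGroup.eq_one_iff _).2 (hsq w)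
    have e := hs (u * v)
    rw [map_mul] at e
    calc π u * π v = (π u * π v)⁻¹ := eq_inv_of_mul_eq_one_left e
      _ = (π v)⁻¹ * (π u)⁻¹ := mul_inv_rev _ _
      _ = _ := by rw [inv_eq_of_mul_eq_one_right (hs v), inv_eq_of_mul_eq_one_right (hs u)]
  have h4 : ∀ m : U, m ^ 4 = 1 := fun m => by
    obtain ⟨k, hk⟩ := hU m
    exact Subtype.ext (h.pow_four (p := (m : G)) (k := k) (congrArg Subtype.val hk))
  have ha' : a⁻¹ = a := inv_eq_of_mul_eq_one_right ha
  have hinvol : ∀ t : G, t * t = 1 → ∀ m : U, (mk t m * m) ^ 2 = 1 := by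
    intro t ht m
    have ht' : t⁻¹ = t := inv_eq_of_mul_eq_one_right ht
    apply Subtype.ext
    rw [Subgroup.coe_pow, Subgroup.coe_mul, hmk, ht', Subgroup.coe_one,
      show t * (m : G) * t * m = (t * m) ^ 2 by rw [pow_two]; group]
    obtain ⟨k, hk⟩ := hU ⟨t * m * t⁻¹ * m, mul_mem (‹U.Normal›.conj_mem _ m.2 t) m.2⟩
    have hk' := congrArg Subtype.val hk
    simp only [Subgroup.coe_pow, Subgroup.coe_one, ht'] at hk'
    rw [show t * (m : G) * t * m = (t * m) ^ 2 by rw [pow_two]; group, ← pow_mul, ← pow_succ'] at hk'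
    rw [← pow_mul]
    exact h.pow_four hk'
  have hax : a * x * (a * x) = 1 := by
    rw [show a * x * (a * x) = (a * x * a⁻¹) * (a * a * x) by group, hinv, ha, one_mul, inv_mul_cancel]
  intro u hu
  have := CfsgLib.SymThreeExponent.exp_two (mk x) (mk a)
    (fun m => Subtype.ext (by
      rw [hmk, hmk, hmk, show x * (x * (x * (m : G) * x⁻¹) * x⁻¹) * x⁻¹ = x ^ 3 * m * (x ^ 3)⁻¹ by
        rw [pow_succ, pow_two]; group, show x ^ 3 = 1 by rw [← hx]; exact pow_orderOf_eq_one x]
      simp))
    (fun m hm => Subtype.ext (hfpf m m.2 (by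
      have e := congrArg Subtype.val hm
      rw [hmk] at e
      exact mul_inv_eq_iff_eq_mul.1 e)))
    (fun m => Subtype.ext (by
      simp only [hmk]
      have e : a * x = x⁻¹ * a := by rw [← hinv]; group
      have e3 : x * x = x⁻¹ := by
        refine eq_inv_of_mul_eq_one_left ?_
        rw [← pow_two, ← pow_succ, show 2 + 1 = orderOf x by rw [hx]]
        exact pow_orderOf_eq_one x
      calc a * (x * m * x⁻¹) * a⁻¹ = (a * x) * m * (a * x)⁻¹ := by group
        _ = (x * x * a) * m * (x * x * a)⁻¹ := by rw [e3, e]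
        _ = _ := by group))
    hcl h4 (hinvol a ha) (fun m => by
      have e := hinvol (a * x) hax m
      have : mk (a * x) m = mk a (mk x m) := Subtype.ext (by simp only [hmk]; group)
      rwa [this] at e) ⟨u, hu⟩
  rw [pow_two] at this
  exact congrArg Subtype.val this

end CfsgLib.SpecFive
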