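import Cfsg.Agent.SpecFive.Offender

/-!
Groups with element orders at most five: without offenders, the normalizer of the Thompson
subgroup of a Sylow two-subgroup is strongly embedded.
-/

set_option autoImplicit false
set_option linter.unusedSectionVars false
set_option linter.unusedFintypeInType false

namespace CfsgLib.SpecFive

open Subgroup

variable {G : Type*} [Group G] [Finite G]

/-- The conjugate of a subgroup. -/
abbrev conjS (g : G) (S : Subgroup G) : Subgroup G := S.map (MulAut.conj g).toMonoidHom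

theorem mem_conjS {g : G} {S : Subgroup G} {x : G} : x ∈ conjS g S ↔ g⁻¹ * x * g ∈ S := by
  constructor
  · rintro ⟨y, hy, rfl⟩
    simpa [mul_assoc] using hy
  · intro h
    exact ⟨_, h, by simp [mul_assoc]⟩

theorem conjS_mul (g h : G) (S : Subgroup G) : conjS g (conjS h S) = conjS (g * h) S := by
  ext x
  simp only [mem_conjS]
  rw [show (g * h)⁻¹ * x * (g * h) = h⁻¹ * (g⁻¹ * x * g) * h by group]

theorem conjS_one (S : Subgroup G) : conjS 1 S = S := by
  ext x; simp [mem_conjS]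

theorem card_conjS (g : G) (S : Subgroup G) : Nat.card (conjS g S) = Nat.card S :=
  (Nat.card_congr (S.equivMapOfInjective _ (MulEquiv.injective _)).toEquiv).symm

theorem conjS_mono {g : G} {S T : Subgroup G} (h : S ≤ T) : conjS g S ≤ conjS g T := map_mono h

theorem isPGroup_conjS {p : ℕ} (g : G) {S : Subgroup G} (h : IsPGroup p S) : IsPGroup p (conjS g S) := h.map _

theorem conjS_eq_of_mem_normalizer {g : G} {S : Subgroup G} (h : g ∈ normalizer (S : Set G)) : conjS g S = S := by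
  ext x
  rw [mem_conjS]
  have := mem_normalizer_iff.1 (inv_mem h) x
  rw [inv_inv] at this
  exact this.symm

theorem mem_normalizer_of_conjS_eq {g : G} {S : Subgroup G} (h : conjS g S = S) : g ∈ normalizer (S : Set G) := by
  rw [mem_normalizer_iff]
  intro x
  constructor
  · intro hx
    rw [← h, mem_conjS]
    simpa [mul_assoc] using hx
  · intro hx
    rw [← h, mem_conjS] at hx
    simpa [mul_assoc] using hx

/-- A maximal two-subgroup of `L`. -/
def IsSyl (L S : Subgroup G) : Prop :=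
  S ≤ L ∧ IsPGroup 2 S ∧ ∀ R : Subgroup G, R ≤ L → IsPGroup 2 R → S ≤ R → R = S

theorem isSyl_of_sylow {L : Subgroup G} (P : Sylow 2 L) : IsSyl L ((P : Subgroup L).map L.subtype) := by
  refine ⟨map_subtype_le _, P.2.map _, fun R hRL hR hle => ?_⟩
  have h := P.3 (hR.of_equiv (subgroupOfEquivOfLe hRL).symm) fun x hx => mem_subgroupOf.2 (hle (mem_map_of_mem _ hx))
  rw [← h, map_subgroupOf_eq_of_le hRL]

theorem exists_sylow_of_isSyl {L S : Subgroup G} (h : IsSyl L S) :
    ∃ P : Sylow 2 L, (P : Subgroup L).map L.subtype = S := by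
  obtain ⟨P, hP⟩ := (h.2.1.of_equiv (subgroupOfEquivOfLe h.1).symm).exists_le_sylow
  refine ⟨P, h.2.2 _ (map_subtype_le _) (P.2.map _) ?_⟩
  rw [← map_subgroupOf_eq_of_le h.1]
  exact map_mono hP

theorem exists_isSyl {L R : Subgroup G} (hRL : R ≤ L) (hR : IsPGroup 2 R) : ∃ S, IsSyl L S ∧ R ≤ S := by
  obtain ⟨P, hP⟩ := (hR.of_equiv (subgroupOfEquivOfLe hRL).symm).exists_le_sylow
  refine ⟨_, isSyl_of_sylow P, ?_⟩
  rw [← map_subgroupOf_eq_of_le hRL]
  exact map_mono hP

theorem IsSyl.conj {L S S' : Subgroup G} (h : IsSyl L S) (h' : IsSyl L S') : ∃ l ∈ L, S' = conjS l S := by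
  obtain ⟨P, rfl⟩ := exists_sylow_of_isSyl h
  obtain ⟨P', rfl⟩ := exists_sylow_of_isSyl h'
  obtain ⟨l, hl⟩ := MulAction.exists_smul_eq L P P'
  refine ⟨l, l.2, ?_⟩
  rw [← hl, Sylow.coe_subgroup_smul]
  ext x
  rw [mem_conjS]
  constructor
  · rintro ⟨_, ⟨y, hy, rfl⟩, rfl⟩
    exact ⟨y, hy, by simp [mul_assoc]⟩
  · rintro ⟨y, hy, hye⟩
    refine ⟨l * y * l⁻¹, ⟨y, hy, by simp⟩, ?_⟩
    simp only [coe_subtype] at hye
    simp [hye, mul_assoc]

theorem IsSyl.card_eq {L S S' : Subgroup G} (h : IsSyl L S) (h' : IsSyl L S') : Nat.card S' = Nat.card S := by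
  obtain ⟨l, -, rfl⟩ := h.conj h'
  exact card_conjS l S

theorem IsSyl.card_le {L S R : Subgroup G} (h : IsSyl L S) (hRL : R ≤ L) (hR : IsPGroup 2 R) :
    Nat.card R ≤ Nat.card S := by
  obtain ⟨S', hS', hle⟩ := exists_isSyl hRL hR
  exact (card_le_of_le hle).trans (h.card_eq hS').le

theorem IsSyl.conjS_top {R : Subgroup G} (h : IsSyl ⊤ R) (g : G) : IsSyl ⊤ (conjS g R) := by
  refine ⟨le_top, isPGroup_conjS g h.2.1, fun R' _ hR' hle => ?_⟩
  have := h.2.2 (conjS g⁻¹ R') le_top (isPGroup_conjS _ hR') (by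
    have := conjS_mono (g := g⁻¹) hle
    rwa [conjS_mul, inv_mul_cancel, conjS_one] at this)
  rw [← this, conjS_mul, mul_inv_cancel, conjS_one]

/-- A proper subgroup of a group of prime power order is properly contained in its normalizer. -/
theorem lt_inf_normalizer {p : ℕ} [Fact p.Prime] {R D : Subgroup G} (hR : IsPGroup p R) (hDR : D ≤ R) (hne : D ≠ R) :
    D < R ⊓ normalizer (D : Set G) := by
  haveI : Group.IsNilpotent R := IsPGroup.isNilpotent (p := p) hR
  have hlt : D.subgroupOf R < ⊤ := lt_top_iff_ne_top.2 fun e => hne (le_antisymm hDR (subgroupOf_eq_top.1 e))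
  obtain ⟨x, hx, hx'⟩ := SetLike.exists_of_lt (Group.normalizerCondition_of_isNilpotent _ hlt)
  refine lt_of_le_of_ne (le_inf hDR le_normalizer) fun e => hx' ?_
  rw [mem_subgroupOf, e]
  refine ⟨x.2, ?_⟩
  show (x : G) ∈ normalizer (D : Set G)
  rw [mem_normalizer_iff] at hx
  rw [mem_normalizer_iff]
  intro g
  constructor
  · intro hg
    simpa [mem_subgroupOf] using (hx ⟨g, hDR hg⟩).1 (mem_subgroupOf.2 hg)
  · intro hg
    have hgR : g ∈ R := by
      have := mul_mem (mul_mem (inv_mem x.2) (hDR hg)) x.2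
      simpa [mul_assoc] using this
    simpa [mem_subgroupOf] using (hx ⟨g, hgR⟩).2 (mem_subgroupOf.2 (by simpa using hg))

theorem card_lt_card {D R : Subgroup G} (h : D < R) : Nat.card D < Nat.card R :=
  lt_of_not_ge fun hle => h.ne (eq_of_le_of_card_ge h.le hle)

/-- The two-core of a subgroup. -/
def twoCore (L : Subgroup G) : Subgroup G := sSup {N | N ≤ L ∧ IsPGroup 2 N ∧ L ≤ normalizer (N : Set G)}

theorem twoCore_le (L : Subgroup G) : twoCore L ≤ L := sSup_le fun _ hN => hN.1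

theorem le_twoCore {L N : Subgroup G} (h1 : N ≤ L) (h2 : IsPGroup 2 N) (h3 : L ≤ normalizer (N : Set G)) :
    N ≤ twoCore L := le_sSup ⟨h1, h2, h3⟩

theorem twoCore_le_syl {L S : Subgroup G} (hS : IsSyl L S) : twoCore L ≤ S := by
  refine sSup_le fun N hN => ?_
  obtain ⟨h1, h2, h3⟩ := hN
  have hSn : S ≤ normalizer (N : Set G) := hS.1.trans h3
  have := hS.2.2 (S ⊔ N) (sup_le hS.1 h1) (hS.2.1.to_sup_of_normal_right' h2 hSn) le_sup_left
  rw [← this]
  exact le_sup_right

theorem twoCore_isPGroup (L : Subgroup G) : IsPGroup 2 (twoCore L) := by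
  obtain ⟨S, hS, -⟩ := exists_isSyl (L := L) (R := ⊥) bot_le IsPGroup.of_bot
  exact hS.2.1.to_le (twoCore_le_syl hS)

theorem le_normalizer_twoCore (L : Subgroup G) : L ≤ normalizer ((twoCore L : Subgroup G) : Set G) := by
  intro l hl
  refine mem_normalizer_of_conjS_eq (eq_of_le_of_card_ge ?_ (card_conjS l _).ge)
  rw [conjS, map_le_iff_le_comap]
  refine sSup_le fun N hN => ?_
  rw [← map_le_iff_le_comap]
  change conjS l N ≤ _
  rw [conjS_eq_of_mem_normalizer (hN.2.2 hl)]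
  exact le_twoCore hN.1 hN.2.1 hN.2.2

/-- A radical two-subgroup. -/
def IsRad (U : Subgroup G) : Prop :=
  IsPGroup 2 U ∧ U ≠ ⊥ ∧ twoCore (normalizer (U : Set G)) ≤ U

/-- An elementary abelian two-subgroup of largest order in `S`. -/
def IsMEA (S A : Subgroup G) : Prop :=
  A ≤ S ∧ (∀ a ∈ A, a * a = 1) ∧ ∀ B : Subgroup G, B ≤ S → (∀ b ∈ B, b * b = 1) → Nat.card B ≤ Nat.card A

theorem exists_isMEA (S : Subgroup G) : ∃ A, IsMEA S A := by
  classical
  haveI := Fintype.ofFinite (Subgroup G)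
  obtain ⟨A, hA, hmax⟩ := (Finset.univ.filter fun A : Subgroup G => A ≤ S ∧ ∀ a ∈ A, a * a = 1).exists_max_image
    (fun A => Nat.card A) ⟨⊥, by simp⟩
  simp only [Finset.mem_filter, Finset.mem_univ, true_and] at hA hmax
  exact ⟨A, hA.1, hA.2, fun B hB hB2 => hmax B ⟨hB, hB2⟩⟩

/-- The Thompson subgroup (elementary abelian version). -/
def J (S : Subgroup G) : Subgroup G := sSup {A | IsMEA S A}

theorem J_le (S : Subgroup G) : J S ≤ S := sSup_le fun _ hA => hA.1

theorem IsMEA.conjS {S A : Subgroup G} (h : IsMEA S A) (g : G) : IsMEA (SpecFive.conjS g S) (SpecFive.conjS g A) := by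
  refine ⟨conjS_mono h.1, ?_, fun B hB hB2 => ?_⟩
  · rintro _ ⟨a, ha, rfl⟩
    rw [← map_mul, h.2.1 a ha, map_one]
  · rw [card_conjS, ← card_conjS g⁻¹ B]
    refine h.2.2 _ ?_ ?_
    · have := conjS_mono (g := g⁻¹) hB
      rwa [conjS_mul, inv_mul_cancel, conjS_one] at this
    · rintro _ ⟨b, hb, rfl⟩
      rw [← map_mul, hB2 b hb, map_one]

theorem J_conjS (g : G) (S : Subgroup G) : J (conjS g S) = conjS g (J S) := by
  refine le_antisymm (sSup_le fun A hA => ?_) ?_
  · have := hA.conjS g⁻¹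
    rw [conjS_mul, inv_mul_cancel, conjS_one] at this
    have h := conjS_mono (g := g) (le_sSup (s := {A | IsMEA S A}) this)
    rwa [conjS_mul, mul_inv_cancel, conjS_one] at h
  · rw [conjS, map_le_iff_le_comap]
    refine sSup_le fun A hA => ?_
    rw [← map_le_iff_le_comap]
    exact le_sSup (hA.conjS g)

theorem le_normalizer_J (S : Subgroup G) : normalizer (S : Set G) ≤ normalizer ((J S : Subgroup G) : Set G) :=
  fun g hg => mem_normalizer_of_conjS_eq (by rw [← J_conjS, conjS_eq_of_mem_normalizer hg])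

theorem J_ne_bot {S : Subgroup G} (hS : IsPGroup 2 S) (hS1 : S ≠ ⊥) : J S ≠ ⊥ := by
  intro e
  obtain ⟨A, hA⟩ := exists_isMEA S
  obtain ⟨n, hn⟩ := hS.exists_card_eq
  have hn0 : n ≠ 0 := fun h => hS1 (card_eq_one.1 (by rw [hn, h, pow_zero]))
  obtain ⟨x, hx⟩ := exists_prime_orderOf_dvd_card' (G := S) 2 (hn ▸ dvd_pow_self 2 hn0)
  rw [← Subgroup.orderOf_coe] at hx
  have h2 := hA.2.2 (zpowers (x : G)) (zpowers_le.2 x.2) (fun b hb => by
    obtain ⟨i, rfl⟩ := mem_zpowers_iff.1 hb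
    rw [← zpow_add, show i + i = 2 * i by ring, zpow_mul, zpow_two, CfsgLib.Invol.mul_self_eq_one hx, one_zpow])
  rw [Nat.card_zpowers, hx] at h2
  have : A ≤ ⊥ := e ▸ le_sSup (s := {A | IsMEA S A}) hA
  rw [le_bot_iff.1 this, Subgroup.card_bot] at h2
  omega

/-- No offenders. -/
def NoOff (G : Type*) [Group G] [Finite G] : Prop :=
  ∀ U S A : Subgroup G, IsRad U → U ≤ S → S ≤ normalizer (U : Set G) → IsPGroup 2 S → IsMEA S A → A ≤ U

theorem J_eq_of_noOff (hno : NoOff G) {U S : Subgroup G} (hU : IsRad U) (h1 : U ≤ S)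
    (h2 : S ≤ normalizer (U : Set G)) (h3 : IsPGroup 2 S) : J S = J U := by
  obtain ⟨A₀, hA₀⟩ := exists_isMEA S
  have hA₀U := hno U S A₀ hU h1 h2 h3 hA₀
  refine le_antisymm (sSup_le fun A hA => ?_) (sSup_le fun A hA => ?_)
  · exact le_sSup ⟨hno U S A hU h1 h2 h3 hA, hA.2.1, fun B hB hB2 => hA.2.2 B (hB.trans h1) hB2⟩
  · exact le_sSup ⟨hA.1.trans h1, hA.2.1, fun B hB hB2 => (hA₀.2.2 B hB hB2).trans (hA.2.2 A₀ hA₀U hA₀.2.1)⟩

/-- The invariance statement at level `m`. -/
def SameJ (G : Type*) [Group G] [Finite G] (m : ℕ) : Prop :=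
  ∀ R R' : Subgroup G, IsSyl ⊤ R → IsSyl ⊤ R' → 2 ≤ m → m ≤ Nat.card (R ⊓ R' : Subgroup G) → J R = J R'

/-- The local statement at level `m`. -/
def LocalJ (G : Type*) [Group G] [Finite G] (m : ℕ) : Prop :=
  ∀ L S R : Subgroup G, twoCore L ≠ ⊥ → IsSyl L S → m ≤ Nat.card S → IsSyl ⊤ R → S ≤ R →
    L ≤ normalizer ((J R : Subgroup G) : Set G)

theorem two_le_card {D : Subgroup G} (hD : D ≠ ⊥) : 2 ≤ Nat.card D := (one_lt_card_iff_ne_bot D).2 hD

theorem climb (hno : NoOff G) (m : ℕ) : SameJ G m ∧ LocalJ G m := by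
  induction hk : Nat.card G + 1 - m using Nat.strong_induction_on generalizing m with
  | _ k ih =>
  rcases Nat.lt_or_ge (Nat.card G) m with hm | hm
  · refine ⟨fun R R' _ _ _ h => ?_, fun L S R _ _ h _ _ => ?_⟩
    · exact absurd (h.trans (card_le_card_group _)) (by omega)
    · exact absurd (h.trans (card_le_card_group _)) (by omega)
  have ih' : ∀ m' > m, SameJ G m' ∧ LocalJ G m' := fun m' hm' => ih _ (by omega) m' rfl
  have hQ : SameJ G m := by
    intro R R' hR hR' h2 hD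
    rcases Nat.lt_or_eq_of_le hD with hlt | heq
    · exact (ih' _ hlt).1 R R' hR hR' (by omega) le_rfl
    set D := R ⊓ R' with hDdef
    by_cases hRR : R = R'
    · rw [hRR]
    have hDR : D ≠ R := fun e => hRR (hR.2.2 R' le_top hR'.2.1 (inf_eq_left.1 e)).symm
    have hDR' : D ≠ R' := fun e => hRR (hR'.2.2 R le_top hR.2.1 (inf_eq_right.1 e))
    let L := normalizer (D : Set G)
    have k1 := lt_inf_normalizer hR.2.1 (inf_le_left : D ≤ R) hDR
    have k2 := lt_inf_normalizer hR'.2.1 (inf_le_right : D ≤ R') hDR'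
    obtain ⟨S, hS, hS1⟩ := exists_isSyl (L := L) inf_le_right (hR.2.1.to_le (inf_le_left : R ⊓ L ≤ R))
    obtain ⟨S', hS', hS1'⟩ := exists_isSyl (L := L) inf_le_right (hR'.2.1.to_le (inf_le_left : R' ⊓ L ≤ R'))
    obtain ⟨Q, hQ, hQ1⟩ := exists_isSyl (L := ⊤) le_top hS.2.1
    obtain ⟨l, hl, rfl⟩ := hS.conj hS'
    have c1 : m < Nat.card (R ⊓ L : Subgroup G) := lt_of_eq_of_lt heq (card_lt_card k1)
    have c2 : m < Nat.card (R' ⊓ L : Subgroup G) := lt_of_eq_of_lt heq (card_lt_card k2)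
    have e1 : J R = J Q := (ih' _ c1).1 R Q hR hQ
      (by omega) (card_le_of_le (le_inf inf_le_left (hS1.trans hQ1)))
    have e2 : J R' = J (conjS l Q) := (ih' _ c2).1 R' _ hR' (hQ.conjS_top l)
      (by omega) (card_le_of_le (le_inf inf_le_left (hS1'.trans (conjS_mono hQ1))))
    have hD1 : D ≠ ⊥ := fun e => by rw [e, Subgroup.card_bot] at heq; omega
    have hcore : twoCore L ≠ ⊥ := fun e => hD1 (le_bot_iff.1 (e ▸ le_twoCore le_normalizer
      (hR.2.1.to_le inf_le_left) le_rfl))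
    have hSm : m < Nat.card S := lt_of_lt_of_le c1 (card_le_of_le hS1)
    have hL := (ih' _ hSm).2 L S Q hcore hS le_rfl hQ hQ1
    rw [e1, e2, J_conjS, conjS_eq_of_mem_normalizer (hL hl)]
  refine ⟨hQ, ?_⟩
  intro L
  induction hc : Nat.card G - Nat.card L using Nat.strong_induction_on generalizing L with
  | _ c ihc =>
  intro S R hcore hS hSm hR hSR
  rcases Nat.lt_or_eq_of_le hSm with hlt | heq
  · exact (ih' _ hlt).2 L S R hcore hS le_rfl hR hSR
  set U := twoCore L with hU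
  let N := normalizer (U : Set G)
  have hLN : L ≤ N := le_normalizer_twoCore L
  have hUS : U ≤ S := twoCore_le_syl hS
  have hm2 : 2 ≤ m := by
    rw [heq]; exact (two_le_card hcore).trans (card_le_of_le hUS)
  have hNcore : twoCore N ≠ ⊥ := fun e => hcore (le_bot_iff.1 (e ▸ le_twoCore le_normalizer (twoCore_isPGroup L) le_rfl))
  -- passing to a Sylow subgroup of a larger local subgroup
  have step : ∀ L' : Subgroup G, L ≤ L' → twoCore L' ≠ ⊥ → ∀ S', IsSyl L' S' → S ≤ S' → m < Nat.card S' →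
      L ≤ normalizer ((J R : Subgroup G) : Set G) := by
    intro L' hLL' hcore' S' hS' hSS' hlt'
    obtain ⟨Q, hQ', hQ1⟩ := exists_isSyl (L := ⊤) le_top hS'.2.1
    have hle := (ih' _ hlt').2 L' S' Q hcore' hS' le_rfl hQ' hQ1
    rw [hQ R Q hR hQ' hm2 (heq.le.trans (card_le_of_le (le_inf hSR (hSS'.trans hQ1))))]
    exact hLL'.trans hle
  obtain ⟨S0, hS0, hSS0⟩ := exists_isSyl (hS.1.trans hLN) hS.2.1
  rcases Nat.lt_or_eq_of_le (heq.le.trans (card_le_of_le hSS0)) with hlt | heq0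
  · exact step N hLN hNcore S0 hS0 hSS0 hlt
  have hS0S : S = S0 := eq_of_le_of_card_ge hSS0 (by omega)
  subst hS0S
  by_cases hNL : L = N
  swap
  · refine hLN.trans (ihc _ ?_ N rfl S R hNcore hS0 hSm hR hSR)
    have := card_lt_card (lt_of_le_of_ne hLN hNL)
    have := card_le_card_group N
    omega
  have hrad : IsRad U := ⟨twoCore_isPGroup L, hcore, le_of_eq (congrArg twoCore hNL.symm)⟩
  have hJ : J S = J U := J_eq_of_noOff hno hrad hUS (hS.1.trans hLN) hS.2.1
  have hLJ : L ≤ normalizer ((J S : Subgroup G) : Set G) := by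
    rw [hJ]; exact hLN.trans (le_normalizer_J U)
  by_cases hSReq : S = R
  · rwa [hSReq] at hLJ
  have k1 := lt_inf_normalizer hR.2.1 hSR hSReq
  have hJ1 : J S ≠ ⊥ := J_ne_bot hS.2.1 fun e => by
    have := two_le_card hcore
    have := card_le_of_le hUS
    rw [e, Subgroup.card_bot] at this
    omega
  obtain ⟨S1, hS1, hle1⟩ := exists_isSyl (L := normalizer ((J S : Subgroup G) : Set G))
    ((inf_le_right : R ⊓ normalizer (S : Set G) ≤ _).trans (le_normalizer_J S)) (hR.2.1.to_le inf_le_left)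
  refine step _ hLJ (fun e => hJ1 (le_bot_iff.1 (e ▸ le_twoCore le_normalizer
    (hS.2.1.to_le (J_le S)) le_rfl))) S1 hS1 (k1.le.trans hle1) ?_
  rw [heq]
  exact lt_of_lt_of_le (card_lt_card k1) (card_le_of_le hle1)

/-- Without offenders the normalizer of the Thompson subgroup is strongly embedded and its
Sylow two-subgroup is normal in it. -/
theorem stronglyEmbedded_of_noOff (hno : NoOff G) [IsSimpleGroup G] (hnc : ¬ IsMulCommutative G)
    {T : Subgroup G} (hT : IsSyl ⊤ T) (hT1 : T ≠ ⊥) :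
    Cfsg.IsStronglyEmbedded (normalizer ((J T : Subgroup G) : Set G)) ∧
      IsRad (twoCore (normalizer ((J T : Subgroup G) : Set G))) ∧
      normalizer ((twoCore (normalizer ((J T : Subgroup G) : Set G)) : Subgroup G) : Set G) =
        normalizer ((J T : Subgroup G) : Set G) := by
  set H := normalizer ((J T : Subgroup G) : Set G) with hH
  have hTH : T ≤ H := le_normalizer.trans (le_normalizer_J T)
  have hJ1 := J_ne_bot hT.2.1 hT1
  have hne : H ≠ ⊤ := fun e => by
    rcases IsSimpleGroup.eq_bot_or_eq_top_of_normal (J T) (normalizer_eq_top_iff.1 e) with h | h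
    · exact hJ1 h
    · have hTtop : T = ⊤ := top_le_iff.1 (h ▸ J_le T)
      haveI : Nontrivial G := IsSimpleGroup.toNontrivial
      have htop : IsPGroup 2 (⊤ : Subgroup G) := hTtop ▸ hT.2.1
      have hp : IsPGroup 2 G := htop.of_equiv topEquiv
      haveI := hp.center_nontrivial
      have hc := (IsSimpleGroup.eq_bot_or_eq_top_of_normal (center G) inferInstance).resolve_left
        ((nontrivial_iff_ne_bot _).1 inferInstance)
      exact hnc ⟨⟨fun a b => (mem_center_iff.1 (hc ▸ mem_top a) b).symm⟩⟩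
  have hsylH : IsSyl H T := ⟨hTH, hT.2.1, fun R _ hR hle => hT.2.2 R le_top hR hle⟩
  have key : ∀ g : G, (∃ t ∈ H, orderOf t = 2 ∧ t ∈ conjS g H) → g ∈ H := by
    rintro g ⟨t, htH, ht, htg⟩
    have hz : IsPGroup 2 (zpowers t) := IsPGroup.of_card (n := 1) (by rw [Nat.card_zpowers, ht, pow_one])
    obtain ⟨R, hR, htR⟩ := exists_isSyl (zpowers_le.2 htH) hz
    obtain ⟨h, hh, rfl⟩ := hsylH.conj hR
    obtain ⟨R', hR', htR'⟩ := exists_isSyl (zpowers_le.2 (show g⁻¹ * t * g ∈ H from mem_conjS.1 htg))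
      (IsPGroup.of_card (n := 1) (by
        rw [Nat.card_zpowers, show g⁻¹ * t * g = g⁻¹ * t * (g⁻¹)⁻¹ by group, CfsgLib.Invol.orderOf_conj_eq, ht, pow_one]))
    obtain ⟨h', hh', rfl⟩ := hsylH.conj hR'
    have hmem : t ∈ conjS (g * h') T := by
      rw [← conjS_mul, mem_conjS]
      exact htR' (mem_zpowers _)
    have h2 : 2 ≤ Nat.card (conjS h T ⊓ conjS (g * h') T : Subgroup G) := by
      refine le_trans (le_of_eq ?_) (card_le_of_le (zpowers_le.2 (⟨htR (mem_zpowers t), hmem⟩ : t ∈ conjS h T ⊓ conjS (g * h') T)))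
      rw [Nat.card_zpowers, ht]
    have e := (climb hno 2).1 _ _ (hT.conjS_top h) (hT.conjS_top (g * h')) le_rfl h2
    rw [J_conjS, J_conjS, conjS_eq_of_mem_normalizer hh, ← conjS_mul, conjS_eq_of_mem_normalizer hh'] at e
    exact mem_normalizer_of_conjS_eq e.symm
  have hcore : twoCore H ≠ ⊥ := fun e => hJ1 (le_bot_iff.1 (e ▸ le_twoCore le_normalizer
    (hT.2.1.to_le (J_le T)) le_rfl))
  have hNle : normalizer ((twoCore H : Subgroup G) : Set G) = H := by
    refine le_antisymm ?_ (le_normalizer_twoCore H)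
    obtain ⟨S, hS, hTS⟩ := exists_isSyl (hTH.trans (le_normalizer_twoCore H)) hT.2.1
    have hST : S = T := hT.2.2 S le_top hS.2.1 hTS
    rw [hST] at hS
    refine (climb hno 2).2 _ T T (fun e => hcore (le_bot_iff.1 (e ▸ le_twoCore le_normalizer
      (twoCore_isPGroup H) le_rfl))) hS (two_le_card hT1) hT le_rfl
  refine ⟨⟨hne, ?_, fun g hg => ?_⟩, ⟨twoCore_isPGroup H, hcore, by rw [hNle]⟩, hNle⟩
  · rw [even_iff_two_dvd]
    obtain ⟨n, hn⟩ := hT.2.1.exists_card_eq
    have hn0 : n ≠ 0 := fun h => hT1 (card_eq_one.1 (by rw [hn, h, pow_zero]))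
    exact (hn ▸ dvd_pow_self 2 hn0 : 2 ∣ Nat.card T).trans (card_dvd_of_le hTH)
  · rw [← Nat.not_even_iff_odd, even_iff_two_dvd]
    intro hev
    obtain ⟨t, ht⟩ := exists_prime_orderOf_dvd_card' 2 hev
    exact hg (key g ⟨t, t.2.1, by rwa [Subgroup.orderOf_coe], t.2.2⟩)

end CfsgLib.SpecFive
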