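import Cfsg.Agent.SpecFive.Pair

/-!
Groups with element orders at most five: counting pairs of involutions and elements.
-/

set_option autoImplicit false
set_option linter.unusedSectionVars false
set_option linter.unusedFintypeInType false

namespace CfsgLib.SpecFive

open Subgroup Finset

variable {G : Type*} [Group G] [Finite G]

/-- The data of a Sylow subgroup for an odd prime. -/
theorem Small.odd_data (hs : Small G) {p : ℕ} [hp : Fact p.Prime] (hp35 : p = 3 ∨ p = 5) (hpd : p ∣ Nat.card G) :
    ∃ u k : ℕ, 1 ≤ u ∧ (k = 1 ∨ k = 2 ∨ k = 4 ∨ k = 8 ∨ k = 8 - p) ∧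
      p ^ u * k * Nat.card {x : G // orderOf x = p} = Nat.card G * (p ^ u - 1) ∧
      (2 ∣ k → ∀ x : G, orderOf x = p → Nat.card {s : G // orderOf s = 2 ∧ s * x * s⁻¹ = x⁻¹} = p ^ u) ∧
      (¬ 2 ∣ k → ∀ x : G, orderOf x = p → Nat.card {s : G // orderOf s = 2 ∧ s * x * s⁻¹ = x⁻¹} = 0) ∧
      (∀ S : Sylow p G, Nat.card (S : Subgroup G) = p ^ u) := by
  classical
  have hp2 : p ≠ 2 := by omega
  obtain ⟨P⟩ : Nonempty (Sylow p G) := inferInstance
  set u := (Nat.card G).factorization p with hu
  have hPc : ∀ S : Sylow p G, Nat.card (S : Subgroup G) = p ^ u := fun S => S.card_eq_multiplicity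
  have hu1 : 1 ≤ u := (hp.out.pow_dvd_iff_le_factorization (k := 1) Nat.card_pos.ne').1 (by rwa [pow_one])
  let N := normalizer ((P : Subgroup G) : Set G)
  haveI : ((P : Subgroup G).subgroupOf N).Normal := normal_in_normalizer
  set PN := (P : Subgroup G).subgroupOf N with hPN
  have hPN2 : IsPGroup p PN := P.2.of_equiv (subgroupOfEquivOfLe le_normalizer).symm
  have hPN1 : PN ≠ ⊥ := fun e => by
    have := Nat.card_congr (subgroupOfEquivOfLe (le_normalizer (H := (P : Subgroup G)))).toEquiv
    rw [← hPN, e, Subgroup.card_bot, hPc P] at this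
    have := Nat.le_self_pow (show u ≠ 0 by omega) p
    have := hp.out.two_le
    omega
  have hexp : ∀ S : Sylow p G, ∀ y ∈ (S : Subgroup G), y ≠ 1 → orderOf y = p := fun S y hy hy1 =>
    hs.orderOf_of_odd_prime hp.out hp2 hy1 (exists_pow_prime_of_mem S.2 hy)
  have hti : ∀ S S' : Sylow p G, ∀ y, y ≠ 1 → y ∈ (S : Subgroup G) → y ∈ (S' : Subgroup G) → S = S' :=
    fun S S' y hy1 h h' => hs.sylow_ti hp35 S S' fun e => hy1 (by
      have : y ∈ (S : Subgroup G) ⊓ S' := ⟨h, h'⟩
      rw [e, mem_bot] at this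
      exact this)
  set k := PN.index with hk
  have hNc : Nat.card N = p ^ u * k := by
    rw [← card_mul_index PN, ← hk, hPN, Nat.card_congr (subgroupOfEquivOfLe le_normalizer).toEquiv, hPc P]
  have hkp : ¬ p ∣ k := by
    intro h
    have h1 : p ^ (u + 1) ∣ Nat.card G := by
      refine dvd_trans ?_ (card_subgroup_dvd_card N)
      rw [hNc, pow_succ]
      exact Nat.mul_dvd_mul_left _ h
    have := (hp.out.pow_dvd_iff_le_factorization Nat.card_pos.ne').1 h1
    omega
  have hkc : Nat.card (N ⧸ PN) = k := (index_eq_card PN).symm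
  -- two-subgroups of the normalizer
  have htwo : ∀ S : Subgroup N, IsPGroup 2 S → Nat.card S ≤ 8 := by
    intro S hS
    rcases eq_or_ne S ⊥ with rfl | hS1
    · simp
    haveI : Nontrivial S := (nontrivial_iff_ne_bot S).2 hS1
    obtain ⟨n, hn⟩ := hS.exists_card_eq
    have hn0 : n ≠ 0 := fun e => hS1 (card_eq_one.1 (by rw [hn, e, pow_zero]))
    obtain ⟨z, hz⟩ := exists_prime_orderOf_dvd_card' (G := S) 2 (hn ▸ dvd_pow_self 2 hn0)
    have hfp : ∀ x : S, x ≠ 1 → Fpf (x : N) PN := fun x hx =>
      (hs.subgroup N).fpf hp.out hPN2 (fun e => hx (Subtype.ext e)) (by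
        obtain ⟨j, hj⟩ := hS x
        rw [Subgroup.orderOf_coe]
        exact Nat.Coprime.coprime_dvd_left (orderOf_dvd_of_pow_eq_one hj)
          (Nat.Coprime.pow_left j ((Nat.coprime_primes Nat.prime_two hp.out).2 (Ne.symm hp2))))
    refine card_le_eight_of_unique (fun x => ?_) z fun x hx => ?_
    · obtain ⟨j, hj⟩ := hS x
      exact Subtype.ext ((hs.subgroup N).pow_four (p := (x : N)) (k := j) (congrArg Subtype.val hj))
    · by_contra hne
      push Not at hne
      have hz1 : z ≠ 1 := CfsgLib.Invol.ne_one hz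
      have hz2 : z * z = 1 := CfsgLib.Invol.mul_self_eq_one hz
      have hxz : x * z ≠ 1 := fun e => hne.2 (by
        rw [eq_inv_of_mul_eq_one_left e, inv_eq_of_mul_eq_one_right hz2])
      obtain ⟨y, hy, hy1⟩ : ∃ y ∈ PN, y ≠ 1 := by
        by_contra h
        push Not at h
        exact hPN1 (eq_bot_iff.2 fun y hy => mem_bot.2 (h y hy))
      have e1 := inverts_of_fpf (show (z : N) * z = 1 from congrArg Subtype.val hz2) (hfp z hz1) hy
      have e2 := inverts_of_fpf (show (x : N) * x = 1 from congrArg Subtype.val hx) (hfp x hne.1) (inv_mem hy)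
      rw [inv_inv] at e2
      refine hy1 (hfp (x * z) hxz y hy ?_)
      refine mul_inv_eq_iff_eq_mul.1 ?_
      rw [Subgroup.coe_mul]
      calc (x : N) * z * y * ((x : N) * z)⁻¹ = x * ((z : N) * y * (z : N)⁻¹) * (x : N)⁻¹ := by group
        _ = y := by rw [e1, e2]
  have hkcases : k = 1 ∨ k = 2 ∨ k = 4 ∨ k = 8 ∨ k = 8 - p := by
    set r := 8 - p with hr
    have hr35 : r = 3 ∨ r = 5 := by omega
    haveI : Fact r.Prime := ⟨mem_three_or_five hr35⟩
    have hrp : r ≠ p := by omega
    have hkN : k ∣ Nat.card N := Dvd.intro_left _ hNc.symm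
    have hkG : k ∣ Nat.card G := hkN.trans (card_subgroup_dvd_card N)
    have hprimes : ∀ s, s.Prime → s ∣ k → s = 2 ∨ s = r := by
      intro s hs' hsk
      rcases hs.prime_cases hs' (hsk.trans hkG) with e | e | e
      · exact Or.inl e
      all_goals
        rcases eq_or_ne s p with e' | e'
        · exact absurd (e' ▸ hsk) hkp
        · exact Or.inr (by omega)
    have hr1 : ∀ j, r ^ j ∣ k → j ≤ 1 := by
      intro j hj
      obtain ⟨Q, hQ⟩ := Sylow.exists_subgroup_card_pow_prime r (hj.trans hkN)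
      have := (hs.subgroup N).card_dvd_of_acts (Fact.out : r.Prime) (by omega) hrp PN hPN2 hPN1 Q (IsPGroup.of_card hQ)
      rw [hQ] at this
      by_contra hj1
      have h2 : r ^ 2 ≤ r := le_trans (Nat.pow_le_pow_right (by omega) (by omega)) (Nat.le_of_dvd (by omega) this)
      rcases hr35 with e | e <;> rw [e] at h2 <;> norm_num at h2
    have h21 : ∀ j, 2 ^ j ∣ k → j ≤ 3 := by
      intro j hj
      obtain ⟨Q, hQ⟩ := Sylow.exists_subgroup_card_pow_prime 2 (hj.trans hkN)
      have := htwo Q (IsPGroup.of_card hQ)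
      rw [hQ] at this
      by_contra hj3
      have : 2 ^ 4 ≤ 2 ^ j := Nat.pow_le_pow_right (by norm_num) (by omega)
      omega
    have hboth : ¬ (2 ∣ k ∧ r ∣ k) := by
      rintro ⟨h2, hr'⟩
      obtain ⟨t, ht⟩ := exists_prime_orderOf_dvd_card' (G := N ⧸ PN) 2 (by rwa [hkc])
      obtain ⟨y, hy⟩ := exists_prime_orderOf_dvd_card' (G := N ⧸ PN) r (by rwa [hkc])
      obtain ⟨t0, ht0⟩ := exists_prime_orderOf_dvd_card' (G := N) 2 (h2.trans hkN)
      obtain ⟨y0, hy0⟩ := exists_prime_orderOf_dvd_card' (G := N) r (hr'.trans hkN)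
      have hne : ∀ (w : N) (s : ℕ), s.Prime → orderOf w = s → s ≠ p → (QuotientGroup.mk' PN w) ≠ 1 := by
        intro w s hs' hw hsp e
        obtain ⟨j, hj⟩ := exists_pow_prime_of_mem hPN2 ((QuotientGroup.eq_one_iff w).1 e)
        have := orderOf_dvd_of_pow_eq_one hj
        rw [hw] at this
        exact hsp ((Nat.prime_dvd_prime_iff_eq hs' hp.out).1 (hs'.dvd_of_dvd_pow this))
      have hft := (hs.subgroup N).fpf hp.out hPN2 (CfsgLib.Invol.ne_one ht0)
        (by rw [ht0]; exact (Nat.coprime_primes Nat.prime_two hp.out).2 (Ne.symm hp2))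
      have hinv : ∀ w ∈ PN, t0 * w * t0⁻¹ = w⁻¹ := fun w hw =>
        inverts_of_fpf (CfsgLib.Invol.mul_self_eq_one ht0) hft hw
      have hmem : t0 * y0 * t0⁻¹ * y0⁻¹ ∈ PN := by
        have hC : (centralizer (PN : Set N)).Normal := inferInstance
        have hCp : IsPGroup p (centralizer (PN : Set N)) := by
          obtain ⟨n, hn⟩ := hPN2.exists_card_eq
          have hn0 : n ≠ 0 := fun e => hPN1 (card_eq_one.1 (by rw [hn, e, pow_zero]))
          obtain ⟨x, hx⟩ := exists_prime_orderOf_dvd_card' (G := PN) p (hn ▸ dvd_pow_self p hn0)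
          exact (hs.subgroup N).isPGroup_of_centralizes hp.out (x := (x : N)) (by rwa [Subgroup.orderOf_coe])
            fun z hz => mem_centralizer_iff.1 hz x x.2
        let PS : Sylow p N := P.subtype le_normalizer
        have hle : centralizer (PN : Set N) ≤ PN := by
          have hsup := hCp.le_sylow_of_normal PS
          rwa [show ((PS : Sylow p N) : Subgroup N) = PN from Sylow.coe_subtype P le_normalizer] at hsup
        refine hle (mem_centralizer_iff.2 fun w hw => ?_)
        have hw' : y0⁻¹ * w * y0 ∈ PN := by simpa using (inferInstance : PN.Normal).conj_mem w hw y0⁻¹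
        have ht0' : t0⁻¹ = t0 := CfsgLib.Invol.inv_eq_self ht0
        have e1 := hinv _ hw'
        have e2 := hinv _ (inv_mem hw)
        rw [inv_inv] at e2
        have e3 : (t0 * y0 * t0⁻¹ * y0⁻¹) * w * (t0 * y0 * t0⁻¹ * y0⁻¹)⁻¹ = w := by
          calc (t0 * y0 * t0⁻¹ * y0⁻¹) * w * (t0 * y0 * t0⁻¹ * y0⁻¹)⁻¹
              = t0 * (y0 * (t0⁻¹ * (y0⁻¹ * w * y0) * t0) * y0⁻¹) * t0⁻¹ := by group
            _ = t0 * (y0 * (t0 * (y0⁻¹ * w * y0) * t0⁻¹) * y0⁻¹) * t0⁻¹ := by rw [ht0']
            _ = t0 * (y0 * (y0⁻¹ * w * y0)⁻¹ * y0⁻¹) * t0⁻¹ := by rw [e1]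
            _ = t0 * w⁻¹ * t0⁻¹ := by group
            _ = w := e2
        exact (mul_inv_eq_iff_eq_mul.1 e3).symm
      have hc : Commute (QuotientGroup.mk' PN t0) (QuotientGroup.mk' PN y0) := by
        have e : QuotientGroup.mk' PN (t0 * y0 * t0⁻¹ * y0⁻¹) = 1 := (QuotientGroup.eq_one_iff _).2 hmem
        simp only [map_mul, map_inv, mul_inv_eq_one] at e
        exact mul_inv_eq_iff_eq_mul.1 e
      rcases ((hs.subgroup N).quotient PN).no_commute hc (by
        refine Nat.Coprime.coprime_dvd_left (orderOf_map_dvd _ t0)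
          (Nat.Coprime.coprime_dvd_right (orderOf_map_dvd _ y0) ?_)
        rw [ht0, hy0]
        exact (Nat.coprime_primes Nat.prime_two (Fact.out : r.Prime)).2 (by omega)) with e | e
      · exact hne t0 2 Nat.prime_two ht0 (Ne.symm hp2) e
      · exact hne y0 r Fact.out hy0 hrp e
    have hk0 : k ≠ 0 := index_ne_zero_of_finite
    rcases Classical.em (2 ∣ k) with h2 | h2
    · have hnr : ¬ r ∣ k := fun h => hboth ⟨h2, h⟩
      obtain ⟨j, hj⟩ : ∃ j, k = 2 ^ j := ⟨_, Nat.eq_prime_pow_of_unique_prime_dvd hk0 fun {s} hs' hsk =>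
        (hprimes s hs' hsk).resolve_right fun e => hnr (e ▸ hsk)⟩
      have hj3 := h21 j (dvd_of_eq hj.symm)
      interval_cases j <;> simp [hj]
    · obtain ⟨j, hj⟩ : ∃ j, k = r ^ j := ⟨_, Nat.eq_prime_pow_of_unique_prime_dvd hk0 fun {s} hs' hsk =>
        (hprimes s hs' hsk).resolve_left fun e => h2 (e ▸ hsk)⟩
      have hj1 := hr1 j (dvd_of_eq hj.symm)
      interval_cases j
      · left; simpa using hj
      · right; right; right; right; simpa using hj
  -- elements of order `p`
  have hcount : Nat.card {x : G // orderOf x = p} = Nat.card (Sylow p G) * (p ^ u - 1) := by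
    haveI : Fintype (Sylow p G) := Fintype.ofFinite _
    let f : (Σ S : Sylow p G, {y : (S : Subgroup G) // y ≠ 1}) → {x : G // orderOf x = p} := fun w =>
      ⟨(w.2.1 : G), hexp w.1 _ w.2.1.2 (fun e => w.2.2 (Subtype.ext e))⟩
    have hb : Function.Bijective f := by
      refine ⟨?_, ?_⟩
      · rintro ⟨S, y⟩ ⟨S', y'⟩ e
        have e' : (y.1 : G) = y'.1 := congrArg Subtype.val e
        have hSS : S = S' := hti S S' y.1 (fun h => y.2 (Subtype.ext h)) y.1.2 (e' ▸ y'.1.2)
        subst hSS
        exact Sigma.ext rfl (heq_of_eq (Subtype.ext (Subtype.ext e')))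
      · rintro ⟨x, hx⟩
        obtain ⟨S, hS⟩ := (IsPGroup.of_card (p := p) (G := zpowers x) (n := 1) (by
          rw [Nat.card_zpowers, hx, pow_one])).exists_le_sylow
        refine ⟨⟨S, ⟨⟨x, hS (mem_zpowers x)⟩, fun e => ?_⟩⟩, rfl⟩
        rw [show x = 1 from congrArg Subtype.val e, orderOf_one] at hx
        exact hp.out.ne_one hx.symm
    rw [← Nat.card_congr (Equiv.ofBijective f hb), Nat.card_sigma]
    have hone : ∀ S : Sylow p G, Nat.card {y : (S : Subgroup G) // y ≠ 1} = p ^ u - 1 := fun S => by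
      show Nat.card ↑{y : (S : Subgroup G) | y ≠ 1} = _
      rw [show {y : (S : Subgroup G) | y ≠ 1} = Set.univ \ {1} by ext; simp, Nat.card_coe_set_eq,
        Set.ncard_sdiff_singleton_of_mem (Set.mem_univ _), Set.ncard_univ, hPc S]
    simp only [hone, Finset.sum_const, Finset.card_univ, smul_eq_mul, ← Nat.card_eq_fintype_card]
  have hidx : ∀ S : Sylow p G, Nat.card (Sylow p G) = (normalizer ((S : Subgroup G) : Set G)).index :=
    fun S => S.card_eq_index_normalizer
  have hmain : p ^ u * k * Nat.card {x : G // orderOf x = p} = Nat.card G * (p ^ u - 1) := by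
    rw [hcount, ← mul_assoc, ← hNc, hidx P, show (normalizer ((P : Subgroup G) : Set G)).index = N.index from rfl, card_mul_index]
  -- inverting involutions
  have hinvN : ∀ x : G, orderOf x = p → ∀ s : G, s * x * s⁻¹ = x⁻¹ → ∀ S : Sylow p G, x ∈ (S : Subgroup G) →
      s ∈ normalizer ((S : Subgroup G) : Set G) := by
    intro x hx s hsx S hS
    apply Sylow.smul_eq_iff_mem_normalizer.1
    refine hti _ _ x⁻¹ (fun e => ?_) ?_ (inv_mem hS)
    · rw [inv_eq_one] at e; rw [e, orderOf_one] at hx; exact hp.out.ne_one hx.symm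
    · rw [Sylow.coe_subgroup_smul]
      exact ⟨x, hS, by simp [MulAut.smul_def, hsx]⟩
  have hNS : ∀ S : Sylow p G, Nat.card (normalizer ((S : Subgroup G) : Set G)) = p ^ u * k := by
    intro S
    have h1 := card_mul_index N
    rw [show N.index = Nat.card (Sylow p G) from (hidx P).symm, hNc] at h1
    have h2 := card_mul_index (normalizer ((S : Subgroup G) : Set G))
    rw [← hidx S, ← h1] at h2
    exact Nat.eq_of_mul_eq_mul_right Nat.card_pos h2
  have hSx : ∀ x : G, orderOf x = p → ∃ S : Sylow p G, x ∈ (S : Subgroup G) := fun x hx => by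
    obtain ⟨S, hS⟩ := (IsPGroup.of_card (p := p) (G := zpowers x) (n := 1) (by
      rw [Nat.card_zpowers, hx, pow_one])).exists_le_sylow
    exact ⟨S, hS (mem_zpowers x)⟩
  refine ⟨u, k, hu1, hkcases, hmain, ?_, ?_, hPc⟩
  · intro hk2 x hx
    obtain ⟨S, hS⟩ := hSx x hx
    set NS := normalizer ((S : Subgroup G) : Set G)
    obtain ⟨⟨t, htN⟩, ht⟩ := exists_prime_orderOf_dvd_card' (G := NS) 2 (hk2.trans (Dvd.intro_left _ (hNS S).symm))
    rw [Subgroup.orderOf_mk] at ht
    have ht2 : t * t = 1 := CfsgLib.Invol.mul_self_eq_one ht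
    haveI : ((S : Subgroup G).subgroupOf NS).Normal := normal_in_normalizer
    have hinv : ∀ y ∈ (S : Subgroup G), t * y * t⁻¹ = y⁻¹ := by
      intro y hy
      have hf := (hs.subgroup NS).fpf hp.out (U := (S : Subgroup G).subgroupOf NS)
        (S.2.of_equiv (subgroupOfEquivOfLe le_normalizer).symm) (x := (⟨t, htN⟩ : NS))
        (fun e => CfsgLib.Invol.ne_one ht (congrArg Subtype.val e))
        (by rw [Subgroup.orderOf_mk, ht]; exact (Nat.coprime_primes Nat.prime_two hp.out).2 (Ne.symm hp2))
      exact congrArg Subtype.val (inverts_of_fpf (U := (S : Subgroup G).subgroupOf NS) (t := (⟨t, htN⟩ : NS))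
        (Subtype.ext ht2) hf (u := ⟨y, le_normalizer hy⟩) (mem_subgroupOf.2 hy))
    have hab : ∀ y ∈ (S : Subgroup G), Commute x y := by
      intro y hy
      have e := hinv _ (mul_mem hS hy)
      rw [show t * (x * y) * t⁻¹ = (t * x * t⁻¹) * (t * y * t⁻¹) by group, hinv x hS, hinv y hy, _root_.mul_inv_rev] at e
      have e' := congrArg Inv.inv e
      simp only [_root_.mul_inv_rev, inv_inv] at e'
      exact e'.symm
    have hC : centralizer ({x} : Set G) = (S : Subgroup G) := by
      refine S.3 (hs.isPGroup_of_centralizes hp.out hx fun y hy => (mem_centralizer_singleton_iff.1 hy).symm) ?_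
      exact fun y hy => mem_centralizer_singleton_iff.2 (hab y hy).eq.symm
    rw [← hPc S]
    refine Nat.card_congr
      { toFun := fun s => ⟨t * s.1, ?_⟩
        invFun := fun y => ⟨t * y.1, ?_, ?_⟩
        left_inv := fun s => Subtype.ext (show t * (t * s.1) = s.1 by rw [← mul_assoc, ht2, one_mul])
        right_inv := fun y => Subtype.ext (show t * (t * y.1) = y.1 by rw [← mul_assoc, ht2, one_mul]) }
    · rw [← hC, mem_centralizer_singleton_iff]
      have e2 : t * x⁻¹ * t⁻¹ = x := by rw [hinv _ (inv_mem hS), inv_inv]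
      refine mul_inv_eq_iff_eq_mul.1 ?_
      calc t * s.1 * x * (t * s.1)⁻¹ = t * (s.1 * x * s.1⁻¹) * t⁻¹ := by group
        _ = x := by rw [s.2.2, e2]
    · refine CfsgLib.Invol.orderOf_eq_two ?_ ?_
      · have e := hinv _ y.2
        rw [inv_eq_of_mul_eq_one_right ht2] at e
        calc t * y.1 * (t * y.1) = (t * y.1 * t) * y.1 := by group
          _ = 1 := by rw [e, inv_mul_cancel]
      · intro e
        have ht' : t = y.1⁻¹ := eq_inv_of_mul_eq_one_left e
        obtain ⟨j, hj⟩ := exists_pow_prime_of_mem S.2 (ht' ▸ inv_mem y.2 : t ∈ (S : Subgroup G))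
        have := orderOf_dvd_of_pow_eq_one hj
        rw [ht] at this
        exact hp2 ((Nat.prime_dvd_prime_iff_eq Nat.prime_two hp.out).1 (Nat.prime_two.dvd_of_dvd_pow this)).symm
    · calc t * y.1 * x * (t * y.1)⁻¹ = t * (y.1 * x * y.1⁻¹) * t⁻¹ := by group
        _ = x⁻¹ := by rw [(hab y.1 y.2).symm.eq, mul_inv_cancel_right, hinv x hS]
  · intro hk2 x hx
    rw [Nat.card_eq_zero]
    left
    refine ⟨fun s => ?_⟩
    obtain ⟨S, hS⟩ := hSx x hx
    have hsN := hinvN x hx s.1 s.2.2 S hS
    have hdvd : 2 ∣ p ^ u * k := by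
      rw [← hNS S, ← s.2.1, ← Subgroup.orderOf_mk s.1 hsN]
      exact orderOf_dvd_natCard _
    rcases (Nat.Prime.dvd_mul Nat.prime_two).1 hdvd with e | e
    · exact hp2 ((Nat.prime_dvd_prime_iff_eq Nat.prime_two hp.out).1 (Nat.prime_two.dvd_of_dvd_pow e)).symm
    · exact hk2 e

/-- `z` is the involution generated by the two-element `x`. -/
def Pw (z x : G) : Prop := (orderOf x = 2 ∧ x = z) ∨ (orderOf x = 4 ∧ x * x = z)

theorem pw_conj {z x : G} (g : G) : Pw (g * z * g⁻¹) (g * x * g⁻¹) ↔ Pw z x := by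
  unfold Pw
  rw [CfsgLib.Invol.orderOf_conj_eq]
  have h1 : g * x * g⁻¹ = g * z * g⁻¹ ↔ x = z := by simp
  have h2 : g * x * g⁻¹ * (g * x * g⁻¹) = g * z * g⁻¹ ↔ x * x = z := by
    rw [show g * x * g⁻¹ * (g * x * g⁻¹) = g * (x * x) * g⁻¹ by group]; simp
  rw [h1, h2]

theorem Pw.invol {z x : G} (h : Pw z x) : orderOf z = 2 := by
  rcases h with ⟨h1, rfl⟩ | ⟨h1, h2⟩
  · exact h1
  · rw [← h2, ← pow_two, orderOf_pow' _ (by norm_num), h1]; norm_num

theorem Pw.unique {z z' x : G} (h : Pw z x) (h' : Pw z' x) : z = z' := by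
  rcases h with ⟨h1, h2⟩ | ⟨h1, h2⟩ <;> rcases h' with ⟨h3, h4⟩ | ⟨h3, h4⟩
  · exact h2.symm.trans h4
  · omega
  · omega
  · exact h2.symm.trans h4

theorem Pw.commute {z x : G} (h : Pw z x) : Commute x z := by
  rcases h with ⟨-, h2⟩ | ⟨-, h2⟩ <;> rw [← h2]
  exact (Commute.refl x).mul_right (Commute.refl x)

/-- Counting pairs of involutions and elements, one class of involutions. -/
theorem Small.counts (hs : Small G) (z : G) (hz : orderOf z = 2)
    (hconj : ∀ y : G, orderOf y = 2 → IsConj z y) :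
    Nat.card {s : G // orderOf s = 2} * Nat.card {s : G // orderOf s = 2} =
        Nat.card {s : G // orderOf s = 2} *
          (1 + Nat.card {p : G × G // orderOf p.1 = 2 ∧ orderOf p.2 = 2 ∧ Pw z (p.1 * p.2)}) +
        Nat.card {w : G × G // orderOf w.2 = 3 ∧ orderOf w.1 = 2 ∧ w.1 * w.2 * w.1⁻¹ = w.2⁻¹} +
        Nat.card {w : G × G // orderOf w.2 = 5 ∧ orderOf w.1 = 2 ∧ w.1 * w.2 * w.1⁻¹ = w.2⁻¹} ∧
      Nat.card G = 1 + Nat.card {s : G // orderOf s = 2} * Nat.card {x : G // Pw z x} +
        Nat.card {x : G // orderOf x = 3} + Nat.card {x : G // orderOf x = 5} := by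
  classical
  haveI : Fintype G := Fintype.ofFinite G
  set I := (Finset.univ : Finset G).filter (fun s => orderOf s = 2) with hI
  have hIc : Nat.card {s : G // orderOf s = 2} = I.card := by
    rw [Nat.card_eq_fintype_card, Fintype.card_subtype]
  have hsub : ∀ (β : Type _) [Fintype β] (P : β → Prop) [DecidablePred P],
      Nat.card {b // P b} = ((Finset.univ : Finset β).filter P).card := fun β _ P _ => by
    rw [Nat.card_eq_fintype_card, Fintype.card_subtype]
  have hkey : ∀ x : G, x ≠ 1 → (orderOf x = 2 ∨ orderOf x = 4) → ∃ y ∈ I, Pw y x := by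
    intro x _ hx
    rcases hx with h | h
    · exact ⟨x, by simp [hI, h], Or.inl ⟨h, rfl⟩⟩
    · refine ⟨x * x, ?_, Or.inr ⟨h, rfl⟩⟩
      simp only [hI, Finset.mem_filter, Finset.mem_univ, true_and]
      rw [← pow_two, orderOf_pow' _ (by norm_num), h]; norm_num
  constructor
  · rw [hIc, hsub (G × G), hsub (G × G), hsub (G × G)]
    set A1 := (I ×ˢ I).filter (fun p => p.1 * p.2 = 1)
    set A2 := (I ×ˢ I).filter (fun p => orderOf (p.1 * p.2) = 2 ∨ orderOf (p.1 * p.2) = 4)
    set A3 := (I ×ˢ I).filter (fun p => orderOf (p.1 * p.2) = 3)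
    set A5 := (I ×ˢ I).filter (fun p => orderOf (p.1 * p.2) = 5)
    have hsplit : (I ×ˢ I).card = A1.card + A2.card + A3.card + A5.card := by
      rw [← Finset.card_union_of_disjoint, ← Finset.card_union_of_disjoint, ← Finset.card_union_of_disjoint]
      · congr 1
        ext p
        simp only [A1, A2, A3, A5, Finset.mem_union, Finset.mem_filter]
        constructor
        · intro hp
          rcases hs.cases (p.1 * p.2) with e | e | e | e | e <;> simp [hp, e]
        · tauto
      all_goals
        rw [Finset.disjoint_left]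
        intro p hp hp'
        have hpI : p ∈ I ×ˢ I := (Finset.mem_filter.1 hp').1
        have e1 : p.1 * p.2 = 1 → orderOf (p.1 * p.2) = 1 := orderOf_eq_one_iff.2
        simp only [A1, A2, A3, A5, Finset.mem_union, Finset.mem_filter, hpI, true_and] at hp hp'
        casesm* _ ∨ _
        all_goals first
          | omega
          | (have := e1 ‹p.1 * p.2 = 1›; omega)
    have h1 : A1.card = I.card := by
      refine Finset.card_bij (fun p _ => p.1) (fun p hp => ?_) (fun p hp q hq e => ?_) (fun s hs' => ?_)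
      · simp only [A1, Finset.mem_filter, Finset.mem_product] at hp
        exact hp.1.1
      · simp only [A1, Finset.mem_filter] at hp hq
        refine Prod.ext e ?_
        rw [eq_inv_of_mul_eq_one_right hp.2, eq_inv_of_mul_eq_one_right hq.2, e]
      · refine ⟨(s, s), ?_, rfl⟩
        simp only [hI, Finset.mem_filter, Finset.mem_univ, true_and] at hs'
        simp [A1, hI, hs', CfsgLib.Invol.mul_self_eq_one hs']
    have h2 : A2.card = I.card * ((Finset.univ : Finset (G × G)).filter
        (fun p => orderOf p.1 = 2 ∧ orderOf p.2 = 2 ∧ Pw z (p.1 * p.2))).card := by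
      let κ : G × G → G := fun p => if orderOf (p.1 * p.2) = 4 then p.1 * p.2 * (p.1 * p.2) else p.1 * p.2
      have hκ : ∀ p ∈ A2, Pw (κ p) (p.1 * p.2) := by
        intro p hp
        simp only [A2, Finset.mem_filter] at hp
        by_cases h4 : orderOf (p.1 * p.2) = 4
        · exact Or.inr ⟨h4, by simp [κ, h4]⟩
        · exact Or.inl ⟨by omega, by simp [κ, h4]⟩
      rw [Finset.card_eq_sum_card_fiberwise (f := κ) (t := I) (fun p hp => by
        have := (hκ p hp).invol
        simp [hI, this])]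
      rw [Finset.sum_eq_card_nsmul (fun y hy => ?_), smul_eq_mul]
      simp only [hI, Finset.mem_filter, Finset.mem_univ, true_and] at hy
      obtain ⟨g, hg⟩ := isConj_iff.1 (hconj y hy)
      refine Finset.card_bij (fun p _ => (g⁻¹ * p.1 * g, g⁻¹ * p.2 * g)) (fun p hp => ?_) (fun p _ q _ e => ?_)
        (fun p hp => ?_)
      · simp only [Finset.mem_filter] at hp
        have hk := hκ p hp.1
        rw [hp.2, ← hg] at hk
        have hk' := (pw_conj g⁻¹).2 hk
        simp only [A2, hI, Finset.mem_filter, Finset.mem_product, Finset.mem_univ, true_and] at hp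
        simp only [Finset.mem_filter, Finset.mem_univ, true_and]
        refine ⟨?_, ?_, ?_⟩
        · have := CfsgLib.Invol.orderOf_conj_eq g⁻¹ p.1; rw [inv_inv] at this; rw [this]; exact hp.1.1.1
        · have := CfsgLib.Invol.orderOf_conj_eq g⁻¹ p.2; rw [inv_inv] at this; rw [this]; exact hp.1.1.2
        · simpa [mul_assoc] using hk'
      · simp only [Prod.mk.injEq, mul_left_inj, mul_right_inj] at e
        exact Prod.ext e.1 e.2
      · simp only [Finset.mem_filter, Finset.mem_univ, true_and] at hp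
        refine ⟨(g * p.1 * g⁻¹, g * p.2 * g⁻¹), ?_, by simp [mul_assoc]⟩
        have hk : Pw y ((g * p.1 * g⁻¹) * (g * p.2 * g⁻¹)) := by
          rw [show (g * p.1 * g⁻¹) * (g * p.2 * g⁻¹) = g * (p.1 * p.2) * g⁻¹ by group, ← hg, pw_conj]
          exact hp.2.2
        have hm : (g * p.1 * g⁻¹, g * p.2 * g⁻¹) ∈ A2 := by
          simp only [A2, hI, Finset.mem_filter, Finset.mem_product, Finset.mem_univ, true_and,
            CfsgLib.Invol.orderOf_conj_eq]
          refine ⟨⟨hp.1, hp.2.1⟩, ?_⟩
          rw [show g * p.1 * g⁻¹ * (g * p.2 * g⁻¹) = g * (p.1 * p.2) * g⁻¹ by group] at hk ⊢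
          rcases hk with ⟨h, -⟩ | ⟨h, -⟩ <;> rw [CfsgLib.Invol.orderOf_conj_eq] at h ⊢ <;> simp [h]
        simp only [Finset.mem_filter]
        exact ⟨hm, (hκ _ hm).unique hk⟩
    have hodd : ∀ q : ℕ, 3 ≤ q → ((I ×ˢ I).filter (fun p => orderOf (p.1 * p.2) = q)).card =
        ((Finset.univ : Finset (G × G)).filter
          (fun w => orderOf w.2 = q ∧ orderOf w.1 = 2 ∧ w.1 * w.2 * w.1⁻¹ = w.2⁻¹)).card := by
      intro q hq
      refine Finset.card_bij (fun p _ => (p.1, p.1 * p.2)) (fun p hp => ?_) (fun p _ p' _ e => ?_) (fun w hw => ?_)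
      · simp only [hI, Finset.mem_filter, Finset.mem_product, Finset.mem_univ, true_and] at hp
        simp only [Finset.mem_filter, Finset.mem_univ, true_and]
        refine ⟨hp.2, hp.1.1, ?_⟩
        rw [_root_.mul_inv_rev, CfsgLib.Invol.inv_eq_self hp.1.1, CfsgLib.Invol.inv_eq_self hp.1.2, ← mul_assoc,
          CfsgLib.Invol.mul_self_eq_one hp.1.1, one_mul]
      · simp only [Prod.mk.injEq] at e
        exact Prod.ext e.1 (mul_left_cancel (a := p.1) (by rw [e.2, e.1]))
      · simp only [Finset.mem_filter, Finset.mem_univ, true_and] at hw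
        obtain ⟨hq', h2', hinv⟩ := hw
        have hs2 := CfsgLib.Invol.mul_self_eq_one h2'
        refine ⟨(w.1, w.1 * w.2), ?_, by rw [← mul_assoc, hs2, one_mul]⟩
        simp only [hI, Finset.mem_filter, Finset.mem_product, Finset.mem_univ, true_and]
        refine ⟨⟨h2', CfsgLib.Invol.orderOf_eq_two ?_ ?_⟩, by rw [← mul_assoc, hs2, one_mul, hq']⟩
        · rw [CfsgLib.Invol.inv_eq_self h2'] at hinv
          calc w.1 * w.2 * (w.1 * w.2) = w.1 * w.2 * w.1 * w.2 := by group
            _ = 1 := by rw [hinv, inv_mul_cancel]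
        · intro e
          rw [eq_inv_of_mul_eq_one_right e, orderOf_inv, h2'] at hq'
          omega
    rw [← Finset.card_product, hsplit, h1, h2, hodd 3 (by norm_num), hodd 5 (by norm_num)]
    ring
  · rw [hIc, hsub G, hsub G, hsub G, Nat.card_eq_fintype_card, ← Finset.card_univ]
    set B1 := (Finset.univ : Finset G).filter (fun x => x = 1)
    set B2 := (Finset.univ : Finset G).filter (fun x => orderOf x = 2 ∨ orderOf x = 4)
    set B3 := (Finset.univ : Finset G).filter (fun x => orderOf x = 3)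
    set B5 := (Finset.univ : Finset G).filter (fun x => orderOf x = 5)
    have hsplit : (Finset.univ : Finset G).card = B1.card + B2.card + B3.card + B5.card := by
      rw [← Finset.card_union_of_disjoint, ← Finset.card_union_of_disjoint, ← Finset.card_union_of_disjoint]
      · congr 1
        ext p
        simp only [B1, B2, B3, B5, Finset.mem_union, Finset.mem_filter, Finset.mem_univ, true_and, true_iff]
        rcases hs.cases p with e | e | e | e | e <;> simp [e]
      all_goals
        rw [Finset.disjoint_left]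
        intro p hp hp'
        have e1 : p = 1 → orderOf p = 1 := orderOf_eq_one_iff.2
        simp only [B1, B2, B3, B5, Finset.mem_union, Finset.mem_filter, Finset.mem_univ, true_and] at hp hp'
        casesm* _ ∨ _
        all_goals first
          | omega
          | (have := e1 ‹p = 1›; omega)
    have h1 : B1.card = 1 := by
      rw [Finset.card_eq_one]
      exact ⟨1, by ext x; simp [B1]⟩
    have h2 : B2.card = I.card * ((Finset.univ : Finset G).filter (fun x => Pw z x)).card := by
      let κ : G → G := fun x => if orderOf x = 4 then x * x else x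
      have hκ : ∀ x ∈ B2, Pw (κ x) x := by
        intro x hx
        simp only [B2, Finset.mem_filter] at hx
        by_cases h4 : orderOf x = 4
        · exact Or.inr ⟨h4, by simp [κ, h4]⟩
        · exact Or.inl ⟨by omega, by simp [κ, h4]⟩
      rw [Finset.card_eq_sum_card_fiberwise (f := κ) (t := I) (fun p hp => by
        have := (hκ p hp).invol
        simp [hI, this])]
      rw [Finset.sum_eq_card_nsmul (fun y hy => ?_), smul_eq_mul]
      simp only [hI, Finset.mem_filter, Finset.mem_univ, true_and] at hy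
      obtain ⟨g, hg⟩ := isConj_iff.1 (hconj y hy)
      refine Finset.card_bij (fun x _ => g⁻¹ * x * g) (fun p hp => ?_) (fun p _ q _ e => ?_) (fun p hp => ?_)
      · simp only [Finset.mem_filter] at hp
        have hk := hκ p hp.1
        rw [hp.2, ← hg] at hk
        have hk' := (pw_conj g⁻¹).2 hk
        simp only [Finset.mem_filter, Finset.mem_univ, true_and]
        simpa [mul_assoc] using hk'
      · simpa using e
      · simp only [Finset.mem_filter, Finset.mem_univ, true_and] at hp
        refine ⟨g * p * g⁻¹, ?_, by simp [mul_assoc]⟩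
        have hk : Pw y (g * p * g⁻¹) := by rw [← hg, pw_conj]; exact hp
        have hm : g * p * g⁻¹ ∈ B2 := by
          simp only [B2, Finset.mem_filter, Finset.mem_univ, true_and]
          rcases hk with ⟨h, -⟩ | ⟨h, -⟩ <;> simp [h]
        simp only [Finset.mem_filter]
        exact ⟨hm, (hκ _ hm).unique hk⟩
    rw [hsplit, h1, h2]

end CfsgLib.SpecFive
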