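import Cfsg.Agent.SpecFive.Elements
import Cfsg.Agent.SpecBlow.A6

/-!
Irreducible fixed-point-free modules in characteristic two for the alternating group of degree five:
they are the natural module of the special linear group over the field with four elements.
-/

set_option autoImplicit false

namespace CfsgLib.SpecFive

variable {M : Type*} [AddCommGroup M] (ρ : alternatingGroup (Fin 5) →* AddMonoid.End M)
  (h2 : ∀ v : M, v + v = 0)
  (hf : ∀ g : alternatingGroup (Fin 5), g * g * g = 1 → g ≠ 1 → ∀ v, ρ g v = v → v = 0)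

theorem rho_mul (g h : alternatingGroup (Fin 5)) (v : M) : ρ (g * h) v = ρ g (ρ h v) := by
  rw [map_mul]; rfl

theorem rho_one (v : M) : ρ 1 v = v := by
  rw [map_one]; rfl

include hf in
theorem sum_three {g : alternatingGroup (Fin 5)} (hg : g * g * g = 1) (hg1 : g ≠ 1) (v : M) :
    v + ρ g v + ρ (g * g) v = 0 := by
  apply hf g hg hg1
  rw [map_add, map_add, ← rho_mul, ← rho_mul, ← mul_assoc, hg, rho_one]
  abel

include h2 hf in
theorem sum_four (v : M) : v + ρ Five.a v + ρ Five.b v + ρ Five.c v = 0 := by
  have e0 := sum_three ρ hf Five.x_cube Five.x_ne v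
  have e1 := sum_three ρ hf (g := Five.a * Five.x) (by decide +kernel) (by decide +kernel) v
  have e2 := sum_three ρ hf (g := Five.b * Five.x) (by decide +kernel) (by decide +kernel) v
  have e3 := sum_three ρ hf (g := Five.c * Five.x) (by decide +kernel) (by decide +kernel) v
  rw [show Five.a * Five.x * (Five.a * Five.x) = Five.c * (Five.x * Five.x) by decide +kernel] at e1
  rw [show Five.b * Five.x * (Five.b * Five.x) = Five.a * (Five.x * Five.x) by decide +kernel] at e2
  rw [show Five.c * Five.x * (Five.c * Five.x) = Five.b * (Five.x * Five.x) by decide +kernel] at e3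
  simp only [rho_mul] at e0 e1 e2 e3
  set y := ρ Five.x v with hy
  set z := ρ Five.x y with hz
  have hv : v = y + z := by
    have := e0
    calc v = (v + y + z) + (y + z) := by
          rw [show v + y + z + (y + z) = v + ((y + y) + (z + z)) by abel, h2, h2]; abel
      _ = y + z := by rw [this, zero_add]
  have hA : ρ Five.a v = ρ Five.a y + ρ Five.a z := by rw [← map_add, ← hv]
  have hB : ρ Five.b v = ρ Five.b y + ρ Five.b z := by rw [← map_add, ← hv]
  have hC : ρ Five.c v = ρ Five.c y + ρ Five.c z := by rw [← map_add, ← hv]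
  calc v + ρ Five.a v + ρ Five.b v + ρ Five.c v
      = (v + v) + (v + (ρ Five.a y + ρ Five.a z) + (ρ Five.b y + ρ Five.b z) + (ρ Five.c y + ρ Five.c z)) := by
        rw [hA, hB, hC, h2, zero_add]
    _ = (v + ρ Five.a y + ρ Five.c z) + (v + ρ Five.b y + ρ Five.a z) + (v + ρ Five.c y + ρ Five.b z) := by abel
    _ = 0 := by rw [e1, e2, e3]; simp

/-- The fixed points of the four group. -/
def InC (v : M) : Prop := ρ Five.a v = v ∧ ρ Five.b v = v

include h2 hf in
/-- The natural module. -/
theorem natural [Nontrivial M]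
    (hirr : ∀ W : AddSubgroup M, (∀ g, ∀ v ∈ W, ρ g v ∈ W) → W ≠ ⊥ → W = ⊤)
    {F : Type*} [Field F] [Fintype F] (hF : Fintype.card F = 4) :
    ∃ (ι : F × F ≃+ M) (w : F), w * w + w + 1 = 0 ∧
      (∀ p q, ρ Five.x (ι (p, q)) = ι (w * p, (w + 1) * q)) ∧
      (∀ p q, ρ Five.t (ι (p, q)) = ι (q, p)) ∧
      (∀ p q, ρ Five.a (ι (p, q)) = ι (p + q, q)) := by
  classical
  haveI := CfsgLib.SpecBlow.A6.charP_two hF
  have haa : ∀ v, ρ Five.a (ρ Five.a v) = v := fun v => by rw [← rho_mul, Five.a_sq, rho_one]
  have htt : ∀ v, ρ Five.t (ρ Five.t v) = v := fun v => by rw [← rho_mul, Five.t_sq, rho_one]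
  have hbb : ∀ v, ρ Five.b (ρ Five.b v) = v := fun v => by
    rw [← rho_mul, show Five.b * Five.b = 1 by decide +kernel, rho_one]
  have hab : ∀ v, ρ Five.a (ρ Five.b v) = ρ Five.b (ρ Five.a v) := fun v => by
    rw [← rho_mul, ← rho_mul, Five.comm_ab]
  have hswap : ∀ {u v : M}, u + v = 0 → v = u := fun {u v} h => by
    calc v = (u + u) + v := by rw [h2, zero_add]
      _ = u + (u + v) := by abel
      _ = u := by rw [h, add_zero]
  obtain ⟨f, hf0, hfC⟩ : ∃ f : M, f ≠ 0 ∧ InC ρ f := by
    obtain ⟨w, hw, hwa⟩ : ∃ w : M, w ≠ 0 ∧ ρ Five.a w = w := by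
      obtain ⟨v, hv⟩ := exists_ne (0 : M)
      by_cases h : v + ρ Five.a v = 0
      · exact ⟨v, hv, hswap h⟩
      · exact ⟨_, h, by rw [map_add, haa, add_comm]⟩
    by_cases h : w + ρ Five.b w = 0
    · exact ⟨w, hw, hwa, hswap h⟩
    · exact ⟨_, h, by rw [map_add, hab, hwa], by rw [map_add, hbb, add_comm]⟩
  have hCX : ∀ v, InC ρ v → InC ρ (ρ Five.x v) := by
    intro v hv
    constructor
    · rw [← rho_mul, show Five.a * Five.x = Five.x * (Five.a * Five.b) by decide +kernel, rho_mul, rho_mul, hv.2, hv.1]
    · rw [← rho_mul, show Five.b * Five.x = Five.x * Five.a by decide +kernel, rho_mul, hv.1]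
  have hCadd : ∀ u v, InC ρ u → InC ρ v → InC ρ (u + v) := fun u v hu hv =>
    ⟨by rw [map_add, hu.1, hv.1], by rw [map_add, hu.2, hv.2]⟩
  have hCC : ∀ v, InC ρ v → InC ρ (ρ Five.t v) → v = 0 := by
    intro v hv hv'
    refine hf (Five.a * (Five.t * Five.a * Five.t)) (by decide +kernel) (by decide +kernel) v ?_
    rw [rho_mul, rho_mul, rho_mul, hv'.1, htt, hv.1]
  have hkey : ∀ v, InC ρ v → ρ Five.a (ρ Five.t v) = ρ Five.t v + v := by
    intro v hv
    set th := ρ Five.t v + ρ Five.a (ρ Five.t v) with hth
    have hA : ρ Five.a (ρ Five.t v) = ρ Five.t v + th := by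
      rw [hth, ← add_assoc, h2, zero_add]
    have hthC : InC ρ th := by
      refine ⟨by rw [hth, map_add, haa, add_comm], ?_⟩
      have hs4 := sum_four ρ h2 hf (ρ Five.t v)
      rw [← Five.mul_ab, rho_mul, hab, add_assoc, add_assoc, ← add_assoc (ρ Five.t v), ← map_add] at hs4
      rw [← hth] at hs4
      exact hswap hs4
    have e := sum_three ρ hf (g := Five.a * Five.t) (by decide +kernel) (by decide +kernel) v
    simp only [rho_mul] at e
    rw [hA, map_add (ρ Five.t), htt, map_add (ρ Five.a), hv.1] at e
    have hAth : ρ Five.a (ρ Five.t th) = ρ Five.t th + (ρ Five.t th + ρ Five.a (ρ Five.t th)) := by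
      rw [← add_assoc, h2, zero_add]
    -- the image of `th` lies in both fixed spaces
    set th2 := ρ Five.t th + ρ Five.a (ρ Five.t th) with hth2
    have hth2C : InC ρ th2 := by
      refine ⟨by rw [hth2, map_add, haa, add_comm], ?_⟩
      have hs4 := sum_four ρ h2 hf (ρ Five.t th)
      rw [← Five.mul_ab, rho_mul, hab, add_assoc, add_assoc, ← add_assoc (ρ Five.t th), ← map_add] at hs4
      rw [← hth2] at hs4
      exact hswap hs4
    rw [hAth] at e
    have e' : (ρ Five.t v + ρ Five.t th) + (th + th2) = 0 := by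
      calc (ρ Five.t v + ρ Five.t th) + (th + th2)
          = (v + v) + ((ρ Five.t v + ρ Five.t th) + (th + th2)) := by rw [h2, zero_add]
        _ = v + (ρ Five.t v + th) + (v + (ρ Five.t th + th2)) := by abel
        _ = 0 := e
    have h0 := hCC (v + th) (hCadd _ _ hv hthC) (by
      rw [map_add, hswap ((add_comm _ _).trans e')]
      exact hCadd _ _ hthC hth2C)
    rw [hA, hswap h0]
  -- the field
  obtain ⟨w, hw⟩ : ∃ w : F, w * w + w + 1 = 0 := by
    by_contra hne
    push Not at hne
    have hsub : (Finset.univ : Finset F) ⊆ {0, 1} := fun t _ => by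
      rcases CfsgLib.SpecBlow.A6.trace_cases hF t with h | h | h
      · simp [h]
      · simp [h]
      · exact absurd h (hne t)
    have := (Finset.card_le_card hsub).trans Finset.card_le_two
    rw [Finset.card_univ, hF] at this
    omega
  have two : (2 : F) = 0 := CharTwo.two_eq_zero
  have w0 : w ≠ 0 := fun h => by simp [h] at hw
  have w1 : w ≠ 1 := fun h => by rw [h] at hw; simp [CharTwo.add_self_eq_zero] at hw
  have w10 : w + 1 ≠ 0 := fun h => w1 (by linear_combination h - two)
  have hcases : ∀ p : F, p = 0 ∨ p = 1 ∨ p = w ∨ p = w + 1 := by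
    intro p
    have hu : ({0, 1, w, w + 1} : Finset F) = Finset.univ := by
      apply Finset.eq_univ_of_card
      rw [hF, Finset.card_insert_of_notMem, Finset.card_insert_of_notMem, Finset.card_insert_of_notMem,
        Finset.card_singleton]
      · simp
      · simp [w1.symm, w0]
      · simp [w0.symm, Ne.symm w10]
    have := Finset.mem_univ p
    rw [← hu] at this
    simpa using this
  set y := ρ Five.x f with hy
  have hxy : ρ Five.x y = f + y := by
    have := sum_three ρ hf Five.x_cube Five.x_ne f
    rw [rho_mul] at this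
    exact hswap this
  let e : F → M := fun p => if p = 0 then 0 else if p = 1 then f else if p = w then y else f + y
  have e0 : e 0 = 0 := if_pos rfl
  have e1 : e 1 = f := by simp [e]
  have ew : e w = y := by simp [e, w0, w1]
  have ew1 : e (w + 1) = f + y := by simp [e, w0, w1, w10]
  have hne : ∀ p, e p = 0 → p = 0 := by
    intro p hp
    rcases hcases p with h | h | h | h <;> rw [h] at hp ⊢
    · exact absurd (e1 ▸ hp) hf0
    · rw [ew] at hp
      exact absurd (show f = 0 by
        have := congrArg (ρ (Five.x * Five.x)) hp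
        rwa [hy, ← rho_mul, Five.x_cube, rho_one, map_zero] at this) hf0
    · rw [ew1] at hp
      exact absurd (hf Five.x Five.x_cube Five.x_ne f (hswap hp)) hf0
  have hww : w + w = 0 := CharTwo.add_self_eq_zero w
  have h11 : (1 : F) + 1 = 0 := CharTwo.add_self_eq_zero 1
  have headd : ∀ p q, e (p + q) = e p + e q := by
    intro p q
    rcases hcases p with hp | hp | hp | hp <;> rcases hcases q with hq | hq | hq | hq <;>
      rw [hp, hq] <;> try simp only [zero_add, add_zero, CharTwo.add_self_eq_zero, e0, h2]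
    · rw [add_comm 1 w, ew1, e1, ew]
    · rw [show 1 + (w + 1) = w by linear_combination two, ew, e1, ew1, ← add_assoc, h2, zero_add]
    · rw [ew1, ew, e1, add_comm]
    · rw [show w + (w + 1) = 1 by linear_combination w * two, e1, ew, ew1, ← add_assoc, add_comm y f, add_assoc, h2, add_zero]
    · rw [show w + 1 + 1 = w by linear_combination two, ew, e1, ew1, add_comm f y, add_assoc, h2, add_zero]
    · rw [show w + 1 + w = 1 by linear_combination w * two, e1, ew, ew1, add_assoc, h2, add_zero]
  have hmulw : ∀ p, e (w * p) = ρ Five.x (e p) := by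
    intro p
    rcases hcases p with h | h | h | h <;> rw [h]
    · rw [mul_zero, e0, map_zero]
    · rw [mul_one, ew, e1]
    · rw [show w * w = w + 1 by linear_combination hw - (w + 1) * two, ew1, ew, hxy]
    · rw [show w * (w + 1) = 1 by linear_combination hw - two, e1, ew1, map_add, hxy, ← hy, add_comm f y, ← add_assoc, h2, zero_add]
  have hmulw1 : ∀ p, e ((w + 1) * p) = ρ (Five.x * Five.x) (e p) := by
    intro p
    rw [rho_mul, ← hmulw, ← hmulw]
    congr 1
    linear_combination -p * hw + p * (w + 1) * two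
  have heC : ∀ p, InC ρ (e p) := by
    intro p
    rcases hcases p with h | h | h | h <;> rw [h]
    · rw [e0]; exact ⟨map_zero _, map_zero _⟩
    · rw [e1]; exact hfC
    · rw [ew]; exact hCX _ hfC
    · rw [ew1]; exact hCadd _ _ hfC (hCX _ hfC)
  let J : F × F →+ M :=
    { toFun := fun z => e z.1 + ρ Five.t (e z.2)
      map_zero' := by simp [e0]
      map_add' := fun z z' => by
        show e (z.1 + z'.1) + ρ Five.t (e (z.2 + z'.2)) = _
        rw [headd, headd, map_add]
        abel }
  have hJ : ∀ p q, J (p, q) = e p + ρ Five.t (e q) := fun p q => rfl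
  have hX : ∀ p q, ρ Five.x (J (p, q)) = J (w * p, (w + 1) * q) := by
    intro p q
    rw [hJ, hJ, map_add, hmulw, hmulw1, ← rho_mul ρ Five.x Five.t, ← rho_mul ρ Five.t,
      show Five.t * (Five.x * Five.x) = Five.x * Five.t by decide +kernel]
  have hT : ∀ p q, ρ Five.t (J (p, q)) = J (q, p) := by
    intro p q
    rw [hJ, hJ, map_add, htt, add_comm]
  have hA : ∀ p q, ρ Five.a (J (p, q)) = J (p + q, q) := by
    intro p q
    rw [hJ, hJ, map_add, (heC p).1, hkey _ (heC q), headd]
    abel
  have hinj : Function.Injective J := by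
    rw [injective_iff_map_eq_zero]
    rintro ⟨p, q⟩ h
    rw [hJ] at h
    have hq : e q = 0 := hCC _ (heC q) (by rw [hswap h]; exact heC p)
    rw [hq, map_zero, add_zero] at h
    rw [hne p h, hne q hq]
    rfl
  have hsur : Function.Surjective J := by
    rw [← AddMonoidHom.range_eq_top]
    refine hirr _ (fun g => ?_) fun h => hf0 ?_
    · have hg : g ∈ Subgroup.closure ({Five.a, Five.x, Five.t} : Set (alternatingGroup (Fin 5))) :=
        Five.closure_eq_top ▸ Subgroup.mem_top g
      have hgen : ∀ g ∈ ({Five.a, Five.x, Five.t} : Set (alternatingGroup (Fin 5))),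
          ∀ v ∈ J.range, ρ g v ∈ J.range := by
        rintro g (rfl | rfl | rfl) v ⟨⟨p, q⟩, rfl⟩
        · exact ⟨_, (hA p q).symm⟩
        · exact ⟨_, (hX p q).symm⟩
        · exact ⟨_, (hT p q).symm⟩
      induction hg using Subgroup.closure_induction with
      | mem g hg => exact hgen g hg
      | one => intro v hv; rwa [rho_one]
      | mul g h _ _ ihg ihh => intro v hv; rw [rho_mul]; exact ihg _ (ihh v hv)
      | inv g _ ih =>
        intro v hv
        have hp : ∀ n : ℕ, ρ (g ^ n) v ∈ J.range := by
          intro n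
          induction n with
          | zero => rwa [pow_zero, rho_one]
          | succ n ihn => rw [pow_succ', rho_mul]; exact ih _ ihn
        rw [show g⁻¹ = g ^ (orderOf g - 1) from inv_eq_of_mul_eq_one_right (by
          rw [← pow_succ', Nat.sub_add_cancel (orderOf_pos g), pow_orderOf_eq_one])]
        exact hp _
    · have : J (1, 0) ∈ J.range := ⟨_, rfl⟩
      rw [h, AddSubgroup.mem_bot, hJ, e0, map_zero, add_zero, e1] at this
      exact this
  exact ⟨AddEquiv.ofBijective J ⟨hinj, hsur⟩, w, hw, hX, hT, hA⟩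

end CfsgLib.SpecFive
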