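import Cfsg.Agent.SpecFive.Main
import Cfsg.Agent.SpecFive.NatModule
import Cfsg.Agent.Solvable.Gaschutz

/-!
Critical groups for the element orders `1, …, 5`.
-/

set_option autoImplicit false
set_option linter.unusedSectionVars false

namespace CfsgLib.SpecFive

open Subgroup

variable {G : Type*} [Group G] [Finite G] {N : Subgroup G} [N.Normal]
  (ψ : G →* alternatingGroup (Fin 5))

theorem conj_eq_of_map_eq (hker : ψ.ker = N) (hN : ∀ n ∈ N, n * n = 1) {g h : G} (e : ψ g = ψ h) {n : G}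
    (hn : n ∈ N) : g * n * g⁻¹ = h * n * h⁻¹ := by
  have hm : h⁻¹ * g ∈ N := by
    rw [← hker, MonoidHom.mem_ker, map_mul, map_inv, e, inv_mul_cancel]
  have hc := (commute_of_exp_two hN hm hn).eq
  calc g * n * g⁻¹ = h * (h⁻¹ * g * n) * g⁻¹ := by group
    _ = h * (n * (h⁻¹ * g)) * g⁻¹ := by rw [hc]
    _ = _ := by group

theorem orderOf_of_map_three (hs : Small G) {g : G} (hg : orderOf (ψ g) = 3) : orderOf g = 3 := by
  have := orderOf_map_dvd ψ g
  rw [hg] at this
  rcases hs.cases g with e | e | e | e | e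
  · rw [e, map_one, orderOf_one] at hg; omega
  all_goals rw [e] at this ⊢
  all_goals norm_num at this

theorem fpf_of_map_three (hs : Small G) (hN : ∀ n ∈ N, n * n = 1) {g : G} (hg : orderOf (ψ g) = 3) :
    Fpf g N := by
  have h3 := orderOf_of_map_three ψ hs hg
  refine hs.fpf Nat.prime_two (fun c => ⟨1, Subtype.ext ?_⟩) ?_ ?_
  · rw [pow_one, pow_two]; exact hN c c.2
  · intro e; rw [e, orderOf_one] at h3; omega
  · rw [h3]; norm_num

/-- The extension splits. -/
theorem exists_section (hs : Small G) (hψ : Function.Surjective ψ) (hker : ψ.ker = N)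
    (hN : ∀ n ∈ N, n * n = 1) : ∃ σ : alternatingGroup (Fin 5) →* G, ∀ π, ψ (σ π) = π := by
  classical
  have hmem : ∀ {g : G}, g ∈ N ↔ ψ g = 1 := fun {g} => by rw [← hker, MonoidHom.mem_ker]
  obtain ⟨x, hx⟩ := hψ Five.x
  have hx3 := fpf_of_map_three ψ hs hN (g := x) (by rw [hx]; exact Five.orderOf_x)
  have hxo := orderOf_of_map_three ψ hs (g := x) (by rw [hx]; exact Five.orderOf_x)
  have hxc : x * x * x = 1 := by
    have := pow_orderOf_eq_one x
    rwa [hxo, pow_succ, pow_two] at this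
  -- an involution above `Five.t`
  obtain ⟨t, ht, htt⟩ : ∃ t, ψ t = Five.t ∧ t * t = 1 := by
    obtain ⟨g, hg⟩ := hψ Five.t
    have hn : x * (g * x * g⁻¹) ∈ N := by
      rw [hmem, map_mul, map_mul, map_mul, map_inv, hx, hg, Five.t_x, mul_inv_cancel]
    have hf : Fpf x⁻¹ N := fun u hu hc => hx3 u hu (by simpa using hc.inv_left)
    obtain ⟨v, hv, hvx⟩ := exists_conj_of_fpf hf hn
    rw [inv_mul_cancel_left] at hvx
    have hinv : v * g * x * (v * g)⁻¹ = x⁻¹ := by
      rw [show v * g * x * (v * g)⁻¹ = v * (g * x * g⁻¹) * v⁻¹ by group, ← hvx]; group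
    refine ⟨v * g, by rw [map_mul, hmem.1 hv, one_mul, hg], hx3 _ ?_ ?_⟩
    · rw [hmem, map_mul, map_mul, hmem.1 hv, one_mul, hg, Five.t_sq]
    · show x * (v * g * (v * g)) = v * g * (v * g) * x
      have h' : v * g * x⁻¹ * (v * g)⁻¹ = x := by
        rw [← conj_inv, hinv, inv_inv]
      calc x * (v * g * (v * g)) = v * g * x⁻¹ * (v * g)⁻¹ * (v * g * (v * g)) := by rw [h']
        _ = v * g * (v * g * x * (v * g)⁻¹) * (v * g) := by rw [hinv]; group
        _ = _ := by group
  obtain ⟨h, hh⟩ := Five.exists_conj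
  obtain ⟨h', hh'⟩ := hψ h
  set u := h' * t * h'⁻¹ with hu
  have hua : ψ u = Five.a := by rw [hu, map_mul, map_mul, map_inv, hh', ht, hh]
  have huu : u * u = 1 := by
    rw [hu, show h' * t * h'⁻¹ * (h' * t * h'⁻¹) = h' * (t * t) * h'⁻¹ by group, htt]; group
  set u' := x * u * x⁻¹ with hu'
  set u'' := x * u' * x⁻¹ with hu''
  have hub : ψ u' = Five.b := by rw [hu', map_mul, map_mul, map_inv, hx, hua]; rfl
  have huc : ψ u'' = Five.c := by rw [hu'', map_mul, map_mul, map_inv, hx, hub]; rfl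
  have hu'u' : u' * u' = 1 := by
    rw [hu', show x * u * x⁻¹ * (x * u * x⁻¹) = x * (u * u) * x⁻¹ by group, huu]; group
  have hu''u'' : u'' * u'' = 1 := by
    rw [hu'', show x * u' * x⁻¹ * (x * u' * x⁻¹) = x * (u' * u') * x⁻¹ by group, hu'u']; group
  have hxu'' : x * u'' * x⁻¹ = u := by
    rw [hu'', hu', show x * (x * (x * u * x⁻¹) * x⁻¹) * x⁻¹ = (x * x * x) * u * (x * x * x)⁻¹ by group, hxc]
    group
  have hinv : ∀ {v : G}, v * v = 1 → v⁻¹ = v := fun {v} hv => inv_eq_of_mul_eq_one_right hv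
  -- the product is trivial
  set d := u * u' * u'' with hd
  have hdN : d ∈ N := by rw [hmem, hd, map_mul, map_mul, hua, hub, huc, Five.abc]
  have cj : ∀ (g : G) {n : G}, n ∈ N → g * n * g⁻¹ ∈ N := fun g {n} hn => ‹N.Normal›.conj_mem n hn g
  have comm : ∀ {m n : G}, m ∈ N → n ∈ N → m * n = n * m := fun {m n} hm hn => (commute_of_exp_two hN hm hn).eq
  have hd1 : x * d * x⁻¹ = u * d * u⁻¹ := by
    rw [hd, show x * (u * u' * u'') * x⁻¹ = (x * u * x⁻¹) * (x * u' * x⁻¹) * (x * u'' * x⁻¹) by group,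
      hxu'', ← hu', ← hu'', hinv huu]
    calc u' * u'' * u = (u * u) * u' * u'' * u := by rw [huu, one_mul]
      _ = _ := by group
  set w := u' * u with hw
  have hd2 : x * (u * d * u⁻¹) * x⁻¹ = w * d * w⁻¹ := by
    rw [show x * (u * d * u⁻¹) * x⁻¹ = (x * u * x⁻¹) * (x * d * x⁻¹) * (x * u * x⁻¹)⁻¹ by group, ← hu', hd1, hw]
    group
  have hsum : d * (u * d * u⁻¹) * (w * d * w⁻¹) = 1 := by
    refine hx3 _ (mul_mem (mul_mem hdN (cj u hdN)) (cj w hdN)) ?_
    show _ = _
    have e3 : x * (w * d * w⁻¹) * x⁻¹ = d := by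
      rw [← hd2, ← hd1, show x * (x * (x * d * x⁻¹) * x⁻¹) * x⁻¹ = (x * x * x) * d * (x * x * x)⁻¹ by group, hxc]
      group
    have e : x * (d * (u * d * u⁻¹) * (w * d * w⁻¹)) * x⁻¹ = d * (u * d * u⁻¹) * (w * d * w⁻¹) := by
      rw [show x * (d * (u * d * u⁻¹) * (w * d * w⁻¹)) * x⁻¹ =
        (x * d * x⁻¹) * (x * (u * d * u⁻¹) * x⁻¹) * (x * (w * d * w⁻¹) * x⁻¹) by group, hd1, hd2, e3]
      rw [comm (mul_mem (cj u hdN) (cj w hdN)) hdN]
      group
    calc x * (d * (u * d * u⁻¹) * (w * d * w⁻¹))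
        = x * (d * (u * d * u⁻¹) * (w * d * w⁻¹)) * x⁻¹ * x := by group
      _ = _ := by rw [e]
  have hd0 : d = 1 := by
    letI : CommGroup N := { (inferInstance : Group N) with
      mul_comm := fun a b => Subtype.ext (comm a.2 b.2) }
    set U : MulAut N := MulAut.conjNormal u
    set W : MulAut N := MulAut.conjNormal w
    set D : N := ⟨d, hdN⟩
    have hUU : ∀ n, U (U n) = n := fun n => by
      rw [← MulAut.mul_apply, ← map_mul, huu, map_one, MulAut.one_apply]
    have hWW : ∀ n, W (W n) = n := fun n => Subtype.ext (by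
      rw [MulAut.conjNormal_apply, MulAut.conjNormal_apply,
        show w * (w * (n : G) * w⁻¹) * w⁻¹ = (w * w) * n * (w * w)⁻¹ by group,
        conj_eq_of_map_eq ψ hker hN (show ψ (w * w) = ψ 1 by
          rw [hw, map_mul, map_mul, map_one, hua, hub]; decide +kernel) n.2]
      group)
    have hUW : ∀ n, U (W n) = W (U n) := fun n => Subtype.ext (by
      simp only [U, W, MulAut.conjNormal_apply]
      rw [show u * (w * (n : G) * w⁻¹) * u⁻¹ = (u * w) * n * (u * w)⁻¹ by group,
        show w * (u * (n : G) * u⁻¹) * w⁻¹ = (w * u) * n * (w * u)⁻¹ by group]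
      exact conj_eq_of_map_eq ψ hker hN (by rw [map_mul ψ u w, map_mul ψ w u, hua, show ψ w = Five.b * Five.a by rw [hw, map_mul ψ u' u, hub, hua]]; decide +kernel) n.2)
    have h1 : D * U D * W D = 1 := Subtype.ext (by simpa [D, U, W] using hsum)
    have h2 := congrArg U h1
    have h3 := congrArg W h1
    simp only [map_mul, map_one, hUU] at h2
    simp only [map_mul, map_one, hWW, ← hUW] at h3
    have hsq : ∀ n : N, n * n = 1 := fun n => Subtype.ext (hN n n.2)
    have hD : D = 1 := by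
      have e : (D * U D * W D) * (U D * D * U (W D)) * (W D * U (W D) * D) = 1 := by rw [h1, h2, h3]; simp
      calc D = (D * D) * (U D * U D) * (W D * W D) * (U (W D) * U (W D)) * D := by simp [hsq]
        _ = (D * U D * W D) * (U D * D * U (W D)) * (W D * U (W D) * D) := by ac_rfl
        _ = 1 := e
    exact congrArg Subtype.val hD
  have hprod : u * u' = u'' := by
    rw [← hinv hu''u'']; exact eq_inv_of_mul_eq_one_left (hd ▸ hd0)
  have hprod' : u' * u = u'' := by
    rw [← hinv hu''u'', ← hprod, _root_.mul_inv_rev, hinv huu, hinv hu'u']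
  -- the Sylow two-subgroup splits
  let A : Subgroup G :=
    { carrier := {g | g = 1 ∨ g = u ∨ g = u' ∨ g = u''}
      one_mem' := Or.inl rfl
      mul_mem' := by
        have a1 : u * u'' = u' := by rw [← hprod, ← mul_assoc, huu, one_mul]
        have a2 : u'' * u = u' := by rw [← hprod', mul_assoc, huu, mul_one]
        have a3 : u' * u'' = u := by rw [← hprod', ← mul_assoc, hu'u', one_mul]
        have a4 : u'' * u' = u := by rw [← hprod, mul_assoc, hu'u', mul_one]
        rintro g k (rfl | rfl | rfl | rfl) (rfl | rfl | rfl | rfl) <;>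
          simp [huu, hu'u', hu''u'', hprod, hprod', a1, a2, a3, a4]
      inv_mem' := by
        rintro g (rfl | rfl | rfl | rfl) <;> simp [hinv huu, hinv hu'u', hinv hu''u''] }
  have hmemA : ∀ {g : G}, g ∈ A ↔ g = 1 ∨ g = u ∨ g = u' ∨ g = u'' := Iff.rfl
  haveI : IsMulCommutative N := ⟨⟨fun a b => Subtype.ext (comm a.2 b.2)⟩⟩
  have hNU : N ≤ Five.V.comap ψ := fun n hn => mem_comap.2 (hmem.1 hn ▸ one_mem _)
  have hcop : (Nat.card N).Coprime (Five.V.comap ψ).index := by
    have hp : IsPGroup 2 N := fun c => ⟨1, Subtype.ext (by rw [pow_one, pow_two]; exact hN c c.2)⟩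
    obtain ⟨k, hk⟩ := hp.exists_card_eq
    rw [hk, index_comap_of_surjective _ hψ, Five.index_V]
    exact Nat.Coprime.pow_left k (by norm_num)
  obtain ⟨H, hH⟩ := CfsgLib.Gaschutz.exists_complement hNU hcop A
    (fun g hg => mem_comap.2 (by
      rcases hmemA.1 hg with rfl | rfl | rfl | rfl
      · rw [map_one]; exact one_mem _
      · rw [hua, Five.mem_V]; simp
      · rw [hub, Five.mem_V]; simp
      · rw [huc, Five.mem_V]; simp))
    (by
      rw [eq_bot_iff]
      rintro g ⟨hg, hgN⟩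
      have := hmem.1 hgN
      rcases hmemA.1 hg with rfl | rfl | rfl | rfl
      · exact one_mem _
      · rw [hua] at this; exact absurd this (by decide +kernel)
      · rw [hub] at this; exact absurd this (by decide +kernel)
      · rw [huc] at this; exact absurd this (by decide +kernel))
    (by
      refine le_antisymm (sup_le hNU fun g hg => mem_comap.2 ?_) fun g hg => ?_
      · rcases hmemA.1 hg with rfl | rfl | rfl | rfl
        · rw [map_one]; exact one_mem _
        · rw [hua, Five.mem_V]; simp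
        · rw [hub, Five.mem_V]; simp
        · rw [huc, Five.mem_V]; simp
      · obtain ⟨k, hk, he⟩ : ∃ k ∈ A, ψ k = ψ g := by
          rcases Five.mem_V.1 (mem_comap.1 hg) with e | e | e | e
          · exact ⟨1, one_mem A, by rw [map_one, e]⟩
          · exact ⟨u, hmemA.2 (Or.inr (Or.inl rfl)), hua.trans e.symm⟩
          · exact ⟨u', hmemA.2 (Or.inr (Or.inr (Or.inl rfl))), hub.trans e.symm⟩
          · exact ⟨u'', hmemA.2 (Or.inr (Or.inr (Or.inr rfl))), huc.trans e.symm⟩
        rw [show g = g * k⁻¹ * k by group]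
        exact mul_mem (mem_sup_left (hmem.2 (by rw [map_mul, map_inv, he, mul_inv_cancel]))) (mem_sup_right hk))
  have hbij : Function.Bijective (ψ.comp H.subtype) := by
    refine ⟨fun a b e => ?_, fun π => ?_⟩
    · have : ((a * b⁻¹ : H) : G) ∈ N ⊓ H := ⟨hmem.2 (by
        show (ψ.comp H.subtype) (a * b⁻¹) = 1
        rw [map_mul, map_inv, e, mul_inv_cancel]), (a * b⁻¹ : H).2⟩
      rw [hH.disjoint.eq_bot, mem_bot] at this
      exact mul_inv_eq_one.1 (Subtype.ext this)
    · obtain ⟨g, rfl⟩ := hψ π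
      obtain ⟨⟨⟨n, hn⟩, k⟩, e⟩ := hH.2 g
      refine ⟨k, ?_⟩
      rw [← e]
      simp [hmem.1 hn]
  refine ⟨H.subtype.comp (MulEquiv.ofBijective _ hbij).symm.toMonoidHom, fun π => ?_⟩
  exact (MulEquiv.ofBijective _ hbij).apply_symm_apply π

end CfsgLib.SpecFive
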