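import Mathlib.GroupTheory.SpecificGroups.Alternating
import Mathlib.GroupTheory.OrderOfElement
import Mathlib.GroupTheory.Index

/-!
Chosen generators of the alternating group of degree five.
-/

set_option autoImplicit false

namespace CfsgLib.SpecFive.Five

open Equiv

/-- An involution. -/
def a : alternatingGroup (Fin 5) := ⟨swap 0 1 * swap 2 3, Equiv.Perm.mem_alternatingGroup.2 (by decide)⟩

/-- An element of order three normalising a four group. -/
def x : alternatingGroup (Fin 5) := ⟨swap 0 1 * swap 1 2, Equiv.Perm.mem_alternatingGroup.2 (by decide)⟩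

/-- An involution inverting `x`. -/
def t : alternatingGroup (Fin 5) := ⟨swap 0 1 * swap 3 4, Equiv.Perm.mem_alternatingGroup.2 (by decide)⟩

/-- A second involution. -/
def b : alternatingGroup (Fin 5) := x * a * x⁻¹

/-- A third involution. -/
def c : alternatingGroup (Fin 5) := x * b * x⁻¹

theorem a_sq : a * a = 1 := by decide +kernel
theorem t_sq : t * t = 1 := by decide +kernel
theorem x_cube : x * x * x = 1 := by decide +kernel
theorem x_c : x * c * x⁻¹ = a := by decide +kernel
theorem t_x : t * x * t⁻¹ = x⁻¹ := by decide +kernel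
theorem abc : a * b * c = 1 := by decide +kernel
theorem comm_ab : a * b = b * a := by decide +kernel
theorem mul_ab : a * b = c := by decide +kernel
theorem a_ne : a ≠ 1 := by decide +kernel
theorem x_ne : x ≠ 1 := by decide +kernel
theorem t_ne : t ≠ 1 := by decide +kernel

theorem orderOf_a : orderOf a = 2 :=
  orderOf_eq_prime (hp := ⟨Nat.prime_two⟩) (by decide) a_ne

theorem orderOf_x : orderOf x = 3 :=
  orderOf_eq_prime (hp := ⟨Nat.prime_three⟩) (by decide) x_ne

theorem orderOf_five : orderOf (x * t * a) = 5 ∨ orderOf (x * a * t) = 5 := by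
  first
    | exact Or.inl (orderOf_eq_prime (hp := ⟨Nat.prime_five⟩) (by decide +kernel) (by decide +kernel))
    | exact Or.inr (orderOf_eq_prime (hp := ⟨Nat.prime_five⟩) (by decide +kernel) (by decide +kernel))

theorem exists_conj : ∃ h : alternatingGroup (Fin 5), h * t * h⁻¹ = a :=
  ⟨⟨swap 2 4 * swap 4 3, Equiv.Perm.mem_alternatingGroup.2 (by decide)⟩, by decide⟩

/-- A four group. -/
def V : Subgroup (alternatingGroup (Fin 5)) where
  carrier := {g | g = 1 ∨ g = a ∨ g = b ∨ g = c}
  one_mem' := Or.inl rfl
  mul_mem' := by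
    rintro g h (rfl | rfl | rfl | rfl) (rfl | rfl | rfl | rfl) <;> simp only [Set.mem_ofPred_eq] <;> decide
  inv_mem' := by
    rintro g (rfl | rfl | rfl | rfl) <;> simp only [Set.mem_ofPred_eq] <;> decide

theorem mem_V {g : alternatingGroup (Fin 5)} : g ∈ V ↔ g = 1 ∨ g = a ∨ g = b ∨ g = c := Iff.rfl

theorem card_alt : Nat.card (alternatingGroup (Fin 5)) = 60 := by
  rw [nat_card_alternatingGroup, Nat.card_eq_fintype_card, Fintype.card_fin]
  decide

theorem card_V : Nat.card V = 4 := by
  classical
  rw [show Nat.card V = Nat.card {g : alternatingGroup (Fin 5) // g ∈ ({1, a, b, c} : Finset _)} from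
    Nat.card_congr (Equiv.subtypeEquivRight fun g => by simp [mem_V])]
  rw [Nat.card_eq_fintype_card, Fintype.card_coe]
  decide

theorem index_V : V.index = 15 := by
  have := Subgroup.card_mul_index V
  rw [card_V, card_alt] at this
  omega

/-- The three elements generate. -/
theorem closure_eq_top : Subgroup.closure ({a, x, t} : Set (alternatingGroup (Fin 5))) = ⊤ := by
  set H := Subgroup.closure ({a, x, t} : Set (alternatingGroup (Fin 5))) with hH
  have ha : a ∈ H := Subgroup.subset_closure (by simp)
  have hx : x ∈ H := Subgroup.subset_closure (by simp)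
  have ht : t ∈ H := Subgroup.subset_closure (by simp)
  have hb : b ∈ H := mul_mem (mul_mem hx ha) (inv_mem hx)
  have hc : c ∈ H := mul_mem (mul_mem hx hb) (inv_mem hx)
  have h4 : 4 ∣ Nat.card H := card_V ▸ Subgroup.card_dvd_of_le (fun g hg => by
    rcases mem_V.1 hg with rfl | rfl | rfl | rfl
    · exact one_mem H
    · exact ha
    · exact hb
    · exact hc)
  have h3 : 3 ∣ Nat.card H := orderOf_x ▸ Subgroup.orderOf_dvd_natCard H hx
  have h5 : 5 ∣ Nat.card H := by
    rcases orderOf_five with e | e
    · have := Subgroup.orderOf_dvd_natCard H (mul_mem (mul_mem hx ht) ha)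
      rwa [e] at this
    · have := Subgroup.orderOf_dvd_natCard H (mul_mem (mul_mem hx ha) ht)
      rwa [e] at this
  refine Subgroup.eq_top_of_le_card _ ?_
  rw [card_alt]
  exact Nat.le_of_dvd Nat.card_pos (by omega)

end CfsgLib.SpecFive.Five
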