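import Cfsg.Agent.SpecFive.Basic
import Mathlib.GroupTheory.SpecificGroups.Cyclic
import Mathlib.GroupTheory.Nilpotent

/-!
Groups with element orders at most five: subgroups acting on `p`-groups, odd Sylow subgroups.
-/

set_option autoImplicit false
set_option linter.unusedSectionVars false

namespace CfsgLib.SpecFive

open Subgroup

variable {G : Type*} [Group G] [Finite G]

theorem Small.prime_le (h : Small G) {p : ℕ} (hp : p.Prime) (h5 : p ≤ 5) : p = 2 ∨ p = 3 ∨ p = 5 := by
  have := hp.two_le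
  have : p ≠ 4 := fun e => by rw [e] at hp; norm_num at hp
  omega

theorem Small.orderOf_of_odd_prime (h : Small G) {q : ℕ} (hq : q.Prime) (hq2 : q ≠ 2) {y : G} (hy : y ≠ 1)
    (hyq : ∃ k, y ^ q ^ k = 1) : orderOf y = q := by
  obtain ⟨k, hk⟩ := hyq
  obtain ⟨i, -, hi⟩ := (Nat.dvd_prime_pow hq).1 (orderOf_dvd_of_pow_eq_one hk)
  have h5 := h y
  rw [hi] at h5
  have : 3 ≤ q := by have := hq.two_le; omega
  rcases Nat.lt_trichotomy i 1 with hlt | rfl | hgt
  · exact absurd (orderOf_eq_one_iff.1 (by rw [hi, show i = 0 by omega, pow_zero])) hy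
  · rw [hi, pow_one]
  · have : q ^ 2 ≤ q ^ i := Nat.pow_le_pow_right (by omega) (by omega)
    nlinarith

theorem exists_pow_prime_of_mem {p : ℕ} {P : Subgroup G} (hP : IsPGroup p P) {y : G} (hy : y ∈ P) :
    ∃ k, y ^ p ^ k = 1 := by
  obtain ⟨k, hk⟩ := hP ⟨y, hy⟩
  exact ⟨k, congrArg Subtype.val hk⟩

/-- The centre of a normal subgroup of prime power order. -/
theorem exists_abelian_normal {p : ℕ} [Fact p.Prime] (U : Subgroup G) [U.Normal] (hU : IsPGroup p U)
    (hU1 : U ≠ ⊥) : ∃ V : Subgroup G, V.Normal ∧ V ≤ U ∧ V ≠ ⊥ ∧ ∀ a ∈ V, ∀ b ∈ V, Commute a b := by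
  haveI : Nontrivial U := (nontrivial_iff_ne_bot U).2 hU1
  haveI := hU.center_nontrivial
  refine ⟨(center U).map U.subtype, inferInstance, map_subtype_le _, ?_, ?_⟩
  · rw [Ne, map_eq_bot_iff_of_injective _ U.subtype_injective]
    exact (nontrivial_iff_ne_bot _).1 inferInstance
  · rintro _ ⟨a, ha, rfl⟩ _ ⟨b, -, rfl⟩
    exact congrArg Subtype.val (mem_center_iff.1 ha b).symm

/-- A `q`-subgroup (`q` odd) acting on a `p`-group has order at most `q`. -/
theorem Small.card_dvd_of_acts (h : Small G) {p q : ℕ} [hp : Fact p.Prime] (hq : q.Prime) (hq2 : q ≠ 2)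
    (hqp : q ≠ p) (U : Subgroup G) [U.Normal] (hU : IsPGroup p U) (hU1 : U ≠ ⊥) (Q : Subgroup G)
    (hQ : IsPGroup q Q) : Nat.card Q ∣ q := by
  haveI := Fact.mk hq
  rcases eq_or_ne Q ⊥ with rfl | hQ1
  · simp
  haveI : Nontrivial Q := (nontrivial_iff_ne_bot Q).2 hQ1
  haveI := hQ.center_nontrivial
  obtain ⟨⟨z, hz⟩, hz1⟩ := exists_ne (1 : center Q)
  have hz1' : (z : G) ≠ 1 := fun e => hz1 (Subtype.ext (Subtype.ext e))
  have hord : ∀ y ∈ Q, y ≠ 1 → orderOf y = q := fun y hy hy1 =>
    h.orderOf_of_odd_prime hq hq2 hy1 (exists_pow_prime_of_mem hQ hy)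
  have hzq := hord z z.2 hz1'
  suffices hle : Q ≤ zpowers (z : G) by
    have := card_dvd_of_le hle
    rwa [Nat.card_zpowers, hzq] at this
  intro y hy
  by_contra hyz
  have hy1 : y ≠ 1 := fun e => hyz (e ▸ one_mem _)
  obtain ⟨V, hVn, hVU, hV1, hVc⟩ := exists_abelian_normal U hU hU1
  have hcy : Commute y (z : G) := congrArg Subtype.val (mem_center_iff.1 hz ⟨y, hy⟩)
  have hcop : ∀ w : G, orderOf w = q → Fpf w V := fun w hw u hu hc =>
    h.fpf hp.out hU (fun e => by rw [e, orderOf_one] at hw; exact hq.ne_one hw.symm)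
      (by rw [hw]; exact (Nat.coprime_primes hq hp.out).2 hqp) u (hVU hu) hc
  obtain ⟨n, hn⟩ := (hU.to_le hVU).exists_card_eq
  refine no_fpf_pair hVc hq (by rw [hn]; exact Nat.Coprime.pow_right n ((Nat.coprime_primes hq hp.out).2 hqp))
    hV1 hcy (fun v hv => hVn.conj_mem v hv y) (fun v hv => hVn.conj_mem v hv z)
    (by rw [← hord y hy hy1]; exact pow_orderOf_eq_one y)
    (by rw [← hzq]; exact pow_orderOf_eq_one _) (hcop _ hzq) (fun j _ => hcop _ (hord _ ?_ ?_))
  · exact mul_mem hy (pow_mem z.2 j)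
  · intro e
    exact hyz (by rw [eq_inv_of_mul_eq_one_left e]; exact inv_mem (npow_mem_zpowers _ j))

/-- An involution inverting a normal subgroup commutes with everything modulo its centralizer. -/
theorem Small.not_even_above (h : Small G) {p : ℕ} [hp : Fact p.Prime] (hp2 : p ≠ 2) (U : Subgroup G)
    [U.Normal] (hU : IsPGroup p U) (hU1 : U ≠ ⊥) {t y : G} (ht : orderOf t = 2) (hy : ∃ k, y ^ p ^ k = 1) :
    y ∈ centralizer (U : Set G) := by
  have ht' : t * t = 1 := by rw [← pow_two, ← ht]; exact pow_orderOf_eq_one t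
  have hf : Fpf t U := h.fpf hp.out hU (fun e => by rw [e, orderOf_one] at ht; omega)
    (by rw [ht]; exact (Nat.coprime_primes Nat.prime_two hp.out).2 (Ne.symm hp2))
  let C := centralizer (U : Set G)
  have hinv : ∀ u ∈ U, t * u * t⁻¹ = u⁻¹ := fun u hu => inverts_of_fpf ht' hf hu
  have hmem : t * y * t⁻¹ * y⁻¹ ∈ C := by
    rw [mem_centralizer_iff]
    intro u hu
    have hw : (y⁻¹ * u * y) ∈ U := by simpa using ‹U.Normal›.conj_mem u hu y⁻¹
    have e1 := hinv _ hw
    have e2 := hinv _ hu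
    have e4 : t⁻¹ * u * t = u⁻¹ := by
      rw [inv_eq_of_mul_eq_one_right ht'] at e2 ⊢
      exact e2
    have e5 : t * (y⁻¹ * u⁻¹ * y) * t⁻¹ = y⁻¹ * u * y := by
      rw [show y⁻¹ * u⁻¹ * y = (y⁻¹ * u * y)⁻¹ by group, ← conj_inv, e1, inv_inv]
    have e6 : (t * y * t⁻¹ * y⁻¹) * u * (t * y * t⁻¹ * y⁻¹)⁻¹ = u := by
      calc (t * y * t⁻¹ * y⁻¹) * u * (t * y * t⁻¹ * y⁻¹)⁻¹
          = t * (y * (t⁻¹ * (y⁻¹ * u * y) * t) * y⁻¹) * t⁻¹ := by group
        _ = t * (y * (y⁻¹ * u * y)⁻¹ * y⁻¹) * t⁻¹ := by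
          congr 4
          rw [inv_eq_of_mul_eq_one_right ht'] at e1 ⊢
          exact e1
        _ = t * u⁻¹ * t⁻¹ := by group
        _ = u := by rw [← conj_inv, e2, inv_inv]
    exact (mul_inv_eq_iff_eq_mul.1 e6).symm
  have hCp : IsPGroup p C := by
    obtain ⟨x, hxU, hx⟩ : ∃ x ∈ U, orderOf x = p := by
      obtain ⟨n, hn⟩ := hU.exists_card_eq
      have hn0 : n ≠ 0 := fun e => hU1 (card_eq_one.1 (by rw [hn, e, pow_zero]))
      obtain ⟨x, hx⟩ := exists_prime_orderOf_dvd_card' (G := U) p (hn ▸ dvd_pow_self p hn0)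
      exact ⟨x, x.2, by rwa [Subgroup.orderOf_coe]⟩
    exact h.isPGroup_of_centralizes hp.out hx fun z hz => (mem_centralizer_iff.1 hz x hxU)
  by_contra hyC
  let π := QuotientGroup.mk' C
  have hc : Commute (π t) (π y) := by
    have e : π (t * y * t⁻¹ * y⁻¹) = 1 := (QuotientGroup.eq_one_iff _).2 hmem
    simp only [map_mul, map_inv, mul_inv_eq_one] at e
    exact mul_inv_eq_iff_eq_mul.1 e
  obtain ⟨k, hk⟩ := hy
  have hco : (orderOf (π t)).Coprime (orderOf (π y)) := by
    refine Nat.Coprime.coprime_dvd_left (orderOf_map_dvd π t)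
      (Nat.Coprime.coprime_dvd_right ((orderOf_map_dvd π y).trans (orderOf_dvd_of_pow_eq_one hk)) ?_)
    rw [ht]
    exact Nat.Coprime.pow_right k ((Nat.coprime_primes Nat.prime_two hp.out).2 (Ne.symm hp2))
  rcases (h.quotient C).no_commute hc hco with e | e
  · obtain ⟨j, hj⟩ := exists_pow_prime_of_mem hCp ((QuotientGroup.eq_one_iff t).1 e)
    have := orderOf_dvd_of_pow_eq_one hj
    rw [ht] at this
    exact hp2 ((Nat.prime_dvd_prime_iff_eq Nat.prime_two hp.out).1 (Nat.prime_two.dvd_of_dvd_pow this)).symm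
  · exact hyC ((QuotientGroup.eq_one_iff y).1 e)

/-- For odd `p`, a nontrivial normal `p`-subgroup forces a unique Sylow `p`-subgroup. -/
theorem Small.sylow_unique (h : Small G) {p : ℕ} [hp : Fact p.Prime] (hp35 : p = 3 ∨ p = 5)
    (U : Subgroup G) [U.Normal] (hU : IsPGroup p U) (hU1 : U ≠ ⊥) (P Q : Sylow p G) : P = Q := by
  classical
  have hp2 : p ≠ 2 := by omega
  by_cases hev : 2 ∣ Nat.card G
  · haveI : Fact (Nat.Prime 2) := ⟨Nat.prime_two⟩
    obtain ⟨t, ht⟩ := exists_prime_orderOf_dvd_card' 2 hev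
    let C := centralizer (U : Set G)
    have hsub : ∀ R : Sylow p G, (R : Subgroup G) ≤ C := fun R y hy =>
      h.not_even_above hp2 U hU hU1 ht (exists_pow_prime_of_mem R.2 hy)
    have hC : IsPGroup p C := by
      obtain ⟨n, hn⟩ := hU.exists_card_eq
      have hn0 : n ≠ 0 := fun e => hU1 (card_eq_one.1 (by rw [hn, e, pow_zero]))
      obtain ⟨x, hx⟩ := exists_prime_orderOf_dvd_card' (G := U) p (hn ▸ dvd_pow_self p hn0)
      exact h.isPGroup_of_centralizes hp.out (x := (x : G)) (by rwa [Subgroup.orderOf_coe]) fun z hz =>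
        mem_centralizer_iff.1 hz x x.2
    exact Sylow.ext ((P.3 hC (hsub P)).symm.trans (Q.3 hC (hsub Q)))
  · haveI : Subsingleton (Sylow p G) := by
      refine (Nat.card_eq_one_iff_unique.1 ?_).1
      have hmod := card_sylow_modEq_one p G
      have hdvd : Nat.card (Sylow p G) ∣ Nat.card G :=
        ((P : Sylow p G).card_dvd_index).trans (index_dvd_card _)
      set q := 8 - p with hq
      have hq35 : q = 3 ∨ q = 5 := by omega
      have hqp : q ≠ p := by omega
      haveI : Fact q.Prime := ⟨by rcases hq35 with e | e <;> rw [e] <;> norm_num⟩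
      obtain ⟨Q0⟩ : Nonempty (Sylow q G) := inferInstance
      have hQd := h.card_dvd_of_acts (Fact.out : q.Prime) (by omega) hqp U hU hU1 Q0 Q0.2
      set n := Nat.card (Sylow p G) with hn
      have hn0 : n ≠ 0 := Nat.card_pos.ne'
      have hnq : n ∣ q := by
        have hfac : ∀ r, r.Prime → r ∣ n → r = q := by
          intro r hr hrn
          by_contra hne
          rcases h.prime_cases hr (hrn.trans hdvd) with e | e | e
          · exact hev (e ▸ hrn.trans hdvd)
          all_goals
            have hrp : r = p := by omega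
            rw [hrp] at hrn
            have := Nat.ModEq.dvd hmod.symm
            have h1 : (p : ℤ) ∣ (n : ℤ) := Int.natCast_dvd_natCast.2 hrn
            have h2 : (p : ℤ) ∣ 1 := by
              have h3 := Int.dvd_sub h1 this
              simpa using h3
            have := Int.le_of_dvd one_pos h2
            omega
        obtain ⟨k, hk⟩ : ∃ k, n = q ^ k :=
          ⟨_, Nat.eq_prime_pow_of_unique_prime_dvd hn0 fun {r} hr hrn => hfac r hr hrn⟩
        rw [hk]
        refine dvd_trans ?_ hQd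
        rw [Q0.card_eq_multiplicity]
        apply Nat.pow_dvd_pow
        refine ((Fact.out : q.Prime).pow_dvd_iff_le_factorization Nat.card_pos.ne').1 (hk ▸ hdvd)
      rcases (Nat.dvd_prime (Fact.out : q.Prime)).1 hnq with e | e
      · exact e
      · rw [e] at hmod
        exfalso
        rcases hp35 with rfl | rfl <;> simp [q, Nat.ModEq] at hmod
    exact Subsingleton.elim P Q

/-- Odd Sylow subgroups meet trivially. -/
theorem Small.sylow_ti (h : Small G) {p : ℕ} [hp : Fact p.Prime] (hp35 : p = 3 ∨ p = 5)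
    (P Q : Sylow p G) (hPQ : (P : Subgroup G) ⊓ Q ≠ ⊥) : P = Q := by
  induction hn : Nat.card G - Nat.card ((P : Subgroup G) ⊓ Q : Subgroup G) using Nat.strong_induction_on
    generalizing P Q with
  | _ n ih =>
  set D : Subgroup G := (P : Subgroup G) ⊓ Q with hD
  by_contra hne
  let N := normalizer (D : Set G)
  have key : ∀ R : Sylow p G, D ≤ R → D ≠ (R : Subgroup G) → D < (R : Subgroup G) ⊓ N := by
    intro R hR hne'
    haveI : Group.IsNilpotent (R : Subgroup G) := IsPGroup.isNilpotent (p := p) R.2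
    have hlt : D.subgroupOf (R : Subgroup G) < ⊤ :=
      lt_top_iff_ne_top.2 fun e => hne' (le_antisymm hR (subgroupOf_eq_top.1 e))
    have := Group.normalizerCondition_of_isNilpotent _ hlt
    obtain ⟨x, hx, hx'⟩ := SetLike.exists_of_lt this
    refine lt_of_le_of_ne (le_inf hR le_normalizer) fun e => hx' ?_
    rw [mem_subgroupOf, e]
    refine ⟨x.2, ?_⟩
    rw [mem_normalizer_iff] at hx
    show (x : G) ∈ normalizer (D : Set G)
    rw [mem_normalizer_iff]
    intro g
    constructor
    · intro hg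
      simpa [mem_subgroupOf] using (hx ⟨g, hR hg⟩).1 (mem_subgroupOf.2 hg)
    · intro hg
      have hgR : g ∈ (R : Subgroup G) := by
        have := mul_mem (mul_mem (inv_mem x.2) (hR hg)) x.2
        simpa [mul_assoc] using this
      simpa [mem_subgroupOf] using (hx ⟨g, hgR⟩).2 (mem_subgroupOf.2 (by simpa using hg))
  have hDP : D ≠ (P : Subgroup G) := fun e => hne (Sylow.ext ((P.3 Q.2 (inf_eq_left.1 e)).symm))
  have hDQ : D ≠ (Q : Subgroup G) := fun e => hne (Sylow.ext (Q.3 P.2 (inf_eq_right.1 e)))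
  have k1 := key P inf_le_left hDP
  have k2 := key Q inf_le_right hDQ
  haveI : (D.subgroupOf N).Normal := normal_in_normalizer
  have huniq := (h.subgroup N).sylow_unique hp35 (D.subgroupOf N)
    ((P.2.to_le inf_le_left).of_equiv (subgroupOfEquivOfLe le_normalizer).symm)
    (fun e => hPQ (by
      rw [subgroupOf_eq_bot] at e
      exact le_bot_iff.1 (e.eq_bot ▸ le_inf le_rfl le_normalizer)))
  obtain ⟨S⟩ : Nonempty (Sylow p N) := inferInstance
  have hle : ∀ R : Sylow p G, (R : Subgroup G) ⊓ N ≤ (S : Subgroup N).map N.subtype := by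
    intro R
    have hp' : IsPGroup p (((R : Subgroup G) ⊓ N).subgroupOf N) :=
      (R.2.to_le inf_le_left).of_equiv (subgroupOfEquivOfLe inf_le_right).symm
    obtain ⟨S', hS'⟩ := hp'.exists_le_sylow
    rw [huniq S' S] at hS'
    rw [← map_subgroupOf_eq_of_le (inf_le_right : (R : Subgroup G) ⊓ N ≤ N)]
    exact map_mono hS'
  obtain ⟨R, hR⟩ := (S.2.map N.subtype).exists_le_sylow
  have step : ∀ T : Sylow p G, D < (T : Subgroup G) ⊓ N → T = R := by
    intro T hT
    have hTR : D < (T : Subgroup G) ⊓ R := lt_of_lt_of_le hT (le_inf inf_le_left ((hle T).trans hR))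
    refine ih _ ?_ T R (fun e => ?_) rfl
    · rw [← hn]
      have h1 : Nat.card ((T : Subgroup G) ⊓ R : Subgroup G) ≤ Nat.card G := card_le_card_group _
      have h2 : Nat.card D < Nat.card ((T : Subgroup G) ⊓ R : Subgroup G) :=
        lt_of_not_ge fun h => hTR.ne (eq_of_le_of_card_ge hTR.le h)
      omega
    · rw [e] at hTR
      exact not_lt_bot hTR
  exact hne ((step P k1).trans (step Q k2).symm)

/-- A two-group with only one involution and exponent four has order at most eight. -/
theorem card_le_eight_of_unique {Q : Type*} [Group Q] [Finite Q] (h4 : ∀ x : Q, x ^ 4 = 1) (z : Q)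
    (hz : ∀ x : Q, x * x = 1 → x = 1 ∨ x = z) : Nat.card Q ≤ 8 := by
  classical
  have hsq : ∀ x : Q, x * x = 1 ∨ x * x = z := fun x => hz _ (by
    have := h4 x
    rw [pow_succ, pow_succ, pow_succ, pow_one] at this
    simpa [mul_assoc] using this)
  have hzz : z * z = 1 := by
    by_contra hzz
    rcases hsq z with e | e
    · exact hzz e
    · have : z = 1 := mul_left_cancel (a := z) (by rw [mul_one]; exact e)
      exact hzz (by rw [this, one_mul])
  by_cases hall : ∀ x : Q, x * x = 1
  · have : Set.univ ⊆ ({1, z} : Set Q) := fun x _ => hz x (hall x)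
    have := Set.ncard_le_ncard this
    rw [Set.ncard_univ] at this
    refine this.trans ((Set.ncard_insert_le _ _).trans ?_)
    simp
  push Not at hall
  obtain ⟨y, hy⟩ := hall
  have hy2 : y * y = z := (hsq y).resolve_left hy
  have hzc : ∀ g : Q, g * z * g⁻¹ = z := fun g => by
    rcases hz (g * z * g⁻¹) (by rw [show g * z * g⁻¹ * (g * z * g⁻¹) = g * (z * z) * g⁻¹ by group, hzz]; simp) with e | e
    · rw [conj_eq_one_iff] at e
      rw [e]; simp
    · exact e
  have hcent : ∀ g : Q, Commute g z := fun g => mul_inv_eq_iff_eq_mul.1 (hzc g)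
  let C : Subgroup Q := centralizer ({y} : Set Q)
  have hCle : (C : Set Q) ⊆ ({1, z, y, y * z} : Set Q) := by
    intro w hw
    have hwc : Commute y w := (mem_centralizer_singleton_iff.1 hw).symm
    rcases hsq w with e | e
    · rcases hz w e with rfl | rfl <;> simp
    · have : (w * y) * (w * y) = 1 := by
        calc w * y * (w * y) = w * (y * w) * y := by group
          _ = w * (w * y) * y := by rw [hwc.eq]
          _ = (w * w) * (y * y) := by group
          _ = 1 := by rw [e, hy2, hzz]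
      rcases hz _ this with e' | e'
      · have : w = y⁻¹ := eq_inv_of_mul_eq_one_left e'
        have hyi : y⁻¹ = y * z := inv_eq_of_mul_eq_one_right (by rw [← mul_assoc, hy2, hzz])
        simp [this, hyi]
      · have : w = y := mul_right_cancel (e'.trans hy2.symm)
        simp [this]
  have hC : Nat.card C ≤ 4 := by
    show Nat.card (C : Set Q) ≤ 4
    rw [Nat.card_coe_set_eq]
    refine (Set.ncard_le_ncard hCle).trans ?_
    refine (Set.ncard_insert_le _ _).trans ?_
    refine Nat.succ_le_succ ((Set.ncard_insert_le _ _).trans ?_)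
    refine Nat.succ_le_succ ((Set.ncard_insert_le _ _).trans ?_)
    simp
  -- conjugates of `y` lie in `{y, y z}`
  have hconj : ∀ g : Q, g * y * g⁻¹ = y ∨ g * y * g⁻¹ = y * z := by
    intro g
    have hyi : y⁻¹ = y * z := inv_eq_of_mul_eq_one_right (by rw [← mul_assoc, hy2, hzz])
    have hzi : z⁻¹ = z := inv_eq_of_mul_eq_one_right hzz
    have hdc : Commute (g * g) y := by
      rcases hsq g with e | e <;> rw [e]
      exacts [Commute.one_left y, (hcent y).symm]
    have e0 : g * y * g⁻¹ = (g * y * (g * y)) * (g * g)⁻¹ * y⁻¹ := by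
      symm
      calc (g * y * (g * y)) * (g * g)⁻¹ * y⁻¹ = g * y * g * (y * (g * g)⁻¹) * y⁻¹ := by group
        _ = g * y * g * ((g * g)⁻¹ * y) * y⁻¹ := by rw [(hdc.symm.inv_right).eq]
        _ = _ := by group
    rcases hsq g with e | e <;> rcases hsq (g * y) with e' | e' <;> rw [e0, e, e', hyi]
    · exact Or.inr (by group)
    · exact Or.inl (by rw [inv_one, mul_one, ← mul_assoc, ← (hcent y).eq, mul_assoc, hzz, mul_one])
    · exact Or.inl (by rw [hzi, one_mul, ← mul_assoc, ← (hcent y).eq, mul_assoc, hzz, mul_one])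
    · exact Or.inr (by rw [hzi, hzz, one_mul])
  have hind : C.index ≤ 2 := by
    have hinj : Function.Injective (fun q : Q ⧸ C => q.out * y * q.out⁻¹) := by
      intro a b hab
      rw [← a.out_eq, ← b.out_eq, QuotientGroup.eq, mem_centralizer_singleton_iff]
      have hab' : a.out * y * a.out⁻¹ = b.out * y * b.out⁻¹ := hab
      calc a.out⁻¹ * b.out * y = a.out⁻¹ * (b.out * y * b.out⁻¹) * b.out := by group
        _ = y * (a.out⁻¹ * b.out) := by rw [← hab']; group
    have h1 : Nat.card (Q ⧸ C) ≤ Set.ncard ({y, y * z} : Set Q) := by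
      rw [← Set.ncard_univ]
      exact Set.ncard_le_ncard_of_injOn (fun q : Q ⧸ C => q.out * y * q.out⁻¹)
        (fun q _ => by rcases hconj q.out with e | e <;> simp [e]) hinj.injOn
    rw [index_eq_card]
    refine h1.trans ((Set.ncard_insert_le _ _).trans ?_)
    simp
  rw [← card_mul_index C]
  calc Nat.card C * C.index ≤ 4 * 2 := Nat.mul_le_mul hC hind
    _ = 8 := rfl

end CfsgLib.SpecFive
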