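import Cfsg.Agent.SpecFive.Local

/-!
Groups with element orders at most five: the quotient by the largest normal two-subgroup, and
offenders.
-/

set_option autoImplicit false
set_option linter.unusedSectionVars false
set_option linter.unusedFintypeInType false

namespace CfsgLib.SpecFive

open Subgroup

variable {G : Type*} [Group G] [Finite G]

theorem fpf_modEq (U : Subgroup G) [U.Normal] {p : ℕ} [hp : Fact p.Prime] {x : G} (hx : orderOf x = p)
    (hf : Fpf x U) : Nat.card U ≡ 1 [MOD p] := by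
  haveI : Finite U := inferInstance
  let Z := zpowers x
  letI : MulAction Z U := MulAction.compHom U ((MulAut.conjNormal (H := U)).comp Z.subtype)
  have hsmul : ∀ (z : Z) (u : U), ((z • u : U) : G) = z * u * (z : G)⁻¹ := fun z u =>
    MulAut.conjNormal_apply _ _
  have hZ : IsPGroup p Z := IsPGroup.of_card (n := 1) (by rw [Nat.card_zpowers, hx, pow_one])
  have h := hZ.card_modEq_card_fixedPoints U
  have hfix : MulAction.fixedPoints Z U = {1} := by
    ext u
    constructor
    · intro hu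
      have e := congrArg Subtype.val (hu ⟨x, mem_zpowers x⟩)
      rw [hsmul] at e
      exact Subtype.ext (hf u u.2 (mul_inv_eq_iff_eq_mul.1 e))
    · rintro rfl z
      exact Subtype.ext (by rw [hsmul]; simp)
  rwa [hfix, Nat.card_coe_set_eq, Set.ncard_singleton] at h

/-- A radical situation: `U` is the largest normal two-subgroup of `G` and is not trivial. -/
structure Radical (G : Type*) [Group G] [Finite G] (U : Subgroup G) : Prop where
  small : Small G
  normal : U.Normal
  two : IsPGroup 2 U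
  ne_bot : U ≠ ⊥
  max : ∀ N : Subgroup G, N.Normal → IsPGroup 2 N → N ≤ U
  simples : ∀ [U.Normal], ∀ M : Subgroup (G ⧸ U), IsSimpleGroup M → ¬ IsMulCommutative M →
    Nat.card M = 60 ∨ Nat.card M = 360

variable {U : Subgroup G} [U.Normal] (hR : Radical G U)

include hR in
theorem Radical.quot_shape :
    Nat.card (G ⧸ U) = 1 ∨ Nat.card (G ⧸ U) ∣ 6 ∨
      (Nat.card (G ⧸ U) ∣ 20 ∧ ∀ B : Subgroup (G ⧸ U), IsPGroup 2 B → IsCyclic B) ∨
      (Nat.card (G ⧸ U) = 60 ∧ IsSimpleGroup (G ⧸ U)) := by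
  refine (hR.small.quotient U).shape ?_ ?_ hR.simples
  · intro N hN hN2
    have hk : IsPGroup 2 (QuotientGroup.mk' U).ker := by rw [QuotientGroup.ker_mk']; exact hR.two
    have h := hR.max (N.comap (QuotientGroup.mk' U)) inferInstance (hN2.comap_of_ker_isPGroup _ hk)
    rw [eq_bot_iff]
    intro x hx
    obtain ⟨g, rfl⟩ := QuotientGroup.mk'_surjective U x
    exact (QuotientGroup.eq_one_iff g).2 (h hx)
  · intro p hp P hP
    haveI := Fact.mk (mem_three_or_five hp)
    obtain ⟨Q⟩ : Nonempty (Sylow p G) := inferInstance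
    obtain ⟨S, hS⟩ := hP.exists_le_sylow
    obtain ⟨g, hg⟩ := MulAction.exists_smul_eq (G ⧸ U) (Q.mapSurjective (QuotientGroup.mk'_surjective U)) S
    refine (card_dvd_of_le hS).trans ?_
    rw [← hg, Sylow.coe_subgroup_smul]
    refine (dvd_of_eq (Nat.card_congr (Subgroup.equivSMul _ _).toEquiv.symm)).trans ?_
    refine (card_map_dvd _ _).trans ?_
    exact hR.small.card_dvd_of_acts (mem_three_or_five hp) (by omega) (by omega) U hR.two hR.ne_bot Q Q.2

include hR in
theorem Radical.two_le_four (B : Subgroup (G ⧸ U)) (hB : IsPGroup 2 B) : Nat.card B ≤ 4 ∧ Nat.card B ∣ Nat.card (G ⧸ U) ∧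
    ∀ a ∈ B, ∀ b ∈ B, Commute a b := by
  have hd : Nat.card B ∣ Nat.card (G ⧸ U) := card_subgroup_dvd_card B
  obtain ⟨n, hn⟩ := hB.exists_card_eq
  have h60 : Nat.card (G ⧸ U) ∣ 60 := by
    rcases hR.quot_shape with e | e | ⟨e, -⟩ | ⟨e, -⟩
    · rw [e]; exact one_dvd _
    · exact e.trans (by norm_num)
    · exact e.trans (by norm_num)
    · rw [e]
  have hn2 : n ≤ 2 := by
    by_contra hcon
    have : 2 ^ 3 ∣ 60 := (Nat.pow_dvd_pow 2 (show 3 ≤ n by omega)).trans (hn ▸ hd.trans h60)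
    norm_num at this
  refine ⟨by rw [hn]; exact (Nat.pow_le_pow_right (by norm_num) hn2).trans (by norm_num), hd, ?_⟩
  have hc : IsMulCommutative B := by
    rcases Nat.lt_or_ge n 2 with h | h
    · rcases Nat.lt_or_ge n 1 with h0 | h0
      · rw [show n = 0 by omega, pow_zero] at hn
        rw [card_eq_one.1 hn]
        exact ⟨⟨fun a b => Subsingleton.elim _ _⟩⟩
      · rw [show n = 1 by omega, pow_one] at hn
        haveI : IsCyclic B := isCyclic_of_prime_card hn
        exact ⟨⟨fun a b => by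
          obtain ⟨g, hg⟩ := IsCyclic.exists_generator (α := B)
          obtain ⟨i, rfl⟩ := hg a
          obtain ⟨j, rfl⟩ := hg b
          exact (Commute.zpow_zpow_self g i j).eq⟩⟩
    · rw [show n = 2 by omega] at hn
      exact ⟨⟨(IsPGroup.commutative_of_card_eq_prime_sq hn)⟩⟩
  intro a ha b hb
  exact congrArg Subtype.val (hc.is_comm.comm ⟨a, ha⟩ ⟨b, hb⟩)

include hR in
/-- Every involution of the quotient inverts a conjugation product of odd prime order. -/
theorem Radical.exists_odd_product {a : G ⧸ U} (ha : orderOf a = 2) :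
    ∃ y : G ⧸ U, orderOf (a * (y * a * y⁻¹)) = 3 ∨ orderOf (a * (y * a * y⁻¹)) = 5 := by
  by_contra hcon
  push Not at hcon
  have ha2 : a * a = 1 := CfsgLib.Invol.mul_self_eq_one ha
  have hcom : ∀ y : G ⧸ U, Commute a (y * a * y⁻¹) := by
    intro y
    set b := y * a * y⁻¹ with hb
    have hb2 : b * b = 1 := by rw [hb]; rw [show y * a * y⁻¹ * (y * a * y⁻¹) = y * (a * a) * y⁻¹ by group, ha2]; simp
    have hai : a * (a * b) * a⁻¹ = (a * b)⁻¹ := by
      rw [mul_inv_rev, inv_eq_of_mul_eq_one_right hb2, inv_eq_of_mul_eq_one_right ha2, ← mul_assoc, ha2, one_mul]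
    have hsq : (a * b) * (a * b) = 1 → Commute a b := fun e => by
      show a * b = b * a
      calc a * b = (a * b)⁻¹ := eq_inv_of_mul_eq_one_left e
        _ = b * a := by rw [mul_inv_rev, inv_eq_of_mul_eq_one_right hb2, inv_eq_of_mul_eq_one_right ha2]
    rcases (hR.small.quotient U).cases (a * b) with e | e | e | e | e
    · exact hsq (by rw [e, one_mul])
    · exact hsq (CfsgLib.Invol.mul_self_eq_one e)
    · exact absurd e (hcon y).1
    · -- a dihedral group of order eight would appear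
      exfalso
      have hB : IsPGroup 2 (zpowers (a * b) ⊔ zpowers a : Subgroup (G ⧸ U)) := by
        rw [sup_comm]
        refine IsPGroup.to_sup_of_normal_right' ?_ ?_ ?_
        · exact IsPGroup.of_card (n := 1) (by rw [Nat.card_zpowers, ha, pow_one])
        · exact IsPGroup.of_card (n := 2) (by rw [Nat.card_zpowers, e]; norm_num)
        · rw [zpowers_le, mem_normalizer_iff]
          intro g
          constructor
          · intro hg
            obtain ⟨i, rfl⟩ := mem_zpowers_iff.1 hg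
            rw [CfsgLib.Invol.conj_zpow_of_inverts hai]
            exact zpow_mem (mem_zpowers _) _
          · intro hg
            obtain ⟨i, hi⟩ := mem_zpowers_iff.1 hg
            have hg' : g = a⁻¹ * (a * b) ^ i * a := by rw [hi]; group
            rw [hg', show a⁻¹ * (a * b) ^ i * a = a * (a * b) ^ i * a⁻¹ by rw [inv_eq_of_mul_eq_one_right ha2],
              CfsgLib.Invol.conj_zpow_of_inverts hai]
            exact zpow_mem (mem_zpowers _) _
      have := (hR.two_le_four _ hB).2.2 _ (mem_sup_right (mem_zpowers a)) _ (mem_sup_left (mem_zpowers (a * b)))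
      have h1 : a * (a * b) * a⁻¹ = a * b := by rw [this.eq, mul_inv_cancel_right]
      have h2 : (a * b) * (a * b) = 1 := by
        have h3 : a * b = (a * b)⁻¹ := h1.symm.trans hai
        exact mul_eq_one_iff_eq_inv.2 h3
      have h2' : (a * b) ^ 2 = 1 := by rw [pow_two]; exact h2
      have := Nat.le_of_dvd (by norm_num) (orderOf_dvd_of_pow_eq_one h2')
      omega
    · exact absurd e (hcon y).2
  let C := closure (Set.range fun y : G ⧸ U => y * a * y⁻¹)
  have hall : ∀ u ∈ Set.range (fun y : G ⧸ U => y * a * y⁻¹), ∀ v ∈ Set.range (fun y : G ⧸ U => y * a * y⁻¹),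
      u * v = v * u := by
    rintro _ ⟨s, rfl⟩ _ ⟨t, rfl⟩
    have h := (hcom (s⁻¹ * t)).eq
    calc s * a * s⁻¹ * (t * a * t⁻¹) = s * (a * (s⁻¹ * t * a * (s⁻¹ * t)⁻¹)) * s⁻¹ := by group
      _ = s * (s⁻¹ * t * a * (s⁻¹ * t)⁻¹ * a) * s⁻¹ := by rw [h]
      _ = _ := by group
  haveI : IsMulCommutative C := Subgroup.isMulCommutative_closure hall
  have hexp : ∀ c ∈ C, c * c = 1 := by
    intro c hc
    induction hc using closure_induction with
    | mem x hx =>
      obtain ⟨y, rfl⟩ := hx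
      show y * a * y⁻¹ * (y * a * y⁻¹) = 1
      rw [show y * a * y⁻¹ * (y * a * y⁻¹) = y * (a * a) * y⁻¹ by group, ha2]; simp
    | one => exact one_mul 1
    | mul u v hu hv e1 e2 =>
      have h := congrArg Subtype.val ((IsMulCommutative.is_comm (M := C)).comm ⟨u, hu⟩ ⟨v, hv⟩)
      simp only [Subgroup.coe_mul] at h
      calc u * v * (u * v) = u * (v * u) * v := by group
        _ = u * (u * v) * v := by rw [h]
        _ = u * u * (v * v) := by group
        _ = 1 := by rw [e1, e2, one_mul]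
    | inv u _ e => rw [← _root_.mul_inv_rev, e, inv_one]
  have hC2 : IsPGroup 2 C := fun c => ⟨1, Subtype.ext (by
    rw [Subgroup.coe_pow, pow_one, pow_two]; exact hexp c c.2)⟩
  have hCn : C.Normal := ⟨fun c hc g => by
    have : C.map (MulAut.conj g).toMonoidHom ≤ C := by
      rw [MonoidHom.map_closure]
      refine closure_mono ?_
      rintro _ ⟨_, ⟨y, rfl⟩, rfl⟩
      exact ⟨g * y, by simp [mul_assoc]⟩
    exact this ⟨c, hc, rfl⟩⟩
  have hk : IsPGroup 2 (QuotientGroup.mk' U).ker := by rw [QuotientGroup.ker_mk']; exact hR.two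
  have hle := hR.max (C.comap (QuotientGroup.mk' U)) inferInstance (hC2.comap_of_ker_isPGroup _ hk)
  obtain ⟨g, rfl⟩ := QuotientGroup.mk'_surjective U a
  have : QuotientGroup.mk' U g = 1 := (QuotientGroup.eq_one_iff g).2 (hle (mem_comap.2 (subset_closure ⟨1, by simp⟩)))
  rw [this, orderOf_one] at ha
  omega

include hR in
theorem Radical.fpf_of_odd {x : G} {p : ℕ} (hp : p = 3 ∨ p = 5) (hx : orderOf x = p) : Fpf x U :=
  hR.small.fpf Nat.prime_two hR.two (fun e => by rw [e, orderOf_one] at hx; omega)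
    (by rw [hx]; rcases hp with rfl | rfl <;> norm_num)

include hR in
/-- Lift of an inverted element of odd prime order and of the inverting involution. -/
theorem Radical.exists_lift {p : ℕ} (hp : p = 3 ∨ p = 5) {a x : G ⧸ U} (ha : orderOf a = 2)
    (hx : orderOf x = p) (hinv : a * x * a⁻¹ = x⁻¹) :
    ∃ b y : G, orderOf b = 2 ∧ b ∉ U ∧ QuotientGroup.mk' U b = a ∧ orderOf y = p ∧
      QuotientGroup.mk' U y = x ∧ b * y * b⁻¹ = y⁻¹ := by
  obtain ⟨y, rfl⟩ := QuotientGroup.mk'_surjective U x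
  obtain ⟨g, rfl⟩ := QuotientGroup.mk'_surjective U a
  have hpp := mem_three_or_five hp
  have hy : orderOf y = p := by
    have hd := orderOf_map_dvd (QuotientGroup.mk' U) y
    rw [hx] at hd
    have hy1 : y ≠ 1 := fun e => by rw [e, map_one, orderOf_one] at hx; exact hpp.ne_one hx.symm
    obtain ⟨r, k, hr, hk, hk'⟩ := hR.small.isPrimePow hy1
    rw [← hk'] at hd
    have e := (Nat.prime_dvd_prime_iff_eq hpp hr.nat_prime).1 (hpp.dvd_of_dvd_pow hd)
    subst e
    have h5 := hR.small y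
    rw [← hk'] at h5
    rcases Nat.lt_or_ge 1 k with hk1 | hk1
    · have : p ^ 2 ≤ p ^ k := Nat.pow_le_pow_right hpp.pos hk1
      rcases hp with rfl | rfl <;> omega
    · rw [← hk', show k = 1 by omega, pow_one]
  have hf := hR.fpf_of_odd hp (x := y⁻¹) (by rw [orderOf_inv, hy])
  have hmem : (y⁻¹)⁻¹ * (g * y * g⁻¹) ∈ U := by
    rw [inv_inv, ← QuotientGroup.eq_one_iff, ← QuotientGroup.mk'_apply, map_mul, map_mul, map_mul, map_inv,
      hinv, mul_inv_cancel]
  obtain ⟨v, hv, hve⟩ := exists_conj_of_fpf hf hmem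
  rw [mul_inv_cancel_left] at hve
  refine ⟨v * g, y, ?_, ?_, ?_, hy, rfl, ?_⟩
  · have hconj : v * g * y * (v * g)⁻¹ = y⁻¹ := by
      rw [show v * g * y * (v * g)⁻¹ = v * (g * y * g⁻¹) * v⁻¹ by group, ← hve]; group
    have hgU : QuotientGroup.mk' U (v * g) = QuotientGroup.mk' U g := by
      rw [map_mul, show QuotientGroup.mk' U v = 1 from (QuotientGroup.eq_one_iff v).2 hv, one_mul]
    have hsq : v * g * (v * g) ∈ U := by
      rw [← QuotientGroup.eq_one_iff, ← QuotientGroup.mk'_apply, map_mul, hgU, CfsgLib.Invol.mul_self_eq_one ha]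
    have hcy : Commute y (v * g * (v * g)) := by
      have e : (v * g * (v * g)) * y * (v * g * (v * g))⁻¹ = y := by
        calc _ = v * g * (v * g * y * (v * g)⁻¹) * (v * g)⁻¹ := by group
          _ = v * g * y⁻¹ * (v * g)⁻¹ := by rw [hconj]
          _ = (v * g * y * (v * g)⁻¹)⁻¹ := by group
          _ = y := by rw [hconj, inv_inv]
      exact (mul_inv_eq_iff_eq_mul.1 e).symm
    refine CfsgLib.Invol.orderOf_eq_two (hR.fpf_of_odd hp hy _ hsq hcy) fun e => ?_
    rw [e, map_one] at hgU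
    rw [← hgU, orderOf_one] at ha
    omega
  · intro hb
    have : QuotientGroup.mk' U (v * g) = 1 := (QuotientGroup.eq_one_iff _).2 hb
    rw [map_mul, show QuotientGroup.mk' U v = 1 from (QuotientGroup.eq_one_iff v).2 hv, one_mul] at this
    rw [this, orderOf_one] at ha
    omega
  · rw [map_mul, show QuotientGroup.mk' U v = 1 from (QuotientGroup.eq_one_iff v).2 hv, one_mul]
  · rw [show v * g * y * (v * g)⁻¹ = v * (g * y * g⁻¹) * v⁻¹ by group, ← hve]; group

include hR in
/-- The quotient of order divisible by six: the normal two-subgroup is elementary abelian. -/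
theorem Radical.exp_two (h2 : 2 ∣ Nat.card (G ⧸ U)) (h3 : 3 ∣ Nat.card (G ⧸ U)) : ∀ u ∈ U, u * u = 1 := by
  obtain ⟨P⟩ : Nonempty (Sylow 3 (G ⧸ U)) := inferInstance
  have hPc : Nat.card (P : Subgroup (G ⧸ U)) = 3 := by
    rw [P.card_eq_multiplicity]
    have h60 : (Nat.card (G ⧸ U)).factorization 3 ≤ 1 := by
      have h60 : Nat.card (G ⧸ U) ∣ 60 := by
        rcases hR.quot_shape with e | e | ⟨e, -⟩ | ⟨e, -⟩
        · rw [e]; exact one_dvd _
        · exact e.trans (by norm_num)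
        · exact e.trans (by norm_num)
        · rw [e]
      by_contra hcon
      have h9 : (3 : ℕ) ^ 2 ∣ 60 :=
        ((Nat.prime_three.pow_dvd_iff_le_factorization Nat.card_pos.ne').2 (by omega)).trans h60
      norm_num at h9
    have h1 := (Nat.prime_three.pow_dvd_iff_le_factorization (k := 1) Nat.card_pos.ne').1 (by rwa [pow_one])
    rw [show (Nat.card (G ⧸ U)).factorization 3 = 1 by omega, pow_one]
  -- the normalizer of a Sylow three-subgroup has even order
  have hNev : 2 ∣ Nat.card (normalizer ((P : Subgroup (G ⧸ U)) : Set (G ⧸ U))) := by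
    have e := card_mul_index (normalizer ((P : Subgroup (G ⧸ U)) : Set (G ⧸ U)))
    have hmod := card_sylow_modEq_one 3 (G ⧸ U)
    rw [P.card_eq_index_normalizer] at hmod
    have h3d : 3 ∣ Nat.card (normalizer ((P : Subgroup (G ⧸ U)) : Set (G ⧸ U))) :=
      dvd_trans (dvd_of_eq hPc.symm) (card_dvd_of_le le_normalizer)
    rcases hR.quot_shape with h | h | ⟨h, -⟩ | ⟨h, hs⟩
    · rw [h] at h2; norm_num at h2
    · have h6 : Nat.card (G ⧸ U) = 6 :=
        Nat.dvd_antisymm h ((show (2 : ℕ).Coprime 3 by norm_num).mul_dvd_of_dvd_of_dvd h2 h3)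
      rw [h6] at e
      have hi : (normalizer ((P : Subgroup (G ⧸ U)) : Set (G ⧸ U))).index ≤ 6 := Nat.le_of_dvd (by norm_num) ⟨_, by rw [mul_comm]; exact e.symm⟩
      generalize hN : Nat.card (normalizer ((P : Subgroup (G ⧸ U)) : Set (G ⧸ U))) = N at e h3d ⊢
      generalize hI : (normalizer ((P : Subgroup (G ⧸ U)) : Set (G ⧸ U))).index = I at e hmod hi ⊢
      interval_cases I <;> first | exact absurd hmod (by decide) | exact ⟨N / 2, by omega⟩
    · exact absurd (h3.trans h) (by norm_num)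
    · rw [h] at e
      have hne : (normalizer ((P : Subgroup (G ⧸ U)) : Set (G ⧸ U))).index ≠ 1 := fun e' => by
        rw [index_eq_one, normalizer_eq_top_iff] at e'
        rcases hs.eq_bot_or_eq_top_of_normal _ e' with e'' | e''
        · rw [e'', Subgroup.card_bot] at hPc; norm_num at hPc
        · rw [e'', card_top, h] at hPc; norm_num at hPc
      have hd : (normalizer ((P : Subgroup (G ⧸ U)) : Set (G ⧸ U))).index ∣ 20 := by
        have := P.card_dvd_index
        rwa [P.card_eq_index_normalizer, show (P : Subgroup (G ⧸ U)).index = 20 by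
          have := card_mul_index (P : Subgroup (G ⧸ U)); rw [hPc, h] at this; omega] at this
      have hN6 : Nat.card (normalizer ((P : Subgroup (G ⧸ U)) : Set (G ⧸ U))) ≤ 6 := by
        haveI : ((P : Subgroup (G ⧸ U)).subgroupOf (normalizer ((P : Subgroup (G ⧸ U)) : Set (G ⧸ U)))).Normal :=
          normal_in_normalizer
        refine Nat.le_of_dvd (by norm_num) (((hR.small.quotient U).subgroup _).card_dvd_of_prime_normal (p := 3)
          ((P : Subgroup (G ⧸ U)).subgroupOf (normalizer ((P : Subgroup (G ⧸ U)) : Set (G ⧸ U))))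
          (by rw [Nat.card_congr (subgroupOfEquivOfLe le_normalizer).toEquiv, hPc]) (fun Q hQ => ?_)).1
        obtain ⟨n, hn⟩ := hQ.exists_card_eq
        have hd60 : 3 ^ n ∣ 60 := h ▸ hn ▸ (card_subgroup_dvd_card Q).trans (card_subgroup_dvd_card _)
        rw [hn]
        rcases Nat.lt_or_ge n 2 with hlt | hge
        · exact (Nat.pow_dvd_pow 3 (show n ≤ 1 by omega)).trans (by norm_num)
        · exact absurd ((Nat.pow_dvd_pow 3 hge).trans hd60) (by norm_num)
      generalize hN : Nat.card (normalizer ((P : Subgroup (G ⧸ U)) : Set (G ⧸ U))) = N at e h3d hN6 ⊢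
      generalize hI : (normalizer ((P : Subgroup (G ⧸ U)) : Set (G ⧸ U))).index = I at e hmod hne hd
      have hI20 : I ≤ 20 := Nat.le_of_dvd (by norm_num) hd
      interval_cases I <;>
        first
          | exact absurd hd (by decide)
          | exact absurd hmod (by decide)
          | exact ⟨N / 2, by omega⟩
  obtain ⟨⟨a, haN⟩, ha⟩ := exists_prime_orderOf_dvd_card' 2 hNev
  rw [Subgroup.orderOf_mk] at ha
  haveI : IsCyclic (P : Subgroup (G ⧸ U)) := isCyclic_of_prime_card hPc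
  obtain ⟨⟨x, hxP⟩, hx⟩ := exists_prime_orderOf_dvd_card' (G := (P : Subgroup (G ⧸ U))) 3 (dvd_of_eq hPc.symm)
  rw [Subgroup.orderOf_mk] at hx
  have hz : zpowers x = (P : Subgroup (G ⧸ U)) :=
    eq_of_le_of_card_ge (zpowers_le.2 hxP) (by rw [Nat.card_zpowers, hx, hPc])
  have hax : a * x * a⁻¹ ∈ zpowers x := hz ▸ (mem_normalizer_iff.1 haN x).1 hxP
  have hinv : a * x * a⁻¹ = x⁻¹ := by
    obtain ⟨j, hj⟩ := (isOfFinOrder_of_finite x).mem_powers_iff_mem_zpowers.2 hax
    obtain ⟨i, hi3, hi⟩ : ∃ i, i < 3 ∧ x ^ i = a * x * a⁻¹ := by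
      refine ⟨j % 3, Nat.mod_lt _ (by norm_num), ?_⟩
      rw [← hx, pow_mod_orderOf]
      exact hj
    interval_cases i
    · rw [pow_zero, eq_comm, conj_eq_one_iff] at hi
      rw [hi, orderOf_one] at hx
      omega
    · exfalso
      rw [pow_one, eq_comm, mul_inv_eq_iff_eq_mul] at hi
      rcases (hR.small.quotient U).no_commute (show Commute a x from hi) (by rw [ha, hx]; norm_num) with e | e
      · rw [e, orderOf_one] at ha; omega
      · rw [e, orderOf_one] at hx; omega
    · rw [← hi]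
      refine eq_inv_of_mul_eq_one_left ?_
      rw [← pow_succ, show 2 + 1 = orderOf x by rw [hx], pow_orderOf_eq_one]
  obtain ⟨b, y, hb, -, -, hy, -, hby⟩ := hR.exists_lift (Or.inl rfl) ha hx hinv
  exact hR.small.exp_two_of_sym U hR.two b y (CfsgLib.Invol.mul_self_eq_one hb) hy hby

/-- Centralizer bound: two conjugates generating an element of odd order. -/
theorem Radical.centralizer_sq_le (hR : Radical G U) {V : Subgroup G} [V.Normal] (hVU : V ≤ U) {a : G}
    (ha : a * a = 1) (haU : a ∉ U) :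
    Nat.card ((V ⊓ centralizer ({a} : Set G) : Subgroup G)) * Nat.card ((V ⊓ centralizer ({a} : Set G) : Subgroup G)) ≤
      Nat.card V := by
  have hā : orderOf (QuotientGroup.mk' U a) = 2 :=
    CfsgLib.Invol.orderOf_eq_two (by rw [← map_mul, ha, map_one]) fun e => haU ((QuotientGroup.eq_one_iff a).1 e)
  obtain ⟨y, hy⟩ := hR.exists_odd_product hā
  obtain ⟨g, rfl⟩ := QuotientGroup.mk'_surjective U y
  set z := a * (g * a * g⁻¹) with hz
  have hzπ : QuotientGroup.mk' U z = QuotientGroup.mk' U a * (QuotientGroup.mk' U g * QuotientGroup.mk' U a * (QuotientGroup.mk' U g)⁻¹) := by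
    simp [hz]
  set C := V ⊓ centralizer ({a} : Set G)
  let f : C × C → V := fun w => ⟨(w.1 : G) * (g * (w.2 : G) * g⁻¹),
    mul_mem w.1.2.1 (‹V.Normal›.conj_mem _ w.2.2.1 g)⟩
  have hf : Function.Injective f := by
    rintro ⟨u₁, v₁⟩ ⟨u₂, v₂⟩ h
    have e : (u₁ : G) * (g * v₁ * g⁻¹) = u₂ * (g * v₂ * g⁻¹) := congrArg Subtype.val h
    set w := (u₂ : G)⁻¹ * u₁ with hw
    have hw1 : w = g * ((v₂ : G) * (v₁ : G)⁻¹) * g⁻¹ := by
      calc w = (u₂ : G)⁻¹ * (u₁ * (g * v₁ * g⁻¹)) * (g * v₁ * g⁻¹)⁻¹ := by rw [hw]; group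
        _ = (u₂ : G)⁻¹ * (u₂ * (g * v₂ * g⁻¹)) * (g * v₁ * g⁻¹)⁻¹ := by rw [e]
        _ = _ := by group
    have hc1 : Commute a w := (mem_centralizer_singleton_iff.1 (mul_mem (inv_mem u₂.2) u₁.2).2).symm
    have hc2 : Commute (g * a * g⁻¹) w := by
      have h0 : Commute a ((v₂ : G) * (v₁ : G)⁻¹) :=
        (mem_centralizer_singleton_iff.1 (mul_mem v₂.2 (inv_mem v₁.2)).2).symm
      rw [hw1]
      show g * a * g⁻¹ * (g * ((v₂ : G) * (v₁ : G)⁻¹) * g⁻¹) = g * ((v₂ : G) * (v₁ : G)⁻¹) * g⁻¹ * (g * a * g⁻¹)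
      calc g * a * g⁻¹ * (g * ((v₂ : G) * (v₁ : G)⁻¹) * g⁻¹) = g * (a * ((v₂ : G) * (v₁ : G)⁻¹)) * g⁻¹ := by group
        _ = g * ((v₂ : G) * (v₁ : G)⁻¹ * a) * g⁻¹ := by rw [h0.eq]
        _ = _ := by group
    have hzo : ∃ p, (p = 3 ∨ p = 5) ∧ ∃ k : ℕ, Commute (z ^ k) w ∧ orderOf (z ^ k) = p := by
      have hcw : Commute z w := hc1.mul_left hc2
      have hd := orderOf_map_dvd (QuotientGroup.mk' U) z
      rw [hzπ] at hd
      rcases hy with e' | e' <;> rw [e'] at hd
      · refine ⟨3, Or.inl rfl, orderOf z / 3, hcw.pow_left _, orderOf_pow_orderOf_div (orderOf_pos z).ne' hd⟩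
      · refine ⟨5, Or.inr rfl, orderOf z / 5, hcw.pow_left _, orderOf_pow_orderOf_div (orderOf_pos z).ne' hd⟩
    obtain ⟨p, hp, k, hk, hko⟩ := hzo
    have hw0 : w = 1 := hR.fpf_of_odd hp hko w (hVU (mul_mem (inv_mem u₂.2) u₁.2).1) hk
    have h1 : u₁ = u₂ := Subtype.ext (inv_mul_eq_one.1 hw0).symm
    have h2 : v₁ = v₂ := Subtype.ext (by
      rw [hw1, conj_eq_one_iff, mul_inv_eq_one] at hw0
      exact hw0.symm)
    rw [h1, h2]
  have := Nat.card_le_card_of_injective f hf
  rwa [Nat.card_prod] at this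

/-- The conclusion about offenders. -/
structure OffenderData (U A : Subgroup G) (q : ℕ) : Prop where
  q_eq : q = 2 ∨ q = 4
  card_U : Nat.card U = q * q
  exp_U : ∀ u ∈ U, u * u = 1
  card_A : Nat.card A = q * q
  card_inf : Nat.card (A ⊓ U : Subgroup G) = q
  cent : ∀ a ∈ A, a ∉ U → U ⊓ centralizer ({a} : Set G) = A ⊓ U
  card_group : (q = 2 → Nat.card G = 24) ∧ (q = 4 → Nat.card G = 960)
  simple : q = 4 → ∀ [U.Normal], IsSimpleGroup (G ⧸ U)

theorem commute_of_exp_two {U : Subgroup G} (h : ∀ u ∈ U, u * u = 1) {u v : G} (hu : u ∈ U) (hv : v ∈ U) :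
    Commute u v := by
  show u * v = v * u
  calc u * v = (u * v)⁻¹ := eq_inv_of_mul_eq_one_left (h _ (mul_mem hu hv))
    _ = v * u := by rw [mul_inv_rev, inv_eq_of_mul_eq_one_right (h _ hu), inv_eq_of_mul_eq_one_right (h _ hv)]

/-- Offenders: a maximal elementary abelian subgroup outside `U`. -/
theorem Radical.offender (hR : Radical G U) (A : Subgroup G) (hA2 : ∀ a ∈ A, a * a = 1) (hAU : ¬ A ≤ U)
    (hmax : ∀ B : Subgroup G, (∀ b ∈ B, b * b = 1) → B ≤ U ⊔ A → Nat.card B ≤ Nat.card A) :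
    ∃ q, OffenderData U A q := by
  obtain ⟨a₀, ha₀, ha₀U⟩ := SetLike.not_le_iff_exists.1 hAU
  -- the elementary part of the centre
  let V : Subgroup G :=
    { carrier := {u | u ∈ U ∧ u * u = 1 ∧ ∀ w ∈ U, Commute u w}
      mul_mem' := fun {u v} hu hv => ⟨mul_mem hu.1 hv.1, by
        rw [show u * v * (u * v) = u * (v * u) * v by group, ← (hu.2.2 v hv.1).eq,
          show u * (u * v) * v = u * u * (v * v) by group, hu.2.1, hv.2.1, one_mul],
        fun w hw => (hu.2.2 w hw).mul_left (hv.2.2 w hw)⟩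
      one_mem' := ⟨one_mem _, one_mul _, fun w _ => Commute.one_left w⟩
      inv_mem' := fun {u} hu => by rw [inv_eq_of_mul_eq_one_right hu.2.1]; exact hu }
  haveI hVn : V.Normal := ⟨fun u hu g => ⟨‹U.Normal›.conj_mem u hu.1 g, by
    rw [show g * u * g⁻¹ * (g * u * g⁻¹) = g * (u * u) * g⁻¹ by group, hu.2.1]; simp, fun w hw => by
    have := hu.2.2 (g⁻¹ * w * g) (by simpa using ‹U.Normal›.conj_mem w hw g⁻¹)
    show g * u * g⁻¹ * w = w * (g * u * g⁻¹)
    calc g * u * g⁻¹ * w = g * (u * (g⁻¹ * w * g)) * g⁻¹ := by group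
      _ = g * (g⁻¹ * w * g * u) * g⁻¹ := by rw [this.eq]
      _ = _ := by group⟩⟩
  have hVU : V ≤ U := fun u hu => hu.1
  have hV1 : V ≠ ⊥ := by
    haveI : Nontrivial U := (nontrivial_iff_ne_bot U).2 hR.ne_bot
    haveI := hR.two.center_nontrivial
    obtain ⟨n, hn⟩ := (hR.two.to_subgroup (center U)).exists_card_eq
    have hn0 : n ≠ 0 := fun e => by
      rw [e, pow_zero] at hn
      have := Finite.one_lt_card_iff_nontrivial.2 (inferInstance : Nontrivial (center U))
      omega
    obtain ⟨z, hz⟩ := exists_prime_orderOf_dvd_card' (G := center U) 2 (hn ▸ dvd_pow_self 2 hn0)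
    intro e
    have hzV : ((z : U) : G) ∈ V := ⟨(z : U).2, by
      rw [← pow_two, ← Subgroup.coe_pow, ← Subgroup.coe_pow, ← hz, pow_orderOf_eq_one]; rfl,
      fun w hw => congrArg Subtype.val (mem_center_iff.1 z.2 ⟨w, hw⟩).symm⟩
    rw [e, mem_bot] at hzV
    have : z = 1 := Subtype.ext (Subtype.ext hzV)
    rw [this, orderOf_one] at hz
    omega
  -- the exchange
  set A₀ := A ⊓ U with hA₀
  let B : Subgroup G := A₀ ⊔ V
  have hBexp : ∀ b ∈ B, b * b = 1 := by
    intro b hb
    obtain ⟨u, hu, v, hv, rfl⟩ := mem_sup_of_normal_right.1 hb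
    rw [show u * v * (u * v) = u * (v * u) * v by group, (hv.2.2 u hu.2).eq,
      show u * (u * v) * v = u * u * (v * v) by group, hA2 u hu.1, hv.2.1, one_mul]
  have hB := hmax B hBexp (sup_le (inf_le_right.trans le_sup_left) (hVU.trans le_sup_left))
  have hprod : Nat.card B * Nat.card (A₀ ⊓ V : Subgroup G) = Nat.card A₀ * Nat.card V := by
    have h1 := card_eq_card_quotient_mul_card_subgroup (V.subgroupOf B)
    have h2 : Nat.card (V.subgroupOf B) = Nat.card V :=
      Nat.card_congr (subgroupOfEquivOfLe le_sup_right).toEquiv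
    have h3 := card_eq_card_quotient_mul_card_subgroup (V.subgroupOf A₀)
    have h4 : Nat.card (A₀ ⧸ V.subgroupOf A₀) = Nat.card (B ⧸ V.subgroupOf B) :=
      Nat.card_congr (QuotientGroup.quotientInfEquivProdNormalQuotient A₀ V).toEquiv
    have h5 : Nat.card (V.subgroupOf A₀) = Nat.card (A₀ ⊓ V : Subgroup G) := by
      rw [← Nat.card_congr (subgroupOfEquivOfLe (inf_le_left : A₀ ⊓ V ≤ A₀)).toEquiv]
      exact congrArg (fun H : Subgroup A₀ => Nat.card H) (inf_subgroupOf_left V A₀).symm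
    rw [h1, h2, h3, h5, h4]; ring
  let Abar := A.map (QuotientGroup.mk' U)
  have hA2' : IsPGroup 2 A := fun a => ⟨1, Subtype.ext (by rw [Subgroup.coe_pow, pow_one, pow_two]; exact hA2 a a.2)⟩
  have hAcard : Nat.card A = Nat.card Abar * Nat.card A₀ := by
    have h3 := card_eq_card_quotient_mul_card_subgroup (((QuotientGroup.mk' U).subgroupMap A).ker)
    have h6 : Nat.card ((QuotientGroup.mk' U).subgroupMap A).ker = Nat.card A₀ := by
      rw [← Nat.card_congr (subgroupOfEquivOfLe (inf_le_left : A₀ ≤ A)).toEquiv]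
      refine congrArg (fun H : Subgroup A => Nat.card H) ?_
      ext a
      rw [MonoidHom.mem_ker, Subtype.ext_iff, mem_subgroupOf, mem_inf]
      exact ⟨fun h => ⟨a.2, (QuotientGroup.eq_one_iff _).1 h⟩, fun h => (QuotientGroup.eq_one_iff _).2 h.2⟩
    rw [h3, h6, Nat.card_congr (QuotientGroup.quotientKerEquivOfSurjective _ (MonoidHom.subgroupMap_surjective _ _)).toEquiv]
  obtain ⟨hAbar4, hAbard, -⟩ := hR.two_le_four Abar (hA2'.map _)
  set c := Nat.card (V ⊓ centralizer ({a₀} : Set G) : Subgroup G)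
  have hcV : c * c ≤ Nat.card V := hR.centralizer_sq_le hVU (hA2 a₀ ha₀) ha₀U
  have hint : Nat.card (A₀ ⊓ V : Subgroup G) ≤ c := by
    refine card_le_of_le fun u hu => ⟨hu.2, mem_centralizer_singleton_iff.2 ?_⟩
    exact (commute_of_exp_two hA2 hu.1.1 ha₀).eq
  have hA₀pos : 0 < Nat.card A₀ := Nat.card_pos
  have hVle : Nat.card V ≤ Nat.card Abar * Nat.card (A₀ ⊓ V : Subgroup G) := by
    have := Nat.mul_le_mul_right (Nat.card (A₀ ⊓ V : Subgroup G)) hB
    rw [hprod, hAcard] at this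
    nlinarith
  have hcA : c ≤ Nat.card Abar := by
    have h1 : Nat.card V ≤ Nat.card Abar * c := hVle.trans (Nat.mul_le_mul_left _ hint)
    have h2 : 0 < c := Nat.card_pos
    nlinarith
  have hV16 : Nat.card V ≤ 16 := by
    have h1 : Nat.card V ≤ Nat.card Abar * c := hVle.trans (Nat.mul_le_mul_left _ hint)
    exact h1.trans (Nat.mul_le_mul hAbar4 (hcA.trans hAbar4))
  have hVmod : ∀ p, (p = 3 ∨ p = 5) → p ∣ Nat.card (G ⧸ U) → Nat.card V ≡ 1 [MOD p] := by
    intro p hp hpd
    haveI := Fact.mk (mem_three_or_five hp)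
    obtain ⟨x, hx⟩ := exists_prime_orderOf_dvd_card' (G := G) p (hpd.trans (card_quotient_dvd_card U))
    exact fpf_modEq V hx fun u hu => hR.fpf_of_odd hp hx u (hVU hu)
  obtain ⟨n, hn⟩ := (hR.two.to_le hVU).exists_card_eq
  have hn0 : n ≠ 0 := fun e => hV1 (card_eq_one.1 (by rw [hn, e, pow_zero]))
  have hn4 : n ≤ 4 := by
    by_contra hcon
    have : 2 ^ 5 ≤ 2 ^ n := Nat.pow_le_pow_right (by norm_num) (by omega)
    omega
  obtain ⟨m, hm⟩ := (hA2'.map (QuotientGroup.mk' U)).exists_card_eq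
  change Nat.card Abar = 2 ^ m at hm
  have hm0 : m ≠ 0 := fun e => hAU fun a ha => by
    rw [e, pow_zero] at hm
    have : QuotientGroup.mk' U a ∈ (⊥ : Subgroup (G ⧸ U)) := card_eq_one.1 hm ▸ mem_map_of_mem _ ha
    exact (QuotientGroup.eq_one_iff a).1 (mem_bot.1 this)
  have hev : 2 ∣ Nat.card (G ⧸ U) := (hm ▸ dvd_pow_self 2 hm0 : 2 ∣ Nat.card Abar).trans hAbard
  rw [hn, hm] at hVle
  rw [hm] at hAbar4 hcA hAcard hAbard
  rw [hn] at hcV
  have hm2 : m ≤ 2 := by
    by_contra hcon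
    have : 2 ^ 3 ≤ 2 ^ m := Nat.pow_le_pow_right (by norm_num) (by omega)
    omega
  have h3 : 3 ∣ Nat.card (G ⧸ U) := by
    rcases hR.quot_shape with e | e | ⟨e, hcyc⟩ | ⟨e, -⟩
    · rw [e] at hev; norm_num at hev
    · have h6 : Nat.card (G ⧸ U) ≤ 6 := Nat.le_of_dvd (by norm_num) e
      have hne : Nat.card (G ⧸ U) ≠ 2 := fun e2 => ha₀U ((QuotientGroup.eq_one_iff a₀).1 (by
        have htop : IsPGroup 2 (⊤ : Subgroup (G ⧸ U)) := IsPGroup.of_card (n := 1) (by rw [card_top, e2, pow_one])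
        have hk : IsPGroup 2 (QuotientGroup.mk' U).ker := by rw [QuotientGroup.ker_mk']; exact hR.two
        exact (QuotientGroup.eq_one_iff a₀).2 (hR.max _ inferInstance (htop.comap_of_ker_isPGroup _ hk) (mem_top a₀))))
      have hpos := Nat.card_pos (α := G ⧸ U)
      generalize Nat.card (G ⧸ U) = N at *
      interval_cases N <;> omega
    · exfalso
      have hA1 : m = 1 := by
        haveI := hcyc Abar (hA2'.map _)
        obtain ⟨⟨g, hgA⟩, hg⟩ := IsCyclic.exists_generator (α := Abar)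
        have hcz : Nat.card Abar ≤ 2 := by
          rw [← orderOf_eq_card_of_forall_mem_zpowers hg]
          obtain ⟨a, ha, hae⟩ := hgA
          refine Nat.le_of_dvd (by norm_num) (orderOf_dvd_of_pow_eq_one (Subtype.ext ?_))
          rw [Subgroup.coe_pow, pow_two]
          show g * g = 1
          rw [← hae, ← map_mul, hA2 a ha, map_one]
        rw [show Nat.card Abar = 2 ^ m from (hA2'.map (QuotientGroup.mk' U)).exists_card_eq.elim fun _ _ => hm] at hcz
        by_contra hne
        have : 2 ^ 2 ≤ 2 ^ m := Nat.pow_le_pow_right (by norm_num) (by omega)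
        omega
      have hne : 5 ∣ Nat.card (G ⧸ U) := by
        by_contra h5
        have hd4 : Nat.card (G ⧸ U) ∣ 2 ^ 2 := by
          have hco : (Nat.card (G ⧸ U)).Coprime 5 := Nat.Coprime.symm ((Nat.prime_five.coprime_iff_not_dvd).2 h5)
          exact hco.dvd_of_dvd_mul_right (show Nat.card (G ⧸ U) ∣ 2 ^ 2 * 5 by norm_num; exact e)
        obtain ⟨i, -, hi⟩ := (Nat.dvd_prime_pow Nat.prime_two).1 hd4
        have htop : IsPGroup 2 (⊤ : Subgroup (G ⧸ U)) := IsPGroup.of_card (n := i) (by rw [card_top, hi])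
        have hk : IsPGroup 2 (QuotientGroup.mk' U).ker := by rw [QuotientGroup.ker_mk']; exact hR.two
        exact ha₀U (hR.max _ inferInstance (htop.comap_of_ker_isPGroup _ hk) (mem_top a₀))
      have hmod := hVmod 5 (Or.inr rfl) hne
      rw [hn] at hmod
      rw [hA1] at hcA hVle
      have hle : 2 ^ n ≤ 4 := hVle.trans (Nat.mul_le_mul_left 2 (hint.trans hcA))
      have hn2 : n ≤ 2 := by
        by_contra hcon
        have : 2 ^ 3 ≤ 2 ^ n := Nat.pow_le_pow_right (by norm_num) (by omega)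
        omega
      interval_cases n
      · omega
      all_goals exact absurd hmod (by decide)
    · rw [e]; norm_num
  have hexp := hR.exp_two hev h3
  have hVeq : V = U := le_antisymm hVU fun u hu => ⟨hu, hexp u hu, fun w hw => commute_of_exp_two hexp hu hw⟩
  have hmod3 := hVmod 3 (Or.inl rfl) h3
  rw [hn] at hmod3
  have hinf : A₀ ⊓ V = A₀ := by rw [hVeq, hA₀, inf_assoc, inf_idem]
  rw [hinf] at hint hVle
  obtain ⟨i, hi⟩ := (hR.two.to_le (inf_le_right : A₀ ≤ U)).exists_card_eq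
  rw [hi] at hint hVle hAcard
  have hkey : ((m = 1 ∧ n = 2 ∧ i = 1 ∧ c = 2) ∧ Nat.card (G ⧸ U) = 6) ∨
      ((m = 2 ∧ n = 4 ∧ i = 2 ∧ c = 4) ∧ Nat.card (G ⧸ U) = 60) := by
    have hi2 : i ≤ 2 := by
      by_contra hcon
      have : 2 ^ 3 ≤ 2 ^ i := Nat.pow_le_pow_right (by norm_num) (by omega)
      omega
    rcases hR.quot_shape with e | e | ⟨e, -⟩ | ⟨e, -⟩
    · rw [e] at hev; norm_num at hev
    · have h6 : Nat.card (G ⧸ U) = 6 :=
        Nat.dvd_antisymm e ((show (2 : ℕ).Coprime 3 by norm_num).mul_dvd_of_dvd_of_dvd hev h3)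
      refine Or.inl ⟨?_, h6⟩
      have hm1 : m = 1 := by
        by_contra hne
        have h4 : (4 : ℕ) ∣ 2 ^ m := by
          rw [show (4 : ℕ) = 2 ^ 2 by norm_num]; exact Nat.pow_dvd_pow 2 (by omega)
        have := h4.trans (hAbard.trans (dvd_of_eq h6))
        norm_num at this
      subst hm1
      have hi1 : i ≤ 1 := by
        by_contra hcon
        have : 2 ^ 2 ≤ 2 ^ i := Nat.pow_le_pow_right (by norm_num) (by omega)
        omega
      interval_cases n <;> interval_cases i <;> simp_all (config := { decide := true }) <;> omega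
    · exact absurd (h3.trans e) (by norm_num)
    · refine Or.inr ⟨?_, e⟩
      have hmod5 := hVmod 5 (Or.inr rfl) (by rw [e]; norm_num)
      rw [hn] at hmod5
      interval_cases n <;>
        first
          | exact absurd hmod5 (by decide)
          | (interval_cases m <;> interval_cases i <;> simp_all (config := { decide := true }) <;> omega)
  have hUcard : Nat.card U = 2 ^ n := by rw [← hVeq]; exact hn
  have hGcard : Nat.card G = Nat.card (G ⧸ U) * Nat.card U := card_eq_card_quotient_mul_card_subgroup U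
  refine ⟨2 ^ i, ?_, ?_, hexp, ?_, hi, ?_, ⟨?_, ?_⟩, ?_⟩
  · rcases hkey with ⟨⟨-, -, rfl, -⟩, -⟩ | ⟨⟨-, -, rfl, -⟩, -⟩ <;> norm_num
  · rw [hUcard]
    rcases hkey with ⟨⟨-, rfl, rfl, -⟩, -⟩ | ⟨⟨-, rfl, rfl, -⟩, -⟩ <;> norm_num
  · rw [hAcard]
    rcases hkey with ⟨⟨rfl, -, rfl, -⟩, -⟩ | ⟨⟨rfl, -, rfl, -⟩, -⟩ <;> norm_num
  · intro a ha haU
    have hle : A ⊓ U ≤ U ⊓ centralizer ({a} : Set G) := fun u hu =>
      ⟨hu.2, mem_centralizer_singleton_iff.2 (commute_of_exp_two hA2 hu.1 ha).eq⟩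
    refine (eq_of_le_of_card_ge hle ?_).symm
    have hsq := hR.centralizer_sq_le (V := U) le_rfl (hA2 a ha) haU
    rw [hUcard] at hsq
    change _ ≤ Nat.card (A ⊓ U : Subgroup G)
    rw [show Nat.card (A ⊓ U : Subgroup G) = 2 ^ i from hi]
    by_contra hlt
    push Not at hlt
    have h2i : 2 ^ i * 2 ^ i < Nat.card (U ⊓ centralizer ({a} : Set G) : Subgroup G) *
        Nat.card (U ⊓ centralizer ({a} : Set G) : Subgroup G) := Nat.mul_lt_mul'' hlt hlt
    rcases hkey with ⟨⟨-, rfl, rfl, -⟩, -⟩ | ⟨⟨-, rfl, rfl, -⟩, -⟩ <;> omega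
  · intro hq
    rcases hkey with ⟨⟨-, rfl, rfl, -⟩, e⟩ | ⟨⟨-, rfl, rfl, -⟩, e⟩
    · rw [hGcard, hUcard, e]; norm_num
    · norm_num at hq
  · intro hq
    rcases hkey with ⟨⟨-, rfl, rfl, -⟩, e⟩ | ⟨⟨-, rfl, rfl, -⟩, e⟩
    · norm_num at hq
    · rw [hGcard, hUcard, e]; norm_num
  · intro hq _
    rcases hkey with ⟨⟨-, -, rfl, -⟩, e⟩ | ⟨⟨-, -, rfl, -⟩, e⟩
    · norm_num at hq
    · rcases hR.quot_shape with h | h | ⟨h, -⟩ | ⟨-, h⟩
      · omega
      · rw [e] at h; norm_num at h
      · rw [e] at h; norm_num at h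
      · exact h

end CfsgLib.SpecFive
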