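import Cfsg.Agent.SpecFive.Climb

/-!
Groups with element orders at most five: an offender gives the structure of a Sylow two-subgroup
and its fusion.
-/

set_option autoImplicit false
set_option linter.unusedSectionVars false
set_option linter.unusedFintypeInType false

namespace CfsgLib.SpecFive

open Subgroup

variable {G : Type*} [Group G] [Finite G]

/-- The inductive hypothesis: smaller simple sections have order `60` or `360`. -/
def Below (G : Type*) [Group G] [Finite G] : Prop :=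
  ∀ (L : Subgroup G) (N : Subgroup L) [N.Normal] (M : Subgroup (L ⧸ N)), Nat.card M < Nat.card G →
    IsSimpleGroup M → ¬ IsMulCommutative M → Nat.card M = 60 ∨ Nat.card M = 360

theorem IsRad.radical (hs : Small G) (hb : Below G) {U : Subgroup G} (hU : IsRad U) :
    Radical (normalizer (U : Set G)) (U.subgroupOf (normalizer (U : Set G))) where
  small := hs.subgroup _
  normal := normal_in_normalizer
  two := hU.1.of_equiv (subgroupOfEquivOfLe le_normalizer).symm
  ne_bot := fun e => hU.2.1 (by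
    rw [subgroupOf_eq_bot] at e
    exact le_bot_iff.1 (e.eq_bot ▸ le_inf le_rfl le_normalizer))
  max := fun N hN hN2 x hx => by
    rw [mem_subgroupOf]
    refine hU.2.2 (le_twoCore (map_subtype_le N) (hN2.map _) ?_ (mem_map_of_mem _ hx))
    exact (normal_subgroupOf_iff_le_normalizer (map_subtype_le N)).1
      (by rw [subgroupOf, comap_map_eq_self_of_injective (Subgroup.subtype_injective _)]; exact hN)
  simples := fun {inst} M hM hMc => hb _ (U.subgroupOf _) M (by
    have hne : U.subgroupOf (normalizer (U : Set G)) ≠ ⊥ := fun e => hU.2.1 (by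
      rw [subgroupOf_eq_bot] at e
      exact le_bot_iff.1 (e.eq_bot ▸ le_inf le_rfl le_normalizer))
    have h1 := card_eq_card_quotient_mul_card_subgroup (U.subgroupOf (normalizer (U : Set G)))
    have h2 := two_le_card hne
    have h3 : Nat.card M ≤ Nat.card ((normalizer (U : Set G)) ⧸ U.subgroupOf (normalizer (U : Set G))) :=
      card_le_card_group M
    have h4 := card_le_card_group (normalizer (U : Set G))
    have h5 : 0 < Nat.card ((normalizer (U : Set G)) ⧸ U.subgroupOf (normalizer (U : Set G))) := Nat.card_pos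
    nlinarith) hM hMc

/-- The structure of the Sylow two-subgroup obtained from an offender. -/
structure Pair (T U A : Subgroup G) (q : ℕ) : Prop where
  q_eq : q = 2 ∨ q = 4
  syl : IsSyl ⊤ T
  card_T : Nat.card T = q * q * q
  U_le : U ≤ T
  A_le : A ≤ T
  exp_U : ∀ u ∈ U, u * u = 1
  exp_A : ∀ a ∈ A, a * a = 1
  card_U : Nat.card U = q * q
  card_A : Nat.card A = q * q
  card_inf : Nat.card (A ⊓ U : Subgroup G) = q
  cover : ∀ t ∈ T, t * t = 1 → t ∈ U ∨ t ∈ A
  cent : ∀ a ∈ A, a ∉ U → ∀ u ∈ U, Commute a u → u ∈ A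
  conj_U : ∀ u ∈ U, u ≠ 1 → ∀ z ∈ A ⊓ U, z ≠ 1 → IsConj u z
  conj_A : ∀ a ∈ A, a ∉ U → ∀ b ∈ A, b ∉ U → IsConj a b
  sup_eq : U ⊔ A = T
  A_norm : A ≤ normalizer (U : Set G)
  normalizer_card : (q = 2 → Nat.card (normalizer (U : Set G)) = 24) ∧ (q = 4 → Nat.card (normalizer (U : Set G)) = 960)

theorem le_or_le_of_subset_union {B U A : Subgroup G} (h : ∀ b ∈ B, b ∈ U ∨ b ∈ A) : B ≤ U ∨ B ≤ A := by
  by_contra hcon
  push Not at hcon
  obtain ⟨b, hb, hbU⟩ := SetLike.not_le_iff_exists.1 hcon.1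
  obtain ⟨c, hc, hcA⟩ := SetLike.not_le_iff_exists.1 hcon.2
  have hbA := (h b hb).resolve_left hbU
  have hcU := (h c hc).resolve_right hcA
  rcases h (b * c) (mul_mem hb hc) with e | e
  · exact hbU ((Subgroup.mul_mem_cancel_right U hcU).1 e)
  · exact hcA ((Subgroup.mul_mem_cancel_left A hbA).1 e)

theorem card_sup_mul {U A : Subgroup G} (hA : A ≤ normalizer (U : Set G)) :
    Nat.card (U ⊔ A : Subgroup G) * Nat.card (A ⊓ U : Subgroup G) = Nat.card U * Nat.card A := by
  have hle : U ⊔ A ≤ normalizer (U : Set G) := sup_le le_normalizer hA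
  haveI : (U.subgroupOf (U ⊔ A)).Normal := (normal_subgroupOf_iff_le_normalizer le_sup_left).2 hle
  let f : A →* (U ⊔ A : Subgroup G) ⧸ U.subgroupOf (U ⊔ A) :=
    (QuotientGroup.mk' _).comp (inclusion le_sup_right)
  have hf : Function.Surjective f := by
    intro x
    obtain ⟨⟨g, hg⟩, rfl⟩ := QuotientGroup.mk'_surjective _ x
    have hg' : g ∈ A ⊔ U := by rwa [sup_comm]
    rw [← SetLike.mem_coe, coe_mul_of_left_le_normalizer_right A U hA] at hg'
    obtain ⟨a, ha, u, hu, rfl⟩ := hg'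
    refine ⟨⟨a, ha⟩, ?_⟩
    apply (QuotientGroup.eq (s := U.subgroupOf (U ⊔ A))).2
    show a⁻¹ * (a * u) ∈ U
    rwa [inv_mul_cancel_left]
  have hk : Nat.card f.ker = Nat.card (A ⊓ U : Subgroup G) := by
    rw [← Nat.card_congr (subgroupOfEquivOfLe (inf_le_left : A ⊓ U ≤ A)).toEquiv]
    refine congrArg (fun H : Subgroup A => Nat.card H) ?_
    ext a
    simp [f, mem_subgroupOf]
  have h1 := card_eq_card_quotient_mul_card_subgroup f.ker
  rw [hk, Nat.card_congr (QuotientGroup.quotientKerEquivOfSurjective f hf).toEquiv] at h1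
  have h2 := card_eq_card_quotient_mul_card_subgroup (U.subgroupOf (U ⊔ A))
  rw [Nat.card_congr (subgroupOfEquivOfLe (le_sup_left : U ≤ U ⊔ A)).toEquiv] at h2
  rw [h1, h2]
  ring

theorem Small.commute_two_false (hs : Small G) {x : G} (hx : orderOf x = 3 ∨ orderOf x = 5) {a : G}
    (ha : a * a = 1) (hc : Commute x a) : a = 1 := by
  by_contra ha1
  rcases hs.no_commute hc (by
    rw [CfsgLib.Invol.orderOf_eq_two ha ha1]
    rcases hx with e | e <;> rw [e] <;> norm_num) with e | e
  · rw [e, orderOf_one] at hx; omega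
  · exact ha1 e

/-- From an offender to a pair. -/
theorem pair_of_offender (hs : Small G) (hb : Below G) {U S A : Subgroup G} (hU : IsRad U) (hUS : U ≤ S)
    (hSN : S ≤ normalizer (U : Set G)) (hS : IsPGroup 2 S) (hA : IsMEA S A) (hAU : ¬ A ≤ U) :
    ∃ (T : Subgroup G) (q : ℕ), Pair T U A q := by
  classical
  set N := normalizer (U : Set G) with hN
  haveI hUn : (U.subgroupOf N).Normal := normal_in_normalizer
  have hR := hU.radical hs hb
  have hAN : A ≤ N := hA.1.trans hSN
  obtain ⟨q, hq⟩ := hR.offender (A.subgroupOf N)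
    (fun a ha => Subtype.ext (hA.2.1 a ha))
    (fun h => hAU fun a ha => mem_subgroupOf.1 (h (show (⟨a, hAN ha⟩ : N) ∈ A.subgroupOf N from ha)))
    (fun B hB hle => by
      rw [Nat.card_congr (B.equivMapOfInjective N.subtype N.subtype_injective).toEquiv,
        Nat.card_congr (subgroupOfEquivOfLe hAN).toEquiv]
      refine hA.2.2 _ ?_ ?_
      · refine (map_mono hle).trans ?_
        rw [Subgroup.map_sup, map_subgroupOf_eq_of_le le_normalizer, map_subgroupOf_eq_of_le hAN]
        exact sup_le hUS hA.1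
      · rintro _ ⟨b, hb, rfl⟩
        exact congrArg Subtype.val (hB b hb))
  have hq2 : 2 ≤ q := by rcases hq.q_eq with e | e <;> omega
  have hcardU : Nat.card U = q * q := by
    rw [← hq.card_U, Nat.card_congr (subgroupOfEquivOfLe le_normalizer).toEquiv]
  have hcardA : Nat.card A = q * q := by
    rw [← hq.card_A, Nat.card_congr (subgroupOfEquivOfLe hAN).toEquiv]
  have hcardI : Nat.card (A ⊓ U : Subgroup G) = q := by
    rw [← hq.card_inf, ← Nat.card_congr (subgroupOfEquivOfLe (inf_le_left.trans hAN : A ⊓ U ≤ N)).toEquiv]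
    rfl
  have hexpU : ∀ u ∈ U, u * u = 1 := fun u hu =>
    congrArg Subtype.val (hq.exp_U ⟨u, le_normalizer hu⟩ (mem_subgroupOf.2 hu))
  have hcent : ∀ a ∈ A, a ∉ U → ∀ u ∈ U, Commute a u → u ∈ A := fun a ha haU u hu hc => by
    have h := hq.cent ⟨a, hAN ha⟩ (mem_subgroupOf.2 ha) (fun h => haU (mem_subgroupOf.1 h))
    have hu' : (⟨u, le_normalizer hu⟩ : N) ∈ U.subgroupOf N ⊓ centralizer ({⟨a, hAN ha⟩} : Set N) :=
      ⟨mem_subgroupOf.2 hu, mem_centralizer_singleton_iff.2 (Subtype.ext hc.eq.symm)⟩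
    rw [h] at hu'
    exact mem_subgroupOf.1 hu'.1
  set T := U ⊔ A with hTdef
  have hT2 : IsPGroup 2 T := hS.to_le (sup_le hUS hA.1)
  have hTN : T ≤ N := sup_le le_normalizer hAN
  have hcardT : Nat.card T = q * q * q := by
    have h := card_sup_mul hAN
    rw [hcardU, hcardA, hcardI] at h
    exact Nat.eq_of_mul_eq_mul_right (show 0 < q by omega) (by rw [h]; ring)
  have hcardN : (q = 2 → Nat.card N = 24) ∧ (q = 4 → Nat.card N = 960) := hq.card_group
  have hTsylN : IsSyl N T := by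
    refine ⟨hTN, hT2, fun R hRN hR hle => (eq_of_le_of_card_ge hle ?_).symm⟩
    obtain ⟨n, hn⟩ := hR.exists_card_eq
    have hd : 2 ^ n ∣ Nat.card N := hn ▸ card_dvd_of_le hRN
    rw [hn, hcardT]
    rcases hq.q_eq with rfl | rfl
    · rw [hcardN.1 rfl] at hd
      have : n ≤ 3 := by
        by_contra hcon
        exact absurd ((Nat.pow_dvd_pow 2 (show 4 ≤ n by omega)).trans hd) (by norm_num)
      exact (Nat.pow_le_pow_right (by norm_num) this)
    · rw [hcardN.2 rfl] at hd
      have : n ≤ 6 := by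
        by_contra hcon
        exact absurd ((Nat.pow_dvd_pow 2 (show 7 ≤ n by omega)).trans hd) (by norm_num)
      exact (Nat.pow_le_pow_right (by norm_num) this).trans (by norm_num)
  have hcover : ∀ t ∈ T, t * t = 1 → t ∈ U ∨ t ∈ A := by
    intro t ht ht1
    have ht' : t ∈ (((A ⊔ U : Subgroup G)) : Set G) := by rw [sup_comm]; exact ht
    rw [coe_mul_of_left_le_normalizer_right A U hAN] at ht'
    obtain ⟨a, ha, u, hu, rfl⟩ := ht'
    by_cases haU : a ∈ U
    · exact Or.inl (mul_mem haU hu)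
    have hc : Commute a u := by
      show a * u = u * a
      calc a * u = (a * u)⁻¹ := eq_inv_of_mul_eq_one_left ht1
        _ = u * a := by rw [_root_.mul_inv_rev, inv_eq_of_mul_eq_one_right (hexpU u hu), inv_eq_of_mul_eq_one_right (hA.2.1 a ha)]
    exact Or.inr (mul_mem ha (hcent a ha haU u hu hc))
  have hswap : ∀ g ∈ normalizer (T : Set G), conjS g U = U ∨ conjS g U = A := by
    intro g hg
    have hle : conjS g U ≤ T := by
      rw [← conjS_eq_of_mem_normalizer hg]; exact conjS_mono le_sup_left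
    have hex : ∀ b ∈ conjS g U, b ∈ U ∨ b ∈ A := fun b hb => hcover b (hle hb) (by
      obtain ⟨u, hu, rfl⟩ := hb
      rw [← map_mul, hexpU u hu, map_one])
    rcases le_or_le_of_subset_union hex with e | e
    · exact Or.inl (eq_of_le_of_card_ge e (card_conjS g U).ge)
    · exact Or.inr (eq_of_le_of_card_ge e (by rw [card_conjS, hcardU, hcardA]))
  -- `T` is a Sylow subgroup of `G`
  have hTsyl : IsSyl ⊤ T := by
    refine ⟨le_top, hT2, fun R _ hR hle => ?_⟩
    by_contra hne
    have hlt := lt_inf_normalizer hR hle (Ne.symm hne)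
    obtain ⟨g₀, hg₀, hg₀T⟩ := SetLike.exists_of_lt hlt
    have hpow : ∀ y ∈ R, y * y * (y * y) = 1 := fun y hy => by
      obtain ⟨k, hk⟩ := hR ⟨y, hy⟩
      have := hs.pow_four (p := y) (k := k) (congrArg Subtype.val hk)
      rw [show y * y * (y * y) = y ^ 4 by simp [pow_succ, mul_assoc]]
      exact this
    obtain ⟨g, hgR, hgN, hgT, hgg⟩ : ∃ g ∈ R, g ∈ normalizer (T : Set G) ∧ g ∉ T ∧ g * g ∈ T := by
      by_cases h : g₀ * g₀ ∈ T
      · exact ⟨g₀, hg₀.1, hg₀.2, hg₀T, h⟩
      · exact ⟨g₀ * g₀, mul_mem hg₀.1 hg₀.1, mul_mem hg₀.2 hg₀.2, h, by rw [hpow g₀ hg₀.1]; exact one_mem T⟩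
    -- every swapping element squares into the intersection
    have hsq : ∀ h ∈ R, h ∈ normalizer (T : Set G) → h ∉ T → h * h ∈ T → h * h ∈ A ⊓ U ∧ conjS h U = A := by
      intro h hhR hhN hhT hhh
      have hUA : conjS h U = A := (hswap h hhN).resolve_left fun e => hhT (by
        have hh' : h ∈ N := mem_normalizer_of_conjS_eq e
        have hz : IsPGroup 2 (T ⊔ zpowers h : Subgroup G) := hR.to_le (sup_le hle (zpowers_le.2 hhR))
        rw [← hTsylN.2.2 _ (sup_le hTN (zpowers_le.2 hh')) hz le_sup_left]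
        exact mem_sup_right (mem_zpowers h))
      have hAU' : conjS h A = U := by
        rw [← hUA, conjS_mul]
        exact conjS_eq_of_mem_normalizer (hTN hhh)
      refine ⟨?_, hUA⟩
      have hconj : ∀ X : Subgroup G, h * h ∈ X → h * h ∈ conjS h X := fun X hX =>
        mem_conjS.2 (by simpa [mul_assoc] using hX)
      rcases hcover _ hhh (hpow h hhR) with e | e
      · exact ⟨hUA ▸ hconj U e, e⟩
      · exact ⟨e, hAU' ▸ hconj A e⟩
    obtain ⟨h1, hgUA⟩ := hsq g hgR hgN hgT hgg
    obtain ⟨v, hvU, hvA⟩ : ∃ v ∈ U, v ∉ A := SetLike.not_le_iff_exists.1 fun h =>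
      by
        have e : A ⊓ U = U := inf_eq_right.2 h
        have := hcardI
        rw [e, hcardU] at this
        nlinarith
    have hvT : v ∈ T := mem_sup_left hvU
    have hgv : g * v * (g * v) ∈ T := by
      rw [show g * v * (g * v) = g * g * (g⁻¹ * v * g) * v by group]
      refine mul_mem (mul_mem hgg ?_) hvT
      have := (mem_normalizer_iff.1 (inv_mem hgN) v).1 hvT
      rwa [inv_inv] at this
    obtain ⟨h2, -⟩ := hsq (g * v) (mul_mem hgR (hle hvT)) (mul_mem hgN (le_normalizer hvT))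
      (fun e => hgT ((Subgroup.mul_mem_cancel_right T hvT).1 e)) hgv
    have h3 : g⁻¹ * v * g * v ∈ A ⊓ U := by
      rw [show g⁻¹ * v * g * v = (g * g)⁻¹ * (g * v * (g * v)) by group]
      exact mul_mem (inv_mem h1) h2
    have h4 : g⁻¹ * v * g ∈ A := by
      have hgg' : conjS g⁻¹ U = A := by
        rw [← conjS_eq_of_mem_normalizer (show (g * g)⁻¹ ∈ normalizer (U : Set G) from inv_mem (hTN hgg))]
          at hgUA
        rw [← hgUA, conjS_mul, show g * (g * g)⁻¹ = g⁻¹ by group]
      rw [← hgg', mem_conjS]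
      simpa [mul_assoc] using hvU
    have h5 := mul_mem (inv_mem h4) h3.1
    rw [show (g⁻¹ * v * g)⁻¹ * (g⁻¹ * v * g * v) = v by group] at h5
    exact hvA h5
  -- conjugation
  have hTZ : ∀ z ∈ A ⊓ U, ∀ t ∈ T, Commute z t := by
    intro z hz t ht
    have hle : T ≤ centralizer ({z} : Set G) := sup_le
      (fun u hu => mem_centralizer_singleton_iff.2 (commute_of_exp_two hexpU hu hz.2).eq)
      (fun a ha => mem_centralizer_singleton_iff.2 (commute_of_exp_two hA.2.1 ha hz.1).eq)
    exact (mem_centralizer_singleton_iff.1 (hle ht)).symm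
  have hTI : ∀ l ∈ N, ∀ w ∈ A ⊓ U, w ≠ 1 → l * w * l⁻¹ ∈ A ⊓ U → l ∈ normalizer (T : Set G) := by
    intro l hl w hw hw1 hlw
    let C := centralizer ({l * w * l⁻¹} : Set G) ⊓ N
    have hC : IsPGroup 2 C := hs.isPGroup_of_centralizes Nat.prime_two (x := l * w * l⁻¹)
      (by rw [CfsgLib.Invol.orderOf_conj_eq]; exact CfsgLib.Invol.orderOf_eq_two (hexpU w hw.2) hw1)
      (fun y hy => (mem_centralizer_singleton_iff.1 hy.1).symm)
    have hTC : T ≤ C := le_inf (fun t ht => mem_centralizer_singleton_iff.2 (hTZ _ hlw t ht).eq.symm) hTN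
    have hTC' : conjS l T ≤ C := by
      rintro _ ⟨t, ht, rfl⟩
      refine ⟨mem_centralizer_singleton_iff.2 ?_, (show l * t * l⁻¹ ∈ N from mul_mem (mul_mem hl (hTN ht)) (inv_mem hl))⟩
      simp only [MulEquiv.coe_toMonoidHom, MulAut.conj_apply]
      calc l * t * l⁻¹ * (l * w * l⁻¹) = l * (t * w) * l⁻¹ := by group
        _ = l * (w * t) * l⁻¹ := by rw [(hTZ w hw t ht).eq]
        _ = _ := by group
    have hCT : C = T := hTsylN.2.2 C inf_le_right hC hTC
    rw [hCT] at hTC'
    exact mem_normalizer_of_conjS_eq (eq_of_le_of_card_ge hTC' (card_conjS l T).ge)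
  have hZinv : ∀ l ∈ N, l ∈ normalizer (T : Set G) → conjS l A = A ∧ conjS l (A ⊓ U) = A ⊓ U := by
    intro l hl hlT
    have hlA : conjS l A = A := by
      have hle : conjS l A ≤ T := by rw [← conjS_eq_of_mem_normalizer hlT]; exact conjS_mono le_sup_right
      rcases le_or_le_of_subset_union (fun b (hb : b ∈ conjS l A) => hcover b (hle hb) (by
        obtain ⟨u, hu, rfl⟩ := hb
        rw [← map_mul, hA.2.1 u hu, map_one])) with e | e
      · have : conjS l A = U := eq_of_le_of_card_ge e (by rw [card_conjS, hcardU, hcardA])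
        have h2 := congrArg (conjS l⁻¹) this
        rw [conjS_mul, inv_mul_cancel, conjS_one, conjS_eq_of_mem_normalizer (inv_mem hl)] at h2
        exact absurd h2.le hAU
      · exact eq_of_le_of_card_ge e (card_conjS l A).ge
    refine ⟨hlA, ?_⟩
    rw [conjS, map_inf _ _ _ (MulEquiv.injective _)]
    exact congrArg₂ (· ⊓ ·) hlA (conjS_eq_of_mem_normalizer hl)
  set K := (normalizer (T : Set G)).subgroupOf N with hK
  set n := K.index with hn
  have hn1 : n ≠ 1 := fun e => by
    rw [index_eq_one, subgroupOf_eq_top] at e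
    exact hAU (le_sup_right.trans ((le_twoCore hTN hT2 e).trans hU.2.2))
  have hTK : T.subgroupOf N ≤ K := fun x hx => mem_subgroupOf.2 (le_normalizer (mem_subgroupOf.1 hx))
  have hnK : n * (q * q * q) ∣ Nat.card N := by
    rw [← card_mul_index K, mul_comm]
    refine Nat.mul_dvd_mul_right ?_ _
    rw [← hcardT, ← Nat.card_congr (subgroupOfEquivOfLe hTN).toEquiv]
    exact card_dvd_of_le hTK
  let Z' := {z : G // z ∈ A ⊓ U ∧ z ≠ 1}
  have hZcard : Nat.card Z' = q - 1 := by
    rw [← hcardI]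
    have : {z : G | z ∈ A ⊓ U ∧ z ≠ 1} = ((A ⊓ U : Subgroup G) : Set G) \ {1} := by ext; simp
    show Nat.card ↑{z : G | z ∈ A ⊓ U ∧ z ≠ 1} = _
    rw [this, Nat.card_coe_set_eq, Set.ncard_sdiff_singleton_of_mem (one_mem (A ⊓ U)), ← Nat.card_coe_set_eq]
    rfl
  let U' := {u : G // u ∈ U ∧ u ≠ 1}
  have hUcard : Nat.card U' = q * q - 1 := by
    rw [← hcardU]
    have : {u : G | u ∈ U ∧ u ≠ 1} = (U : Set G) \ {1} := by ext; simp
    show Nat.card ↑{u : G | u ∈ U ∧ u ≠ 1} = _
    rw [this, Nat.card_coe_set_eq, Set.ncard_sdiff_singleton_of_mem (one_mem U), ← Nat.card_coe_set_eq]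
    rfl
  let f : (N ⧸ K) × Z' → U' := fun p => ⟨(p.1.out : G) * p.2.1 * (p.1.out : G)⁻¹, by
    constructor
    · exact (mem_normalizer_iff.1 p.1.out.2 _).1 p.2.2.1.2
    · rw [Ne, conj_eq_one_iff]; exact p.2.2.2⟩
  have hf : Function.Injective f := by
    rintro ⟨c, z⟩ ⟨c', z'⟩ h
    have e : (c.out : G) * z.1 * (c.out : G)⁻¹ = (c'.out : G) * z'.1 * (c'.out : G)⁻¹ := congrArg Subtype.val h
    have e' : ((c'.out⁻¹ * c.out : N) : G) * z.1 * ((c'.out⁻¹ * c.out : N) : G)⁻¹ = z'.1 := by
      simp only [Subgroup.coe_mul, Subgroup.coe_inv]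
      calc (c'.out : G)⁻¹ * c.out * z.1 * ((c'.out : G)⁻¹ * c.out)⁻¹
          = (c'.out : G)⁻¹ * ((c.out : G) * z.1 * (c.out : G)⁻¹) * c'.out := by group
        _ = _ := by rw [e]; group
    have hmem := hTI _ (c'.out⁻¹ * c.out).2 z.1 z.2.1 z.2.2 (by rw [e']; exact z'.2.1)
    have hc : c' = c := by
      rw [← c.out_eq, ← c'.out_eq, QuotientGroup.eq]
      exact mem_subgroupOf.2 hmem
    subst hc
    simp only [inv_mul_cancel, Subgroup.coe_one, one_mul, inv_one, mul_one] at e'
    rw [Prod.mk.injEq]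
    exact ⟨rfl, Subtype.ext e'⟩
  have hle := Nat.card_le_card_of_injective f hf
  rw [Nat.card_prod, hZcard, hUcard, ← index_eq_card] at hle
  change n * (q - 1) ≤ q * q - 1 at hle
  have hval : (q = 2 ∧ n = 3) ∨ (q = 4 ∧ n = 5) := by
    rcases hq.q_eq with rfl | rfl
    · refine Or.inl ⟨rfl, ?_⟩
      rw [hcardN.1 rfl] at hnK
      have : n ∣ 3 := by
        have h := hnK
        norm_num at h
        exact Nat.dvd_of_mul_dvd_mul_right (show 0 < 8 by norm_num) (show n * 8 ∣ 3 * 8 by simpa using h)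
      exact ((Nat.dvd_prime Nat.prime_three).1 this).resolve_left hn1
    · refine Or.inr ⟨rfl, ?_⟩
      rw [hcardN.2 rfl] at hnK
      have h15 : n ∣ 15 := by
        have h := hnK
        norm_num at h
        exact Nat.dvd_of_mul_dvd_mul_right (show 0 < 64 by norm_num) (show n * 64 ∣ 15 * 64 by simpa using h)
      have hn5 : n ≤ 5 := by omega
      have hn0 : n ≠ 0 := index_ne_zero_of_finite
      have h35 : n = 3 ∨ n = 5 := by
        interval_cases n <;> first | omega | exact absurd h15 (by decide)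
      refine h35.resolve_left fun e3 => ?_
      haveI hsimp := hq.simple rfl
      have hcardq : Nat.card (N ⧸ U.subgroupOf N) = 60 := by
        have h := card_eq_card_quotient_mul_card_subgroup (U.subgroupOf N)
        rw [hcardN.2 rfl, hq.card_U] at h
        omega
      have hUK : U.subgroupOf N ≤ K := fun x hx => hTK (mem_subgroupOf.2 (mem_sup_left (mem_subgroupOf.1 hx)))
      let Kb := K.map (QuotientGroup.mk' (U.subgroupOf N))
      have hKb : Kb.index = 3 := by
        rw [index_map, QuotientGroup.ker_mk', sup_eq_left.2 hUK, MonoidHom.range_eq_top.2 (QuotientGroup.mk'_surjective _),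
          index_top, mul_one, ← hn, e3]
      rcases hsimp.eq_bot_or_eq_top_of_normal Kb.normalCore inferInstance with hc | hc
      · have hinj : Function.Injective (MulAction.toPermHom (N ⧸ U.subgroupOf N) ((N ⧸ U.subgroupOf N) ⧸ Kb)) := by
          rw [← MonoidHom.ker_eq_bot_iff, ← normalCore_eq_ker]
          exact hc
        have := card_dvd_of_injective _ hinj
        rw [hcardq, Nat.card_perm, ← index_eq_card, hKb] at this
        norm_num [Nat.factorial] at this
      · have : Kb = ⊤ := top_le_iff.1 (hc ▸ normalCore_le Kb)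
        rw [this, index_top] at hKb
        norm_num at hKb
  have hbij : Function.Bijective f := (Nat.bijective_iff_injective_and_card f).2 ⟨hf, by
    rw [Nat.card_prod, hZcard, hUcard, ← index_eq_card]
    show n * (q - 1) = q * q - 1
    rcases hval with ⟨rfl, e⟩ | ⟨rfl, e⟩ <;> rw [e]⟩
  -- transitivity on the intersection and on the other subgroup
  have hx : q = 4 → ∃ x : G, orderOf x = 3 ∧ x ∈ N ∧ x ∈ normalizer (T : Set G) := by
    intro hq4
    have hnv : n = 5 := by
      rcases hval with ⟨e, -⟩ | ⟨-, e⟩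
      · omega
      · exact e
    have hKc : Nat.card K * 5 = 960 := by rw [← hnv, hn, card_mul_index K, hcardN.2 hq4]
    obtain ⟨x, hx⟩ := exists_prime_orderOf_dvd_card' (G := K) 3 (by omega)
    exact ⟨((x : N) : G), by rw [Subgroup.orderOf_coe, Subgroup.orderOf_coe, hx], (x : N).2, x.2⟩
  have hcube : ∀ x : G, orderOf x = 3 → ∀ w : G, x * (x * (x * w * x⁻¹) * x⁻¹) * x⁻¹ = w := fun x hx w => by
    have e : x ^ 3 = 1 := by rw [← hx]; exact pow_orderOf_eq_one x
    rw [show x * (x * (x * w * x⁻¹) * x⁻¹) * x⁻¹ = x ^ 3 * w * (x ^ 3)⁻¹ by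
      rw [pow_succ, pow_two]; group, e]
    simp
  have hconjZ : ∀ z ∈ A ⊓ U, z ≠ 1 → ∀ z' ∈ A ⊓ U, z' ≠ 1 → IsConj z z' := by
    intro z hz hz1 z' hz' hz1'
    rcases hq.q_eq with hq2' | hq4
    · have hc : Nat.card Z' = 1 := by rw [hZcard, hq2']
      haveI := (Nat.card_eq_one_iff_unique.1 hc).1
      have e : (⟨z, hz, hz1⟩ : Z') = ⟨z', hz', hz1'⟩ := Subsingleton.elim _ _
      have e' : z = z' := congrArg Subtype.val e
      rw [e']
    · obtain ⟨x, hx3, hxN, hxT⟩ := hx hq4
      have hZx : ∀ w ∈ A ⊓ U, x * w * x⁻¹ ∈ A ⊓ U := fun w hw => by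
        have h2 := (hZinv x hxN hxT).2
        rw [← h2]
        exact ⟨w, hw, by simp⟩
      let g : Fin 3 → Z' := fun i => ⟨x ^ (i : ℕ) * z * (x ^ (i : ℕ))⁻¹, by
        refine ⟨?_, by rw [Ne, conj_eq_one_iff]; exact hz1⟩
        obtain ⟨i, hi⟩ := i
        induction i with
        | zero => simpa using hz
        | succ i ih =>
          have := hZx _ (ih (by omega))
          simpa [pow_succ', mul_assoc] using this⟩
      have key : ∀ i j : Fin 3, (i : ℕ) < j → g i ≠ g j := by
        intro i j hij e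
        have e' : x ^ (i : ℕ) * z * (x ^ (i : ℕ))⁻¹ = x ^ (j : ℕ) * z * (x ^ (j : ℕ))⁻¹ := congrArg Subtype.val e
        set d := (j : ℕ) - i with hd
        have hji : (j : ℕ) = i + d := by omega
        have hc : Commute (x ^ d) z := by
          rw [hji, pow_add] at e'
          show x ^ d * z = z * x ^ d
          calc x ^ d * z = (x ^ (i : ℕ))⁻¹ * (x ^ (i : ℕ) * x ^ d * z * (x ^ (i : ℕ) * x ^ d)⁻¹) * x ^ (i : ℕ) * x ^ d := by group
            _ = (x ^ (i : ℕ))⁻¹ * (x ^ (i : ℕ) * z * (x ^ (i : ℕ))⁻¹) * x ^ (i : ℕ) * x ^ d := by rw [e']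
            _ = z * x ^ d := by group
        refine hz1 (hs.commute_two_false (x := x ^ d) (Or.inl ?_) (hexpU z hz.2) hc)
        rw [Nat.Coprime.orderOf_pow (by
          rw [hx3]
          have : d = 1 ∨ d = 2 := by omega
          rcases this with e | e <;> rw [e] <;> norm_num), hx3]
      have hg : Function.Injective g := by
        intro i j e
        rcases Nat.lt_trichotomy (i : ℕ) j with h | h | h
        · exact absurd e (key i j h)
        · exact Fin.ext h
        · exact absurd e.symm (key j i h)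
      have hb := (Nat.bijective_iff_injective_and_card g).2 ⟨hg, by rw [hZcard, hq4]; simp⟩
      obtain ⟨i, hi⟩ := hb.2 ⟨z', hz', hz1'⟩
      exact isConj_iff.2 ⟨x ^ (i : ℕ), congrArg Subtype.val hi⟩
  refine ⟨T, q, hq.q_eq, hTsyl, hcardT, le_sup_left, le_sup_right, hexpU, hA.2.1, hcardU, hcardA, hcardI,
    hcover, hcent, ?_, ?_, rfl, hAN, hcardN⟩
  · intro u hu hu1 z hz hz1
    obtain ⟨⟨c, z₀⟩, hp⟩ := hbij.2 ⟨u, hu, hu1⟩
    have e : (c.out : G) * z₀.1 * (c.out : G)⁻¹ = u := congrArg Subtype.val hp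
    exact (isConj_iff.2 ⟨_, e⟩ : IsConj z₀.1 u).symm.trans (hconjZ _ z₀.2.1 z₀.2.2 z hz hz1)
  · -- the coset of the intersection
    have hAU2 : ∀ u ∈ U, ∀ a ∈ A, u * a * u⁻¹ ∈ A := by
      intro u hu a ha
      have hl : u ∈ normalizer (T : Set G) := le_normalizer (mem_sup_left hu)
      rw [← (hZinv u (le_normalizer hu) hl).1]
      exact ⟨a, ha, by simp⟩
    have hcoset : ∀ a ∈ A, a ∉ U → ∀ z ∈ A ⊓ U, IsConj a (a * z) := by
      intro a ha haU z hz
      let φ : U → (A ⊓ U : Subgroup G) := fun u => ⟨a⁻¹ * ((u : G) * a * (u : G)⁻¹), (show _ ∈ A from mul_mem (A.inv_mem ha) (hAU2 u u.2 a ha)), (show a⁻¹ * ((u : G) * a * (u : G)⁻¹) ∈ U by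
        rw [show a⁻¹ * ((u : G) * a * (u : G)⁻¹) = (a⁻¹ * u * (a⁻¹)⁻¹) * (u : G)⁻¹ by group]
        exact mul_mem ((mem_normalizer_iff.1 (inv_mem (hAN ha)) u).1 u.2) (inv_mem u.2))⟩
      have hfib : ∀ u v : U, φ u = φ v → (v : G)⁻¹ * u ∈ A := by
        intro u v e
        have e' : (u : G) * a * (u : G)⁻¹ = (v : G) * a * (v : G)⁻¹ := mul_left_cancel (congrArg Subtype.val e)
        refine hcent a ha haU _ (mul_mem (inv_mem v.2) u.2) ?_
        show a * ((v : G)⁻¹ * u) = (v : G)⁻¹ * u * a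
        calc a * ((v : G)⁻¹ * u) = (v : G)⁻¹ * ((v : G) * a * (v : G)⁻¹) * u := by group
          _ = (v : G)⁻¹ * ((u : G) * a * (u : G)⁻¹) * u := by rw [e']
          _ = _ := by group
      suffices hsur : Function.Surjective φ by
        obtain ⟨u, hu⟩ := hsur ⟨z, hz⟩
        refine isConj_iff.2 ⟨u, ?_⟩
        have he : a⁻¹ * ((u : G) * a * (u : G)⁻¹) = z := congrArg Subtype.val hu
        rw [← he]
        group
      by_contra hns
      obtain ⟨w, hw⟩ := not_forall.1 hns
      push Not at hw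
      have h1 : Nat.card (U ⧸ (A ⊓ U).subgroupOf U) ≤ Nat.card {y : (A ⊓ U : Subgroup G) // y ≠ w} := by
        refine Nat.card_le_card_of_injective (fun c => ⟨φ c.out, hw c.out⟩) ?_
        intro c c' e
        have hm := hfib c.out c'.out (congrArg Subtype.val e)
        rw [← c.out_eq, ← c'.out_eq, eq_comm, QuotientGroup.eq]
        exact mem_subgroupOf.2 ⟨hm, (show _ ∈ U from mul_mem (U.inv_mem c'.out.2) c.out.2)⟩
      have h2 : Nat.card {y : (A ⊓ U : Subgroup G) // y ≠ w} = q - 1 := by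
        have : {y : (A ⊓ U : Subgroup G) | y ≠ w} = Set.univ \ {w} := by ext; simp
        show Nat.card ↑{y : (A ⊓ U : Subgroup G) | y ≠ w} = _
        rw [this, Nat.card_coe_set_eq, Set.ncard_sdiff_singleton_of_mem (Set.mem_univ w), Set.ncard_univ, hcardI]
      have h3 := card_eq_card_quotient_mul_card_subgroup ((A ⊓ U).subgroupOf U)
      rw [Nat.card_congr (subgroupOfEquivOfLe (inf_le_right : A ⊓ U ≤ U)).toEquiv, hcardI, hcardU] at h3
      have h4 : q = Nat.card (U ⧸ (A ⊓ U).subgroupOf U) := Nat.eq_of_mul_eq_mul_right (show 0 < q by omega) h3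
      omega
    intro a ha haU b hb hbU
    by_cases hab : a⁻¹ * b ∈ U
    · have := hcoset a ha haU (a⁻¹ * b) ⟨(show _ ∈ A from mul_mem (A.inv_mem ha) hb), hab⟩
      rwa [mul_inv_cancel_left] at this
    rcases hq.q_eq with hq2' | hq4
    · exfalso
      have hidx : ((A ⊓ U).subgroupOf A).index = 2 := by
        have h := card_mul_index ((A ⊓ U).subgroupOf A)
        rw [Nat.card_congr (subgroupOfEquivOfLe (inf_le_left : A ⊓ U ≤ A)).toEquiv, hcardI, hcardA, hq2'] at h
        omega
      have := (mul_mem_iff_of_index_two hidx (a := (⟨a⁻¹, inv_mem ha⟩ : A)) (b := (⟨b, hb⟩ : A))).2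
        (iff_of_false (fun h => haU (by simpa using U.inv_mem h.2)) (fun h => hbU h.2))
      exact hab this.2
    · obtain ⟨x, hx3, hxN, hxT⟩ := hx hq4
      obtain ⟨hxA, hxZ⟩ := hZinv x hxN hxT
      set a₁ := x * a * x⁻¹ with ha₁
      set a₂ := x * a₁ * x⁻¹ with ha₂
      have ha₁A : a₁ ∈ A := hxA ▸ ⟨a, ha, by simp [ha₁]⟩
      have ha₂A : a₂ ∈ A := hxA ▸ ⟨a₁, ha₁A, by simp [ha₂]⟩
      have hU' : ∀ w, x * w * x⁻¹ ∈ U ↔ w ∈ U := fun w => (mem_normalizer_iff.1 hxN w).symm
      have ha₁U : a₁ ∉ U := fun h => haU ((hU' a).1 h)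
      have ha₂U : a₂ ∉ U := fun h => ha₁U ((hU' a₁).1 h)
      -- no coset is fixed
      have hfix : ∀ c ∈ A, c ∉ U → c⁻¹ * (x * c * x⁻¹) ∉ U := by
        intro c hc hcU hmem
        let Z := A ⊓ U
        have hZn : ∀ w ∈ Z, x * w * x⁻¹ ∈ Z := fun w hw => hxZ.le ⟨w, hw, by simp⟩
        let ψ : Z → Z := fun w => ⟨(w : G)⁻¹ * (x * w * x⁻¹), mul_mem (inv_mem w.2) (hZn w w.2)⟩
        have hψ : Function.Injective ψ := by
          intro v w e
          have e' : (v : G)⁻¹ * (x * v * x⁻¹) = (w : G)⁻¹ * (x * w * x⁻¹) := congrArg Subtype.val e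
          have hvw := commute_of_exp_two hexpU (mul_mem v.2.2 (inv_mem w.2.2)) v.2.2
          have e2 : x * ((v : G) * (w : G)⁻¹) * x⁻¹ = (v : G) * (w : G)⁻¹ := by
            calc x * ((v : G) * (w : G)⁻¹) * x⁻¹ = (v : G) * ((v : G)⁻¹ * (x * v * x⁻¹)) * (x * w * x⁻¹)⁻¹ := by group
              _ = (v : G) * ((w : G)⁻¹ * (x * w * x⁻¹)) * (x * w * x⁻¹)⁻¹ := by rw [e']
              _ = _ := by group
          exact Subtype.ext (mul_inv_eq_one.1 (hs.commute_two_false (x := x) (Or.inl hx3)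
            (hexpU _ (mul_mem v.2.2 (inv_mem w.2.2))) (mul_inv_eq_iff_eq_mul.1 e2)))
        have hcm : c⁻¹ * (x * c * x⁻¹) ∈ Z := ⟨mul_mem (A.inv_mem hc) (hxA ▸ ⟨c, hc, by simp⟩), hmem⟩
        obtain ⟨w, hw⟩ := (Finite.injective_iff_surjective.1 hψ) ⟨_, inv_mem hcm⟩
        have hw' : (w : G)⁻¹ * (x * w * x⁻¹) = (c⁻¹ * (x * c * x⁻¹))⁻¹ := congrArg Subtype.val hw
        have hcw : Commute x (c * w) := by
          have hx' : x * w * x⁻¹ = w * (c⁻¹ * (x * c * x⁻¹))⁻¹ := by rw [← hw']; group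
          have : x * (c * w) * x⁻¹ = c * w := by
            calc x * (c * w) * x⁻¹ = (x * c * x⁻¹) * (x * w * x⁻¹) := by group
              _ = (x * c * x⁻¹) * (w * (c⁻¹ * (x * c * x⁻¹))⁻¹) := by rw [hx']
              _ = (x * c * x⁻¹) * ((c⁻¹ * (x * c * x⁻¹))⁻¹ * w) := by
                rw [(commute_of_exp_two hA.2.1 w.2.1 (inv_mem hcm.1)).eq]
              _ = c * w := by group
          exact mul_inv_eq_iff_eq_mul.1 this
        have h1 := hs.commute_two_false (x := x) (Or.inl hx3) (hA.2.1 _ (mul_mem hc w.2.1)) hcw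
        exact hcU (by rw [eq_inv_of_mul_eq_one_left h1]; exact inv_mem w.2.2)
      have h01 := hfix a ha haU
      have h12 := hfix a₁ ha₁A ha₁U
      have h20 := hfix a₂ ha₂A ha₂U
      have hx3' : x * a₂ * x⁻¹ = a := by rw [ha₂, ha₁]; exact hcube x hx3 a
      rw [← ha₁] at h01
      rw [← ha₂] at h12
      rw [hx3'] at h20
      set Zs := (A ⊓ U).subgroupOf A with hZs
      clear_value a₁ a₂
      have hbij4 : Function.Bijective (fun i : Fin 4 => (QuotientGroup.mk
          (![(1 : A), ⟨a, ha⟩, ⟨a₁, ha₁A⟩, ⟨a₂, ha₂A⟩] i) : A ⧸ Zs)) := by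
        rw [Nat.bijective_iff_injective_and_card]
        constructor
        · have hz : ∀ p r : A, (QuotientGroup.mk p : A ⧸ Zs) = QuotientGroup.mk r → (p : G)⁻¹ * r ∈ U :=
            fun p r e => (mem_subgroupOf.1 (QuotientGroup.eq.1 e)).2
          have hsymm : ∀ {p r : G}, p⁻¹ * r ∈ U → r⁻¹ * p ∈ U := fun h => by simpa using inv_mem h
          have hlt : ∀ i j : Fin 4, i < j →
              ((![(1 : A), ⟨a, ha⟩, ⟨a₁, ha₁A⟩, ⟨a₂, ha₂A⟩] i : A) : G)⁻¹ *
                ((![(1 : A), ⟨a, ha⟩, ⟨a₁, ha₁A⟩, ⟨a₂, ha₂A⟩] j : A) : G) ∉ U := by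
            intro i j hij
            fin_cases i <;> fin_cases j <;>
              first
                | exact absurd hij (by decide)
                | (show (1 : G)⁻¹ * a ∉ U; rw [inv_one, one_mul]; exact haU)
                | (show (1 : G)⁻¹ * a₁ ∉ U; rw [inv_one, one_mul]; exact ha₁U)
                | (show (1 : G)⁻¹ * a₂ ∉ U; rw [inv_one, one_mul]; exact ha₂U)
                | exact h01
                | exact h12
                | exact fun h => h20 (hsymm h)
          intro i j e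
          rcases lt_trichotomy i j with h | h | h
          · exact absurd (hz _ _ e) (hlt i j h)
          · exact h
          · exact absurd (hz _ _ e.symm) (hlt j i h)
        · have h := card_eq_card_quotient_mul_card_subgroup Zs
          have h' : Nat.card Zs = q := by
            rw [hZs, Nat.card_congr (subgroupOfEquivOfLe (inf_le_left : A ⊓ U ≤ A)).toEquiv, hcardI]
          rw [h', hcardA, hq4] at h
          simp only [Nat.card_eq_fintype_card, Fintype.card_fin]
          omega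
      obtain ⟨i, hi⟩ := hbij4.2 (QuotientGroup.mk ⟨b, hb⟩)
      have hib : ((![(1 : A), ⟨a, ha⟩, ⟨a₁, ha₁A⟩, ⟨a₂, ha₂A⟩] i : A) : G)⁻¹ * b ∈ A ⊓ U :=
        mem_subgroupOf.1 (QuotientGroup.eq.1 hi)
      have c1 : IsConj a a₁ := isConj_iff.2 ⟨x, ha₁.symm⟩
      have c2 : IsConj a a₂ := c1.trans (isConj_iff.2 ⟨x, ha₂.symm⟩)
      fin_cases i
      · exact absurd (by simpa using hib.2) hbU
      · have := hcoset a ha haU _ (by simpa using hib)
        rwa [mul_inv_cancel_left] at this
      · have := hcoset a₁ ha₁A ha₁U _ (by simpa using hib)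
        rw [mul_inv_cancel_left] at this
        exact c1.trans this
      · have := hcoset a₂ ha₂A ha₂U _ (by simpa using hib)
        rw [mul_inv_cancel_left] at this
        exact c2.trans this

end CfsgLib.SpecFive
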