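import Cfsg.Agent.SpecFive.Simple

/-!
Simple groups with element orders at most five having an offender.
-/

set_option autoImplicit false
set_option linter.unusedSectionVars false
set_option linter.unusedFintypeInType false

namespace CfsgLib.SpecFive

open Subgroup

variable {G : Type*} [Group G] [Finite G] {T U A : Subgroup G} {q : ℕ}

theorem Pair.two_le (h : Pair T U A q) : 2 ≤ q := by rcases h.q_eq with e | e <;> omega

theorem Pair.not_le (h : Pair T U A q) : ¬ A ≤ U := fun e => by
  have := h.card_inf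
  rw [inf_eq_left.2 e, h.card_A] at this
  have := h.two_le
  nlinarith

theorem Pair.decompose (h : Pair T U A q) {t : G} (ht : t ∈ T) : ∃ a ∈ A, ∃ u ∈ U, t = a * u := by
  rw [← h.sup_eq, sup_comm, ← SetLike.mem_coe, coe_mul_of_left_le_normalizer_right A U h.A_norm] at ht
  obtain ⟨a, ha, u, hu, rfl⟩ := ht
  exact ⟨a, ha, u, hu, rfl⟩

theorem Pair.T_norm (h : Pair T U A q) : T ≤ normalizer (U : Set G) :=
  h.sup_eq ▸ sup_le le_normalizer h.A_norm

theorem Pair.conj_A_mem (h : Pair T U A q) {t : G} (ht : t ∈ T) {a : G} (ha : a ∈ A) : t * a * t⁻¹ ∈ A := by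
  have hle : conjS t A ≤ T := by
    rw [← conjS_eq_of_mem_normalizer (le_normalizer ht : t ∈ normalizer (T : Set G))]
    exact conjS_mono h.A_le
  have hcov : ∀ b ∈ conjS t A, b ∈ U ∨ b ∈ A := fun b hb => h.cover b (hle hb) (by
    obtain ⟨c, hc, rfl⟩ := hb
    rw [← map_mul, h.exp_A c hc, map_one])
  rcases le_or_le_of_subset_union hcov with e | e
  · exfalso
    have e' := conjS_mono (g := t⁻¹) e
    rw [conjS_mul, inv_mul_cancel, conjS_one, conjS_eq_of_mem_normalizer (inv_mem (h.T_norm ht))] at e'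
    exact h.not_le e'
  · exact e ⟨a, ha, by simp⟩

theorem Pair.sq_mem (h : Pair T U A q) {t : G} (ht : t ∈ T) : t * t ∈ A ⊓ U := by
  obtain ⟨a, ha, u, hu, rfl⟩ := h.decompose ht
  have e1 : a * u * a⁻¹ ∈ U := (mem_normalizer_iff.1 (h.A_norm ha) u).1 hu
  have e2 : u * a * u⁻¹ ∈ A := h.conj_A_mem (h.U_le hu) ha
  have ha' : a⁻¹ = a := inv_eq_of_mul_eq_one_right (h.exp_A a ha)
  have hu' : u⁻¹ = u := inv_eq_of_mul_eq_one_right (h.exp_U u hu)
  refine ⟨?_, ?_⟩
  · rw [show a * u * (a * u) = a * (u * a * u) by group]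
    exact mul_mem ha (by rwa [hu'] at e2)
  · rw [show a * u * (a * u) = (a * u * a) * u by group]
    exact mul_mem (by rwa [ha'] at e1) hu

theorem Pair.centralizer_Z (hs : Small G) (h : Pair T U A q) {z : G} (hz : z ∈ A ⊓ U) (hz1 : z ≠ 1) :
    centralizer ({z} : Set G) = T := by
  refine h.syl.2.2 _ le_top (hs.isPGroup_of_centralizes Nat.prime_two
    (CfsgLib.Invol.orderOf_eq_two (h.exp_U z hz.2) hz1) fun y hy => (mem_centralizer_singleton_iff.1 hy).symm) ?_
  rw [← h.sup_eq]
  exact sup_le (fun u hu => mem_centralizer_singleton_iff.2 (commute_of_exp_two h.exp_U hu hz.2).eq)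
    (fun a ha => mem_centralizer_singleton_iff.2 (commute_of_exp_two h.exp_A ha hz.1).eq)

theorem Pair.mem_A_of_commute (h : Pair T U A q) {a t : G} (ha : a ∈ A) (haU : a ∉ U) (ht : t ∈ T)
    (hc : Commute a t) : t ∈ A := by
  obtain ⟨b, hb, u, hu, rfl⟩ := h.decompose ht
  refine mul_mem hb (h.cent a ha haU u hu ?_)
  have hab : Commute a b := commute_of_exp_two h.exp_A ha hb
  have : Commute a (b⁻¹ * (b * u)) := hab.inv_right.mul_right hc
  rwa [inv_mul_cancel_left] at this

theorem Pair.exists_z (h : Pair T U A q) : ∃ z ∈ A ⊓ U, z ≠ 1 := by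
  by_contra hcon
  push Not at hcon
  have : A ⊓ U = ⊥ := eq_bot_iff.2 fun z hz => mem_bot.2 (hcon z hz)
  have h' := h.card_inf
  rw [this, Subgroup.card_bot] at h'
  have := h.two_le
  omega

theorem Pair.exists_mem_T (h : Pair T U A q) {y : G} (hy : orderOf y = 2) :
    ∃ g : G, g * y * g⁻¹ ∈ T := by
  obtain ⟨S, hS, hyS⟩ := exists_isSyl (L := ⊤) (R := zpowers y) le_top
    (IsPGroup.of_card (n := 1) (by rw [Nat.card_zpowers, hy, pow_one]))
  obtain ⟨g, -, rfl⟩ := h.syl.conj hS
  refine ⟨g⁻¹, ?_⟩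
  have := mem_conjS.1 (hyS (mem_zpowers y))
  simpa using this

/-- All involutions are conjugate, or `U` is normal. -/
theorem Pair.one_class [IsSimpleGroup G] (hs : Small G) (h : Pair T U A q) {z : G} (hz : z ∈ A ⊓ U) (hz1 : z ≠ 1)
    (y : G) (hy : orderOf y = 2) : IsConj z y := by
  classical
  haveI : Fintype G := Fintype.ofFinite G
  have hq2 := h.two_le
  obtain ⟨w, hw, hwU⟩ := SetLike.not_le_iff_exists.1 h.not_le
  have hmem : ∀ t ∈ T, orderOf t = 2 → IsConj z t ∨ IsConj w t := by
    intro t ht ht2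
    have ht1 : t ≠ 1 := CfsgLib.Invol.ne_one ht2
    rcases h.cover t ht (CfsgLib.Invol.mul_self_eq_one ht2) with e | e
    · exact Or.inl (h.conj_U t e ht1 z hz hz1).symm
    · by_cases htU : t ∈ U
      · exact Or.inl (h.conj_U t htU ht1 z hz hz1).symm
      · exact Or.inr (h.conj_A w hw hwU t e htU)
  suffices hzw : IsConj z w by
    obtain ⟨g, hg⟩ := h.exists_mem_T hy
    have hgy : IsConj (g * y * g⁻¹) y := (isConj_iff.2 ⟨g, rfl⟩ : IsConj y (g * y * g⁻¹)).symm
    rcases hmem _ hg (by rw [CfsgLib.Invol.orderOf_conj_eq]; exact hy) with e | e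
    · exact e.trans hgy
    · exact (hzw.trans e).trans hgy
  by_contra hzw
  have hw1 : w ≠ 1 := fun e => hwU (e ▸ one_mem U)
  have hw2 : orderOf w = 2 := CfsgLib.Invol.orderOf_eq_two (h.exp_A w hw) hw1
  have hz2 : orderOf z = 2 := CfsgLib.Invol.orderOf_eq_two (h.exp_U z hz.2) hz1
  have hno : ∀ t, IsConj z t → ¬ IsConj w t := fun t h1 h2 => hzw (h1.trans h2.symm)
  have hinU : ∀ s ∈ T, IsConj z s → s ∈ U := by
    intro s hs' hc
    have hs2 : orderOf s = 2 := by
      obtain ⟨g, rfl⟩ := isConj_iff.1 hc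
      rw [CfsgLib.Invol.orderOf_conj_eq, hz2]
    by_contra hsU
    exact hno s hc (h.conj_A w hw hwU s ((h.cover s hs' (CfsgLib.Invol.mul_self_eq_one hs2)).resolve_left hsU) hsU)
  have hinA : ∀ r ∈ T, IsConj w r → r ∈ A ∧ r ∉ U := by
    intro r hr hc
    have hr2 : orderOf r = 2 := by
      obtain ⟨g, rfl⟩ := isConj_iff.1 hc
      rw [CfsgLib.Invol.orderOf_conj_eq, hw2]
    have hrU : r ∉ U := fun e => hno r (h.conj_U r e (CfsgLib.Invol.ne_one hr2) z hz hz1).symm hc
    exact ⟨(h.cover r hr (CfsgLib.Invol.mul_self_eq_one hr2)).resolve_left hrU, hrU⟩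
  -- the centraliser of `w`
  have hCw : centralizer ({w} : Set G) = A := by
    set C := centralizer ({w} : Set G) with hC
    have hC2 : IsPGroup 2 C := hs.isPGroup_of_centralizes Nat.prime_two hw2
      fun y hy => (mem_centralizer_singleton_iff.1 hy).symm
    have hAC : A ≤ C := fun a ha => mem_centralizer_singleton_iff.2 (commute_of_exp_two h.exp_A ha hw).eq
    obtain ⟨S, hS, hCS⟩ := exists_isSyl (L := ⊤) le_top hC2
    obtain ⟨g, -, rfl⟩ := h.syl.conj hS
    refine (eq_of_le_of_card_ge hAC ?_).symm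
    set w' := g⁻¹ * w * g with hw'
    have hw'T : w' ∈ T := mem_conjS.1 (hCS (hAC hw))
    have hcw : IsConj w w' := isConj_iff.2 ⟨g⁻¹, by simp [hw']⟩
    obtain ⟨hA', hU'⟩ := hinA w' hw'T hcw
    have hle : conjS g⁻¹ C ≤ A := by
      rintro _ ⟨c, hc, rfl⟩
      refine h.mem_A_of_commute hA' hU' ?_ ?_
      · have := mem_conjS.1 (hCS hc)
        simpa [mul_assoc] using this
      · have hcc : c * w = w * c := mem_centralizer_singleton_iff.1 hc
        show w' * (MulAut.conj g⁻¹ c) = MulAut.conj g⁻¹ c * w'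
        simp only [hw', MulAut.conj_apply, inv_inv]
        calc g⁻¹ * w * g * (g⁻¹ * c * g) = g⁻¹ * (w * c) * g := by group
          _ = g⁻¹ * (c * w) * g := by rw [hcc]
          _ = _ := by group
    exact (card_conjS g⁻¹ C).ge.trans (card_le_of_le hle)
  -- the pairs
  set Xs := (Finset.univ : Finset G).filter (fun s => IsConj z s) with hXs
  set Ys := (Finset.univ : Finset G).filter (fun s => IsConj w s) with hYs
  have hXc : Xs.card * (q * q * q) = Nat.card G := by
    have := card_class_mul z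
    rwa [h.centralizer_Z hs hz hz1, h.card_T, Nat.card_eq_fintype_card (α := {y : G // IsConj z y}),
      Fintype.card_subtype] at this
  have hYc : Ys.card * (q * q) = Nat.card G := by
    have := card_class_mul w
    rwa [hCw, h.card_A, Nat.card_eq_fintype_card (α := {y : G // IsConj w y}), Fintype.card_subtype] at this
  let κ : G × G → G := fun p => if orderOf (p.1 * p.2) = 4 then p.1 * p.2 * (p.1 * p.2) else p.1 * p.2
  have hκ : ∀ p ∈ Xs ×ˢ Ys, orderOf p.1 = 2 ∧ orderOf p.2 = 2 ∧ Pw (κ p) (p.1 * p.2) := by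
    intro p hp
    simp only [hXs, hYs, Finset.mem_product, Finset.mem_filter, Finset.mem_univ, true_and] at hp
    have h1 : orderOf p.1 = 2 := by
      obtain ⟨g, hg⟩ := isConj_iff.1 hp.1
      rw [← hg, CfsgLib.Invol.orderOf_conj_eq, hz2]
    have h2 : orderOf p.2 = 2 := by
      obtain ⟨g, hg⟩ := isConj_iff.1 hp.2
      rw [← hg, CfsgLib.Invol.orderOf_conj_eq, hw2]
    refine ⟨h1, h2, ?_⟩
    have hev := CfsgLib.Invol.even_orderOf_mul_of_not_isConj h1 h2 (fun hc => hzw ((hp.1.trans hc).trans hp.2.symm))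
    rcases hs.cases (p.1 * p.2) with e | e | e | e | e
    · exfalso
      rw [← orderOf_eq_one_iff] at e
      rw [e] at hev
      exact absurd hev (by decide)
    · exact Or.inl ⟨e, by simp [κ, e]⟩
    · rw [e] at hev; exact absurd hev (by decide)
    · exact Or.inr ⟨e, by simp [κ, e]⟩
    · rw [e] at hev; exact absurd hev (by decide)
  let R : G → G × G → Prop := fun t p => IsConj z p.1 ∧ IsConj w p.2 ∧ Pw t (p.1 * p.2)
  have hR : ∀ g t (p : G × G), R (g * t * g⁻¹) (((MulAut.conj g).toEquiv.prodCongr (MulAut.conj g).toEquiv) p) ↔ R t p := by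
    intro g t p
    have hg : ∀ a b : G, IsConj a (g * b * g⁻¹) ↔ IsConj a b := fun a b =>
      ⟨fun e => e.trans (isConj_iff.2 ⟨g, rfl⟩ : IsConj b (g * b * g⁻¹)).symm,
        fun e => e.trans (isConj_iff.2 ⟨g, rfl⟩)⟩
    show IsConj z (g * p.1 * g⁻¹) ∧ IsConj w (g * p.2 * g⁻¹) ∧
      Pw (g * t * g⁻¹) (g * p.1 * g⁻¹ * (g * p.2 * g⁻¹)) ↔ _
    rw [hg, hg, show g * p.1 * g⁻¹ * (g * p.2 * g⁻¹) = g * (p.1 * p.2) * g⁻¹ by group, pw_conj]
  have hfib : ∀ t, ((Xs ×ˢ Ys).filter (fun p => κ p = t)).card = Nat.card {p : G × G // R t p} := by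
    intro t
    rw [Nat.card_eq_fintype_card, Fintype.card_subtype]
    congr 1
    ext p
    simp only [Finset.mem_filter, Finset.mem_univ, true_and]
    constructor
    · rintro ⟨hp, rfl⟩
      have := hκ p hp
      simp only [hXs, hYs, Finset.mem_product, Finset.mem_filter, Finset.mem_univ, true_and] at hp
      exact ⟨hp.1, hp.2, this.2.2⟩
    · rintro ⟨h1, h2, h3⟩
      have hp : p ∈ Xs ×ˢ Ys := Finset.mem_product.2 ⟨Finset.mem_filter.2 ⟨Finset.mem_univ _, h1⟩, Finset.mem_filter.2 ⟨Finset.mem_univ _, h2⟩⟩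
      exact ⟨hp, (hκ p hp).2.2.unique h3⟩
  have hconst : ∀ c t, IsConj c t → ((Xs ×ˢ Ys).filter (fun p => κ p = t)).card = Nat.card {p : G × G // R c p} := by
    intro c t hct
    rw [hfib]
    exact (card_conj_inv (fun g => (MulAut.conj g).toEquiv.prodCongr (MulAut.conj g).toEquiv) R hR hct).symm
  -- the fibres at the intersection
  set Z := (Finset.univ : Finset G).filter (fun t => t ∈ A ⊓ U ∧ t ≠ 1) with hZ
  have hfin : ∀ S : Subgroup G, ((Finset.univ : Finset G).filter (fun t => t ∈ S)).card = Nat.card S := fun S => by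
    rw [Nat.card_eq_fintype_card, Fintype.card_subtype]
  have hZc : Z.card = q - 1 := by
    have e : Z = ((Finset.univ : Finset G).filter (fun t => t ∈ A ⊓ U)).erase 1 := by
      ext t; simp [hZ, and_comm]
    rw [e, Finset.card_erase_of_mem (by simp), hfin, h.card_inf]
  have hdiff : ∀ S : Subgroup G, A ⊓ U ≤ S → Nat.card S = q * q →
      ((Finset.univ : Finset G).filter (fun t => t ∈ S ∧ t ∉ A ⊓ U)).card = q * q - q := by
    intro S hle hS
    have e : (Finset.univ : Finset G).filter (fun t => t ∈ S ∧ t ∉ A ⊓ U) =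
        (Finset.univ : Finset G).filter (fun t => t ∈ S) \ (Finset.univ : Finset G).filter (fun t => t ∈ A ⊓ U) := by
      ext t; simp
    have hsub : (Finset.univ : Finset G).filter (fun t => t ∈ A ⊓ U) ⊆ (Finset.univ : Finset G).filter (fun t => t ∈ S) := by
      intro t ht
      simp only [Finset.mem_filter, Finset.mem_univ, true_and] at ht ⊢
      exact hle ht
    rw [e, Finset.card_sdiff_of_subset hsub, hfin, hfin, h.card_inf, hS]
  set aw := Nat.card {p : G × G // R w p}
  set az := Nat.card {p : G × G // R z p}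
  have haw : aw = q - 1 := by
    rw [← hZc, ← Fintype.card_coe, ← Nat.card_eq_fintype_card]
    symm
    have hRmem : ∀ p : G × G, R w p → p.1 ∈ A ⊓ U ∧ p.1 ≠ 1 ∧ p.2 = p.1 * w := by
      rintro p ⟨h1, h2, h3⟩
      have o1 : orderOf p.1 = 2 := by
        obtain ⟨g, hg⟩ := isConj_iff.1 h1
        rw [← hg, CfsgLib.Invol.orderOf_conj_eq, hz2]
      have o2 : orderOf p.2 = 2 := by
        obtain ⟨g, hg⟩ := isConj_iff.1 h2
        rw [← hg, CfsgLib.Invol.orderOf_conj_eq, hw2]
      obtain ⟨c1, c2⟩ := Pw.invol_mem o1 o2 h3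
      have m1 : p.1 ∈ A := hCw ▸ mem_centralizer_singleton_iff.2 c1.eq
      have m2 : p.2 ∈ A := hCw ▸ mem_centralizer_singleton_iff.2 c2.eq
      refine ⟨⟨m1, hinU _ (h.A_le m1) h1⟩, CfsgLib.Invol.ne_one o1, ?_⟩
      rcases h3 with ⟨-, e⟩ | ⟨e, -⟩
      · rw [← e, ← mul_assoc, CfsgLib.Invol.mul_self_eq_one o1, one_mul]
      · exfalso
        have := Nat.le_of_dvd (by norm_num) (orderOf_dvd_of_pow_eq_one (n := 2)
          (show (p.1 * p.2) ^ 2 = 1 by rw [pow_two]; exact h.exp_A _ (mul_mem m1 m2)))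
        omega
    refine Nat.card_congr
      { toFun := fun s => ⟨(s.1, s.1 * w), ?_⟩
        invFun := fun p => ⟨p.1.1, ?_⟩
        left_inv := fun s => rfl
        right_inv := fun p => Subtype.ext (Prod.ext rfl (hRmem p.1 p.2).2.2.symm) }
    · have hs' := s.2
      simp only [hZ, Finset.mem_filter, Finset.mem_univ, true_and] at hs'
      obtain ⟨hsZ, hs1⟩ := hs'
      refine ⟨(h.conj_U _ hsZ.2 hs1 z hz hz1).symm,
        h.conj_A w hw hwU _ (mul_mem hsZ.1 hw) (fun e => hwU ?_), Or.inl ⟨?_, ?_⟩⟩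
      · exact (Subgroup.mul_mem_cancel_left U hsZ.2).1 e
      · rw [← mul_assoc, h.exp_A _ hsZ.1, one_mul, hw2]
      · rw [← mul_assoc, h.exp_A _ hsZ.1, one_mul]
    · simp only [hZ, Finset.mem_filter, Finset.mem_univ, true_and]
      exact ⟨(hRmem p.1 p.2).1, (hRmem p.1 p.2).2.1⟩
  set US := (Finset.univ : Finset G).filter (fun t => t ∈ U ∧ t ∉ A ⊓ U) with hUS
  set AS := (Finset.univ : Finset G).filter (fun t => t ∈ A ∧ t ∉ A ⊓ U) with hAS
  have hsum : (q - 1) * az = US.card * AS.card := by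
    rw [← Finset.card_product, Finset.card_eq_sum_card_fiberwise (f := fun p : G × G => p.1 * p.2 * (p.1 * p.2)) (t := Z) ?_]
    · rw [Finset.sum_eq_card_nsmul (b := az) (fun t ht => ?_), hZc, smul_eq_mul]
      simp only [hZ, Finset.mem_filter, Finset.mem_univ, true_and] at ht
      obtain ⟨htZ, ht1⟩ := ht
      show _ = Nat.card {p : G × G // R z p}
      rw [← card_conj_inv (fun g => (MulAut.conj g).toEquiv.prodCongr (MulAut.conj g).toEquiv) R hR
        (h.conj_U t htZ.2 ht1 z hz hz1), Nat.card_eq_fintype_card, Fintype.card_subtype]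
      congr 1
      ext p
      simp only [hUS, hAS, Finset.mem_filter, Finset.mem_product, Finset.mem_univ, true_and]
      constructor
      · rintro ⟨⟨⟨h1, h1'⟩, h2, h2'⟩, e⟩
        have hU1 : p.1 ≠ 1 := fun e => h1' (e ▸ one_mem _)
        have hA2' : p.2 ∉ U := fun e => h2' ⟨h2, e⟩
        refine ⟨(h.conj_U _ h1 hU1 z hz hz1).symm, h.conj_A w hw hwU _ h2 hA2', Or.inr ⟨?_, e⟩⟩
        have h4 : (p.1 * p.2) * (p.1 * p.2) ≠ 1 := fun e' => ht1 (e.symm.trans e')
        rcases hs.cases (p.1 * p.2) with o | o | o | o | o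
        · exact absurd (by rw [o, one_mul]) h4
        · exact absurd (CfsgLib.Invol.mul_self_eq_one o) h4
        · exfalso
          have := h.syl.2.1 ⟨_, mul_mem (h.U_le h1) (h.A_le h2)⟩
          obtain ⟨k, hk⟩ := this
          have hd := orderOf_dvd_of_pow_eq_one (congrArg Subtype.val hk)
          rw [o] at hd
          exact absurd (Nat.prime_three.dvd_of_dvd_pow hd) (by norm_num)
        · exact o
        · exfalso
          have := h.syl.2.1 ⟨_, mul_mem (h.U_le h1) (h.A_le h2)⟩
          obtain ⟨k, hk⟩ := this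
          have hd := orderOf_dvd_of_pow_eq_one (congrArg Subtype.val hk)
          rw [o] at hd
          exact absurd (Nat.prime_five.dvd_of_dvd_pow hd) (by norm_num)
      · rintro ⟨h1, h2, h3⟩
        have o1 : orderOf p.1 = 2 := by
          obtain ⟨g, hg⟩ := isConj_iff.1 h1
          rw [← hg, CfsgLib.Invol.orderOf_conj_eq, hz2]
        have o2 : orderOf p.2 = 2 := by
          obtain ⟨g, hg⟩ := isConj_iff.1 h2
          rw [← hg, CfsgLib.Invol.orderOf_conj_eq, hw2]
        obtain ⟨c1, c2⟩ := Pw.invol_mem o1 o2 h3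
        have m1 : p.1 ∈ T := h.centralizer_Z hs htZ ht1 ▸ mem_centralizer_singleton_iff.2 c1.eq
        have m2 : p.2 ∈ T := h.centralizer_Z hs htZ ht1 ▸ mem_centralizer_singleton_iff.2 c2.eq
        have u1 := hinU _ m1 h1
        obtain ⟨a2, a2'⟩ := hinA _ m2 h2
        rcases h3 with ⟨-, e⟩ | ⟨o4, e⟩
        · exfalso
          apply a2'
          rw [show p.2 = p.1 * (p.1 * p.2) by rw [← mul_assoc, CfsgLib.Invol.mul_self_eq_one o1, one_mul], e]
          exact mul_mem u1 htZ.2
        · refine ⟨⟨⟨u1, fun hZ' => ?_⟩, a2, fun hZ' => a2' hZ'.2⟩, e⟩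
          have := Nat.le_of_dvd (by norm_num) (orderOf_dvd_of_pow_eq_one (n := 2)
            (show (p.1 * p.2) ^ 2 = 1 by rw [pow_two]; exact h.exp_A _ (mul_mem hZ'.1 a2)))
          omega
    · intro p hp
      simp only [hUS, hAS, Finset.coe_product, Set.mem_prod, Finset.coe_filter, Finset.mem_univ, true_and,
        Set.mem_setOf_eq] at hp
      simp only [hZ, Finset.coe_filter, Finset.mem_univ, true_and, Set.mem_setOf_eq]
      refine ⟨h.sq_mem (mul_mem (h.U_le hp.1.1) (h.A_le hp.2.1)), fun e => ?_⟩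
      have hc : Commute p.2 p.1 := by
        show p.2 * p.1 = p.1 * p.2
        calc p.2 * p.1 = (p.1 * p.2)⁻¹ := by
              rw [_root_.mul_inv_rev, inv_eq_of_mul_eq_one_right (h.exp_U _ hp.1.1),
                inv_eq_of_mul_eq_one_right (h.exp_A _ hp.2.1)]
          _ = p.1 * p.2 := inv_eq_of_mul_eq_one_right e
      exact hp.1.2 ⟨h.cent p.2 hp.2.1 (fun e => hp.2.2 ⟨hp.2.1, e⟩) p.1 hp.1.1 hc, hp.1.1⟩
  have hUSc : US.card = q * q - q := hdiff U inf_le_right h.card_U
  have hASc : AS.card = q * q - q := hdiff A inf_le_left h.card_A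
  -- the sum
  have htotal : Xs.card * Ys.card = Xs.card * az + Ys.card * aw := by
    rw [← Finset.card_product, Finset.card_eq_sum_card_fiberwise (f := κ) (t := Xs ∪ Ys) ?_, Finset.sum_union ?_,
      Finset.sum_eq_card_nsmul (b := az) (fun t ht => ?_), Finset.sum_eq_card_nsmul (b := aw) (fun t ht => ?_),
      smul_eq_mul, smul_eq_mul]
    · simp only [hYs, Finset.mem_filter, Finset.mem_univ, true_and] at ht
      exact hconst w t ht
    · simp only [hXs, Finset.mem_filter, Finset.mem_univ, true_and] at ht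
      exact hconst z t ht
    · rw [Finset.disjoint_left]
      intro t ht ht'
      simp only [hXs, hYs, Finset.mem_filter, Finset.mem_univ, true_and] at ht ht'
      exact hno t ht ht'
    · intro p hp
      have h' := (hκ p hp).2.2.invol
      obtain ⟨g, hg⟩ := h.exists_mem_T h'
      have hc : IsConj (g * κ p * g⁻¹) (κ p) := (isConj_iff.2 ⟨g, rfl⟩ : IsConj (κ p) (g * κ p * g⁻¹)).symm
      simp only [hXs, hYs, Finset.coe_union, Set.mem_union, Finset.coe_filter, Finset.mem_univ, true_and,
        Set.mem_setOf_eq]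
      rcases hmem _ hg (by rw [CfsgLib.Invol.orderOf_conj_eq]; exact h') with e | e
      · exact Or.inl (e.trans hc)
      · exact Or.inr (e.trans hc)
  have hG : Nat.card G = Nat.card (normalizer (U : Set G)) := by
    rw [hUSc, hASc] at hsum
    rw [haw] at htotal
    generalize Xs.card = X at hXc hYc htotal
    generalize Ys.card = Y at hYc htotal
    rcases h.q_eq with rfl | rfl
    · rw [h.normalizer_card.1 rfl]
      norm_num [-Nat.card_eq_fintype_card] at hsum htotal hXc hYc
      rw [hsum] at htotal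
      have hpos : 0 < X := by have := Nat.card_pos (α := G); omega
      have e : Y = 2 * X := by omega
      rw [e] at htotal
      have : X * (2 * X) = X * 6 := by rw [htotal]; ring
      have := Nat.eq_of_mul_eq_mul_left hpos this
      omega
    · rw [h.normalizer_card.2 rfl]
      norm_num [-Nat.card_eq_fintype_card] at hsum htotal hXc hYc
      have haz : az = 48 := by omega
      rw [haz] at htotal
      have hpos : 0 < X := by have := Nat.card_pos (α := G); omega
      have e : Y = 4 * X := by omega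
      rw [e] at htotal
      have : X * (4 * X) = X * 60 := by rw [htotal]; ring
      have := Nat.eq_of_mul_eq_mul_left hpos this
      omega
  have htop : normalizer (U : Set G) = ⊤ := eq_top_of_card_eq _ hG.symm
  rcases IsSimpleGroup.eq_bot_or_eq_top_of_normal U (normalizer_eq_top_iff.1 htop) with e | e
  · have := h.card_U
    rw [e, Subgroup.card_bot] at this
    nlinarith
  · exact h.not_le (e ▸ le_top)

/-- Simple groups with an offender have order `360`. -/
theorem card_of_pair [IsSimpleGroup G] (hnc : ¬ IsMulCommutative G) (hs : Small G) (h : Pair T U A q) :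
    Nat.card G = 360 := by
  classical
  haveI : Fintype G := Fintype.ofFinite G
  obtain ⟨z, hz, hz1⟩ := h.exists_z
  have hz2 : orderOf z = 2 := CfsgLib.Invol.orderOf_eq_two (h.exp_U z hz.2) hz1
  have hC := h.centralizer_Z hs hz hz1
  have hconj := h.one_class hs hz hz1
  obtain ⟨u, v, k3, k5, hu, hv, hk3, hk5, hG, e1, e2, hk5e⟩ := hs.equations h.syl
    (prime_dvd_simple hnc hs 3 (Or.inr (Or.inl rfl))) (prime_dvd_simple hnc hs 5 (Or.inr (Or.inr rfl))) hz2 hC hconj
  have hq2 := h.two_le
  set Z := (Finset.univ : Finset G).filter (fun t => t ∈ A ⊓ U ∧ t ≠ 1) with hZ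
  have hfin : ∀ S : Subgroup G, ((Finset.univ : Finset G).filter (fun t => t ∈ S)).card = Nat.card S := fun S => by
    rw [Nat.card_eq_fintype_card, Fintype.card_subtype]
  have hZc : Z.card = q - 1 := by
    have e : Z = ((Finset.univ : Finset G).filter (fun t => t ∈ A ⊓ U)).erase 1 := by
      ext t; simp [hZ, and_comm]
    rw [e, Finset.card_erase_of_mem (by simp), hfin, h.card_inf]
  set UA := (Finset.univ : Finset G).filter (fun t => t ∈ U ∨ t ∈ A) with hUA
  have hUAc : UA.card + q = q * q + q * q := by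
    have e1 : UA = (Finset.univ : Finset G).filter (fun t => t ∈ U) ∪ (Finset.univ : Finset G).filter (fun t => t ∈ A) := by
      ext t; simp [hUA]
    have e2 : (Finset.univ : Finset G).filter (fun t => t ∈ U) ∩ (Finset.univ : Finset G).filter (fun t => t ∈ A) =
        (Finset.univ : Finset G).filter (fun t => t ∈ A ⊓ U) := by
      ext t; simp [and_comm]
    have e3 := Finset.card_union_add_card_inter ((Finset.univ : Finset G).filter (fun t => t ∈ U))
      ((Finset.univ : Finset G).filter (fun t => t ∈ A))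
    rw [e2, ← e1, hfin, hfin, hfin, h.card_U, h.card_A, h.card_inf] at e3
    exact e3
  set I := UA.erase 1 with hI
  have hIc : I.card + 1 + q = q * q + q * q := by
    rw [hI, Finset.card_erase_of_mem (by simp [hUA, one_mem])]
    have : 1 ≤ UA.card := Finset.card_pos.2 ⟨1, by simp [hUA, one_mem]⟩
    omega
  have hIiff : ∀ t, t ∈ I ↔ t ∈ T ∧ orderOf t = 2 := by
    intro t
    simp only [hI, hUA, Finset.mem_erase, Finset.mem_filter, Finset.mem_univ, true_and]
    constructor
    · rintro ⟨h1, e | e⟩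
      · exact ⟨h.U_le e, CfsgLib.Invol.orderOf_eq_two (h.exp_U t e) h1⟩
      · exact ⟨h.A_le e, CfsgLib.Invol.orderOf_eq_two (h.exp_A t e) h1⟩
    · rintro ⟨ht, h2⟩
      exact ⟨CfsgLib.Invol.ne_one h2, h.cover t ht (CfsgLib.Invol.mul_self_eq_one h2)⟩
  have hpow : ∀ x ∈ T, x * x ≠ 1 → orderOf x = 4 := by
    intro x hx hx2
    obtain ⟨k, hk⟩ := h.syl.2.1 ⟨x, hx⟩
    have h4 := orderOf_dvd_of_pow_eq_one (hs.pow_four (p := x) (k := k) (congrArg Subtype.val hk))
    rcases hs.cases x with e | e | e | e | e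
    · exact absurd (by rw [e, one_mul]) hx2
    · exact absurd (CfsgLib.Invol.mul_self_eq_one e) hx2
    · rw [e] at h4; norm_num at h4
    · exact e
    · rw [e] at h4; norm_num at h4
  have hZconj : ∀ t ∈ Z, IsConj z t := fun t ht => by
    simp only [hZ, Finset.mem_filter, Finset.mem_univ, true_and] at ht
    exact hconj t (CfsgLib.Invol.orderOf_eq_two (h.exp_U t ht.1.2) ht.2)
  -- the pairs at `z`
  set w2 := ((Finset.univ : Finset (G × G)).filter (fun p => orderOf p.1 = 2 ∧ orderOf p.2 = 2 ∧ p.1 * p.2 = z)).card with hw2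
  let R4 : G → G × G → Prop := fun t p => orderOf p.1 = 2 ∧ orderOf p.2 = 2 ∧ orderOf (p.1 * p.2) = 4 ∧ p.1 * p.2 * (p.1 * p.2) = t
  have hPsplit : Nat.card (PairsAt z) = w2 + Nat.card {p : G × G // R4 z p} := by
    rw [Nat.card_eq_fintype_card, Fintype.card_subtype, Nat.card_eq_fintype_card, Fintype.card_subtype, hw2,
      ← Finset.card_union_of_disjoint]
    · congr 1
      ext p
      simp only [Finset.mem_filter, Finset.mem_univ, true_and, Finset.mem_union, R4]
      constructor
      · rintro ⟨h1, h2, ⟨-, e⟩ | ⟨o, e⟩⟩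
        · exact Or.inl ⟨h1, h2, e⟩
        · exact Or.inr ⟨h1, h2, o, e⟩
      · rintro (⟨h1, h2, e⟩ | ⟨h1, h2, o, e⟩)
        · exact ⟨h1, h2, Or.inl ⟨by rw [e, hz2], e⟩⟩
        · exact ⟨h1, h2, Or.inr ⟨o, e⟩⟩
    · rw [Finset.disjoint_left]
      intro p hp hp'
      simp only [Finset.mem_filter, Finset.mem_univ, true_and, R4] at hp hp'
      rw [hp.2.2, hz2] at hp'
      omega
  have hw2v : w2 + 1 = I.card := by
    have hzI : z ∈ I := (hIiff z).2 ⟨h.U_le hz.2, hz2⟩
    rw [hw2, ← Finset.card_erase_add_one hzI]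
    congr 1
    refine Finset.card_bij (fun p _ => p.1) (fun p hp => ?_) (fun p hp p' hp' e => ?_) (fun s hs' => ?_)
    · simp only [Finset.mem_filter, Finset.mem_univ, true_and] at hp
      refine Finset.mem_erase.2 ⟨fun e => ?_, (hIiff _).2 ⟨?_, hp.1⟩⟩
      · have := hp.2.2
        rw [e, mul_eq_left] at this
        exact CfsgLib.Invol.ne_one hp.2.1 this
      · obtain ⟨c1, -⟩ := Pw.invol_mem hp.1 hp.2.1 (z := z) (Or.inl ⟨by rw [hp.2.2, hz2], hp.2.2⟩)
        rw [← hC]
        exact mem_centralizer_singleton_iff.2 c1.eq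
    · simp only [Finset.mem_filter, Finset.mem_univ, true_and] at hp hp'
      exact Prod.ext e (mul_left_cancel (a := p.1) (by rw [hp.2.2, e, hp'.2.2]))
    · obtain ⟨hne, hsI⟩ := Finset.mem_erase.1 hs'
      obtain ⟨hsT, hs2⟩ := (hIiff s).1 hsI
      refine ⟨(s, s * z), ?_, rfl⟩
      simp only [Finset.mem_filter, Finset.mem_univ, true_and]
      refine ⟨hs2, CfsgLib.Invol.orderOf_eq_two ?_ (fun e => hne ?_), by
        rw [← mul_assoc, CfsgLib.Invol.mul_self_eq_one hs2, one_mul]⟩
      · have hc : Commute s z := mem_centralizer_singleton_iff.1 (hC.ge hsT)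
        rw [hc.symm.mul_mul_mul_comm, CfsgLib.Invol.mul_self_eq_one hs2, CfsgLib.Invol.mul_self_eq_one hz2, one_mul]
      · rw [eq_inv_of_mul_eq_one_left e, CfsgLib.Invol.inv_eq_self hz2]
  set US := (Finset.univ : Finset G).filter (fun t => t ∈ U ∧ t ∉ A) with hUS
  set AS := (Finset.univ : Finset G).filter (fun t => t ∈ A ∧ t ∉ U) with hAS
  have hUSc : US.card + q = q * q := by
    have e : (Finset.univ : Finset G).filter (fun t => t ∈ A ⊓ U) ∪ US = (Finset.univ : Finset G).filter (fun t => t ∈ U) := by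
      ext t; by_cases t ∈ A <;> simp_all [hUS]
    have hd : Disjoint ((Finset.univ : Finset G).filter (fun t => t ∈ A ⊓ U)) US := by
      rw [Finset.disjoint_left]; intro t ht ht'
      simp only [hUS, Finset.mem_filter, Finset.mem_univ, true_and] at ht ht'
      exact ht'.2 ht.1
    have e3 := Finset.card_union_of_disjoint hd
    rw [e, hfin, hfin, h.card_U, h.card_inf] at e3
    omega
  have hASc : AS.card + q = q * q := by
    have e : (Finset.univ : Finset G).filter (fun t => t ∈ A ⊓ U) ∪ AS = (Finset.univ : Finset G).filter (fun t => t ∈ A) := by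
      ext t; by_cases t ∈ U <;> simp_all [hAS]
    have hd : Disjoint ((Finset.univ : Finset G).filter (fun t => t ∈ A ⊓ U)) AS := by
      rw [Finset.disjoint_left]; intro t ht ht'
      simp only [hAS, Finset.mem_filter, Finset.mem_univ, true_and] at ht ht'
      exact ht'.2 ht.2
    have e3 := Finset.card_union_of_disjoint hd
    rw [e, hfin, hfin, h.card_A, h.card_inf] at e3
    omega
  have hnc : ∀ s r, s ∈ US → r ∈ AS → s * r * (s * r) ≠ 1 := by
    intro s r hs' hr' e
    simp only [hUS, hAS, Finset.mem_filter, Finset.mem_univ, true_and] at hs' hr'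
    have hc : Commute r s := by
      show r * s = s * r
      calc r * s = (s * r)⁻¹ := by
            rw [_root_.mul_inv_rev, inv_eq_of_mul_eq_one_right (h.exp_U _ hs'.1),
              inv_eq_of_mul_eq_one_right (h.exp_A _ hr'.1)]
        _ = s * r := inv_eq_of_mul_eq_one_right e
    exact hs'.2 (h.cent r hr'.1 hr'.2 s hs'.1 hc)
  have hP4 : (q - 1) * Nat.card {p : G × G // R4 z p} = US.card * AS.card + AS.card * US.card := by
    rw [← Finset.card_product, ← Finset.card_product, ← Finset.card_union_of_disjoint ?_,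
      Finset.card_eq_sum_card_fiberwise (f := fun p : G × G => p.1 * p.2 * (p.1 * p.2)) (t := Z) ?_,
      Finset.sum_eq_card_nsmul (b := Nat.card {p : G × G // R4 z p}) (fun t ht => ?_), hZc, smul_eq_mul]
    · have hR4 : ∀ g t (p : G × G),
          R4 (g * t * g⁻¹) (((MulAut.conj g).toEquiv.prodCongr (MulAut.conj g).toEquiv) p) ↔ R4 t p := by
        intro g t p
        show orderOf (g * p.1 * g⁻¹) = 2 ∧ orderOf (g * p.2 * g⁻¹) = 2 ∧
          orderOf (g * p.1 * g⁻¹ * (g * p.2 * g⁻¹)) = 4 ∧
          g * p.1 * g⁻¹ * (g * p.2 * g⁻¹) * (g * p.1 * g⁻¹ * (g * p.2 * g⁻¹)) = g * t * g⁻¹ ↔ _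
        rw [show g * p.1 * g⁻¹ * (g * p.2 * g⁻¹) = g * (p.1 * p.2) * g⁻¹ by group,
          CfsgLib.Invol.orderOf_conj_eq, CfsgLib.Invol.orderOf_conj_eq, CfsgLib.Invol.orderOf_conj_eq,
          show g * (p.1 * p.2) * g⁻¹ * (g * (p.1 * p.2) * g⁻¹) = g * (p.1 * p.2 * (p.1 * p.2)) * g⁻¹ by group]
        simp [R4]
      rw [card_conj_inv (fun g => (MulAut.conj g).toEquiv.prodCongr (MulAut.conj g).toEquiv) R4 hR4 (hZconj t ht),
        Nat.card_eq_fintype_card, Fintype.card_subtype]
      simp only [hZ, Finset.mem_filter, Finset.mem_univ, true_and] at ht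
      congr 1
      ext p
      simp only [Finset.mem_filter, Finset.mem_union, Finset.mem_product, Finset.mem_univ, true_and, R4]
      constructor
      · rintro ⟨hp, e⟩
        have hmem : p.1 ∈ T ∧ p.2 ∈ T ∧ orderOf p.1 = 2 ∧ orderOf p.2 = 2 := by
          simp only [hUS, hAS, Finset.mem_filter, Finset.mem_univ, true_and] at hp
          rcases hp with ⟨⟨a1, b1⟩, a2, b2⟩ | ⟨⟨a1, b1⟩, a2, b2⟩
          · exact ⟨h.U_le a1, h.A_le a2, CfsgLib.Invol.orderOf_eq_two (h.exp_U _ a1) fun e => b1 (e ▸ one_mem A),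
              CfsgLib.Invol.orderOf_eq_two (h.exp_A _ a2) fun e => b2 (e ▸ one_mem U)⟩
          · exact ⟨h.A_le a1, h.U_le a2, CfsgLib.Invol.orderOf_eq_two (h.exp_A _ a1) fun e => b1 (e ▸ one_mem U),
              CfsgLib.Invol.orderOf_eq_two (h.exp_U _ a2) fun e => b2 (e ▸ one_mem A)⟩
        exact ⟨hmem.2.2.1, hmem.2.2.2, hpow _ (mul_mem hmem.1 hmem.2.1) (fun e' => ht.2 (e.symm.trans e')), e⟩
      · rintro ⟨o1, o2, o4, e⟩
        obtain ⟨c1, c2⟩ := Pw.invol_mem o1 o2 (z := t) (Or.inr ⟨o4, e⟩)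
        have m1 : p.1 ∈ T := h.centralizer_Z hs ht.1 ht.2 ▸ mem_centralizer_singleton_iff.2 c1.eq
        have m2 : p.2 ∈ T := h.centralizer_Z hs ht.1 ht.2 ▸ mem_centralizer_singleton_iff.2 c2.eq
        have hcc : ∀ S : Subgroup G, (∀ x ∈ S, x * x = 1) → p.1 ∈ S → p.2 ∈ S → False := fun S hS a b => by
          have := Nat.le_of_dvd (by norm_num) (orderOf_dvd_of_pow_eq_one (n := 2)
            (show (p.1 * p.2) ^ 2 = 1 by rw [pow_two]; exact hS _ (mul_mem a b)))
          omega
        refine ⟨?_, e⟩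
        simp only [hUS, hAS, Finset.mem_filter, Finset.mem_univ, true_and]
        rcases h.cover _ m1 (CfsgLib.Invol.mul_self_eq_one o1) with a | a <;>
          rcases h.cover _ m2 (CfsgLib.Invol.mul_self_eq_one o2) with b | b
        · exact (hcc U h.exp_U a b).elim
        · exact Or.inl ⟨⟨a, fun a' => hcc A h.exp_A a' b⟩, b, fun b' => hcc U h.exp_U a b'⟩
        · exact Or.inr ⟨⟨a, fun a' => hcc U h.exp_U a' b⟩, b, fun b' => hcc A h.exp_A a b'⟩
        · exact (hcc A h.exp_A a b).elim
    · intro p hp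
      simp only [Finset.coe_union, Finset.coe_product, Set.mem_union, Set.mem_prod, Finset.mem_coe] at hp
      simp only [hZ, Finset.coe_filter, Finset.mem_univ, true_and, Set.mem_setOf_eq]
      have hT' : p.1 ∈ T ∧ p.2 ∈ T := by
        simp only [hUS, hAS, Finset.mem_filter, Finset.mem_univ, true_and] at hp
        rcases hp with ⟨⟨a1, -⟩, a2, -⟩ | ⟨⟨a1, -⟩, a2, -⟩
        · exact ⟨h.U_le a1, h.A_le a2⟩
        · exact ⟨h.A_le a1, h.U_le a2⟩
      refine ⟨h.sq_mem (mul_mem hT'.1 hT'.2), ?_⟩
      rcases hp with ⟨a1, a2⟩ | ⟨a1, a2⟩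
      · exact hnc _ _ a1 a2
      · intro e
        refine hnc _ _ a2 a1 ?_
        have h12 : p.1 * p.2 = (p.1 * p.2)⁻¹ := eq_inv_of_mul_eq_one_left e
        simp only [hUS, hAS, Finset.mem_filter, Finset.mem_univ, true_and] at a1 a2
        rw [_root_.mul_inv_rev, inv_eq_of_mul_eq_one_right (h.exp_A _ a1.1),
          inv_eq_of_mul_eq_one_right (h.exp_U _ a2.1)] at h12
        rw [← h12]; exact e
    · rw [Finset.disjoint_left]
      intro p hp hp'
      simp only [hUS, hAS, Finset.mem_product, Finset.mem_filter, Finset.mem_univ, true_and] at hp hp'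
      exact hp.1.2 hp'.1.1
  -- the elements at `z`
  let F4 : G → G → Prop := fun t x => orderOf x = 4 ∧ x * x = t
  have hFsplit : Nat.card {x : G // Pw z x} = 1 + Nat.card {x : G // F4 z x} := by
    rw [Nat.card_eq_fintype_card, Fintype.card_subtype, Nat.card_eq_fintype_card, Fintype.card_subtype,
      ← Finset.card_singleton z, ← Finset.card_union_of_disjoint]
    · congr 1
      ext x
      simp only [Finset.mem_filter, Finset.mem_univ, true_and, Finset.mem_union, Finset.mem_singleton, F4]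
      constructor
      · rintro (⟨-, e⟩ | e)
        · exact Or.inl e
        · exact Or.inr e
      · rintro (e | e)
        · exact Or.inl ⟨e ▸ hz2, e⟩
        · exact Or.inr e
    · rw [Finset.disjoint_left]
      intro x hx hx'
      simp only [Finset.mem_singleton, Finset.mem_filter, Finset.mem_univ, true_and, F4] at hx hx'
      rw [hx, hz2] at hx'
      omega
  set T4 := (Finset.univ : Finset G).filter (fun x => x ∈ T ∧ x * x ≠ 1) with hT4
  have hT4c : T4.card + UA.card = q * q * q := by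
    rw [← h.card_T, ← hfin, ← Finset.card_union_of_disjoint]
    · congr 1
      ext x
      simp only [hT4, hUA, Finset.mem_union, Finset.mem_filter, Finset.mem_univ, true_and]
      constructor
      · rintro (e | e | e)
        · exact e.1
        · exact h.U_le e
        · exact h.A_le e
      · intro hx
        by_cases hx2 : x * x = 1
        · exact Or.inr (h.cover x hx hx2)
        · exact Or.inl ⟨hx, hx2⟩
    · rw [Finset.disjoint_left]
      intro x hx hx'
      simp only [hT4, hUA, Finset.mem_filter, Finset.mem_univ, true_and] at hx hx'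
      rcases hx' with e | e
      · exact hx.2 (h.exp_U x e)
      · exact hx.2 (h.exp_A x e)
  have hF4 : (q - 1) * Nat.card {x : G // F4 z x} = T4.card := by
    rw [Finset.card_eq_sum_card_fiberwise (f := fun x : G => x * x) (t := Z) ?_,
      Finset.sum_eq_card_nsmul (b := Nat.card {x : G // F4 z x}) (fun t ht => ?_), hZc, smul_eq_mul]
    · have hF : ∀ g t x, F4 (g * t * g⁻¹) ((MulAut.conj g).toEquiv x) ↔ F4 t x := by
        intro g t x
        show orderOf (g * x * g⁻¹) = 4 ∧ g * x * g⁻¹ * (g * x * g⁻¹) = g * t * g⁻¹ ↔ _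
        rw [CfsgLib.Invol.orderOf_conj_eq, show g * x * g⁻¹ * (g * x * g⁻¹) = g * (x * x) * g⁻¹ by group]
        simp [F4]
      rw [card_conj_inv (fun g => (MulAut.conj g).toEquiv) F4 hF (hZconj t ht),
        Nat.card_eq_fintype_card, Fintype.card_subtype]
      simp only [hZ, Finset.mem_filter, Finset.mem_univ, true_and] at ht
      congr 1
      ext x
      simp only [hT4, Finset.mem_filter, Finset.mem_univ, true_and, F4]
      constructor
      · rintro ⟨⟨hx, hx2⟩, e⟩; exact ⟨hpow x hx hx2, e⟩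
      · rintro ⟨o, e⟩
        refine ⟨⟨?_, e ▸ ht.2⟩, e⟩
        rw [← h.centralizer_Z hs ht.1 ht.2, mem_centralizer_singleton_iff, ← e, mul_assoc]
    · intro x hx
      simp only [hT4, Finset.coe_filter, Finset.mem_univ, true_and, Set.mem_setOf_eq] at hx
      simp only [hZ, Finset.coe_filter, Finset.mem_univ, true_and, Set.mem_setOf_eq]
      exact ⟨h.sq_mem hx.1, hx.2⟩
  rw [h.card_T] at e1 e2 hG
  rcases h.q_eq with rfl | rfl
  · have hP : Nat.card (PairsAt z) = 12 := by
      have hu2 : US.card = 2 := by omega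
      have ha2 : AS.card = 2 := by omega
      rw [hu2, ha2] at hP4
      omega
    have hF : Nat.card {x : G // Pw z x} = 3 := by omega
    rw [hP] at e1
    rw [hF] at e2
    norm_num at e1 e2
    obtain ⟨rfl, rfl⟩ := Arith.eight hu hv hk3 hk5 (by linear_combination e1) (by linear_combination e2)
    rw [hG]; norm_num
  · exfalso
    have hP : Nat.card (PairsAt z) = 122 := by
      have hu12 : US.card = 12 := by omega
      have ha12 : AS.card = 12 := by omega
      rw [hu12, ha12] at hP4
      omega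
    have hF : Nat.card {x : G // Pw z x} = 13 := by omega
    rw [hP] at e1
    rw [hF] at e2
    norm_num at e1 e2
    -- an inverted element of order five
    have hN := h.normalizer_card.2 rfl
    refine Arith.sixtyFour hu hv hk3 hk5 (hk5e.2 ?_) (by linear_combination e1) (by linear_combination e2)
    haveI hUn : (U.subgroupOf (normalizer (U : Set G))).Normal := normal_in_normalizer
    obtain ⟨a, ha, haU⟩ := SetLike.not_le_iff_exists.1 h.not_le
    set N := normalizer (U : Set G) with hNdef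
    set Q := N ⧸ U.subgroupOf N with hQdef
    have hQc : Nat.card Q = 60 := by
      have := card_eq_card_quotient_mul_card_subgroup (U.subgroupOf N)
      rw [Nat.card_congr (subgroupOfEquivOfLe le_normalizer).toEquiv, h.card_U, hN] at this
      show Nat.card (N ⧸ U.subgroupOf N) = 60
      omega
    haveI : Fact (Nat.Prime 5) := ⟨Nat.prime_five⟩
    obtain ⟨y, hy⟩ := exists_prime_orderOf_dvd_card' (G := Q) 5 (by rw [hQc]; norm_num)
    let P5 : Subgroup Q := zpowers y
    have hP5 : Nat.card P5 = 5 := by rw [Nat.card_zpowers, hy]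
    obtain ⟨S, hS⟩ := (IsPGroup.of_card (p := 5) (n := 1) (G := P5) (by rw [hP5, pow_one])).exists_le_sylow
    have hSc : Nat.card (S : Subgroup Q) = 5 := by
      obtain ⟨n, hn⟩ := S.2.exists_card_eq
      have hd := card_subgroup_dvd_card (S : Subgroup Q)
      rw [hn, hQc] at hd
      have h1 : 5 ≤ Nat.card (S : Subgroup Q) := le_trans hP5.ge (card_le_of_le hS)
      rw [hn] at h1 ⊢
      rcases Nat.lt_or_ge n 2 with hlt | hge
      · interval_cases n <;> first | (norm_num; done) | (norm_num at h1; done)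
      · exact absurd ((Nat.pow_dvd_pow 5 hge).trans hd) (by norm_num)
    -- its normalizer has even order
    set NS := normalizer ((S : Subgroup Q) : Set Q) with hNS
    have hidx : NS.index ≡ 1 [MOD 5] := by
      have := card_sylow_modEq_one 5 Q
      rwa [S.card_eq_index_normalizer] at this
    have hmul := card_mul_index NS
    rw [hQc] at hmul
    have h5d : 5 ∣ Nat.card NS := hSc ▸ card_dvd_of_le le_normalizer
    have hev : 2 ∣ Nat.card NS := by
      obtain ⟨m, hm⟩ := h5d
      rw [hm] at hmul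
      have hI : NS.index ≤ 12 := Nat.le_of_dvd (by norm_num) ⟨m, by linarith⟩
      generalize NS.index = I at hidx hmul hI
      have h1 : I = 1 ∨ I = 6 ∨ I = 11 := by
        interval_cases I <;> first | exact absurd hidx (by decide) | omega
      rcases h1 with rfl | rfl | rfl
      · exact ⟨30, by omega⟩
      · exact ⟨5, by omega⟩
      · omega
    obtain ⟨⟨t, htN⟩, ht⟩ := exists_prime_orderOf_dvd_card' 2 hev
    rw [Subgroup.orderOf_mk] at ht
    have hyS : y ∈ (S : Subgroup Q) := hS (mem_zpowers y)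
    have hz5 : zpowers y = (S : Subgroup Q) := eq_of_le_of_card_ge hS (by rw [hSc]; exact hP5.ge)
    have hty : t * y * t⁻¹ ∈ zpowers y := hz5 ▸ (mem_normalizer_iff.1 htN y).1 hyS
    obtain ⟨j, hj⟩ := mem_zpowers_iff.1 hty
    -- the action of `t` squares to the identity
    have hj2 : (5 : ℤ) ∣ j * j - 1 := by
      have e : y ^ (j * j) = y := by
        calc y ^ (j * j) = (t * y * t⁻¹) ^ j := by rw [zpow_mul, hj]
          _ = t * y ^ j * t⁻¹ := by rw [conj_zpow]
          _ = t * (t * y * t⁻¹) * t⁻¹ := by rw [hj]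
          _ = (t * t) * y * (t * t)⁻¹ := by group
          _ = y := by rw [CfsgLib.Invol.mul_self_eq_one ht]; simp
      have : y ^ (j * j - 1) = 1 := by rw [zpow_sub, e, zpow_one, mul_inv_cancel]
      have := orderOf_dvd_iff_zpow_eq_one.2 this
      rw [hy] at this
      exact_mod_cast this
    have hQs : Small Q := (hs.subgroup N).quotient _
    have hinv : t * y * t⁻¹ = y⁻¹ := by
      have h5 : (5 : ℤ) ∣ (j - 1) ∨ (5 : ℤ) ∣ (j + 1) := by
        have : j * j - 1 = (j - 1) * (j + 1) := by ring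
        rw [this] at hj2
        exact (Int.prime_iff_natAbs_prime.2 (by norm_num : (5 : ℤ).natAbs.Prime)).dvd_or_dvd hj2
      rcases h5 with h5 | h5
      · exfalso
        have e : y ^ (j - 1) = 1 := orderOf_dvd_iff_zpow_eq_one.1 (by rw [hy]; exact_mod_cast h5)
        have e' : y ^ j = y := by
          rw [show j = (j - 1) + 1 by ring, zpow_add_one, e, one_mul]
        rw [e'] at hj
        rcases hQs.no_commute (mul_inv_eq_iff_eq_mul.1 hj.symm : Commute t y) (by rw [ht, hy]; norm_num) with o | o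
        · exact CfsgLib.Invol.ne_one ht o
        · rw [o, orderOf_one] at hy; norm_num at hy
      · have e : y ^ (j + 1) = 1 := orderOf_dvd_iff_zpow_eq_one.1 (by rw [hy]; exact_mod_cast h5)
        rw [← hj]
        exact eq_inv_of_mul_eq_one_left (by rw [← zpow_add_one, e])
    -- lift to the group
    obtain ⟨t0, rfl⟩ := QuotientGroup.mk'_surjective _ t
    obtain ⟨y0, rfl⟩ := QuotientGroup.mk'_surjective _ y
    have hUp : IsPGroup 2 (U.subgroupOf N) := fun x => ⟨1, Subtype.ext (Subtype.ext (by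
      rw [pow_one, pow_two]; exact h.exp_U _ (mem_subgroupOf.1 x.2)))⟩
    have hy05 : orderOf y0 = 5 := by
      have hd := orderOf_map_dvd (QuotientGroup.mk' (U.subgroupOf N)) y0
      rw [hy] at hd
      rcases (hs.subgroup N).cases y0 with e | e | e | e | e
      · rw [e, map_one, orderOf_one] at hy; norm_num at hy
      all_goals first | exact e | (rw [e] at hd; norm_num at hd)
    have hf := (hs.subgroup N).fpf Nat.prime_two hUp (x := y0⁻¹)
      (fun e => by rw [inv_eq_one] at e; rw [e, orderOf_one] at hy05; norm_num at hy05)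
      (by rw [orderOf_inv, hy05]; norm_num)
    have hmem : (y0⁻¹)⁻¹ * (t0 * y0 * t0⁻¹) ∈ U.subgroupOf N := by
      rw [inv_inv, ← QuotientGroup.eq_one_iff, ← QuotientGroup.mk'_apply, map_mul, map_mul, map_mul, map_inv,
        hinv, mul_inv_cancel]
    obtain ⟨c, hc, hce⟩ := exists_conj_of_fpf hf hmem
    rw [mul_inv_cancel_left] at hce
    have hct : c * t0 * y0 * (c * t0)⁻¹ = y0⁻¹ := by
      rw [show c * t0 * y0 * (c * t0)⁻¹ = c * (t0 * y0 * t0⁻¹) * c⁻¹ by group, ← hce]; group
    have hsq : c * t0 * (c * t0) = 1 := by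
      have hUc : QuotientGroup.mk' (U.subgroupOf N) c = 1 := (QuotientGroup.eq_one_iff c).2 hc
      have hmem2 : c * t0 * (c * t0) ∈ U.subgroupOf N := by
        rw [← QuotientGroup.eq_one_iff, ← QuotientGroup.mk'_apply]
        simp only [map_mul, hUc, one_mul, CfsgLib.Invol.mul_self_eq_one ht]
      have hcy : Commute y0 (c * t0 * (c * t0)) := by
        have e : (c * t0 * (c * t0)) * y0 * (c * t0 * (c * t0))⁻¹ = y0 := by
          calc _ = c * t0 * (c * t0 * y0 * (c * t0)⁻¹) * (c * t0)⁻¹ := by group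
            _ = c * t0 * y0⁻¹ * (c * t0)⁻¹ := by rw [hct]
            _ = (c * t0 * y0 * (c * t0)⁻¹)⁻¹ := by group
            _ = y0 := by rw [hct, inv_inv]
        exact (mul_inv_eq_iff_eq_mul.1 e).symm
      exact (hs.subgroup N).fpf Nat.prime_two hUp (x := y0)
        (fun e => by rw [e, orderOf_one] at hy05; norm_num at hy05) (by rw [hy05]; norm_num) _ hmem2 hcy
    refine ⟨y0, c * t0, by rw [Subgroup.orderOf_coe, hy05], ?_, by exact_mod_cast congrArg Subtype.val hct⟩
    have : orderOf (c * t0) = 2 := CfsgLib.Invol.orderOf_eq_two hsq fun e => by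
      have := congrArg (QuotientGroup.mk' (U.subgroupOf N)) e
      rw [map_mul, map_one, show QuotientGroup.mk' (U.subgroupOf N) c = 1 from (QuotientGroup.eq_one_iff c).2 hc,
        one_mul] at this
      exact CfsgLib.Invol.ne_one ht this
    rw [← Subgroup.coe_mul, Subgroup.orderOf_coe, this]

end CfsgLib.SpecFive
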