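import Cfsg.Agent.SpecFive.Count
import Cfsg.Agent.SpecFive.Arith
import Cfsg.Agent.Invol.StrongEmbedded

/-!
Simple groups with element orders at most five have order `60` or `360`.
-/

set_option autoImplicit false
set_option linter.unusedSectionVars false
set_option linter.unusedFintypeInType false

namespace CfsgLib.SpecFive

open Subgroup

variable {G : Type*} [Group G] [Finite G]

/-- A count which is invariant under conjugation. -/
theorem card_conj_inv {α : Type*} [Finite α] (e : G → α ≃ α) (R : G → α → Prop)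
    (hR : ∀ g z a, R (g * z * g⁻¹) (e g a) ↔ R z a) {z y : G} (h : IsConj z y) :
    Nat.card {a // R z a} = Nat.card {a // R y a} := by
  obtain ⟨g, rfl⟩ := isConj_iff.1 h
  exact Nat.card_congr ((e g).subtypeEquiv fun a => (hR g z a).symm)

theorem card_class_mul (z : G) :
    Nat.card {y : G // IsConj z y} * Nat.card (centralizer ({z} : Set G)) = Nat.card G := by
  have h1 : Nat.card {y : G // IsConj z y} = (centralizer ({z} : Set G)).index := by
    rw [index_eq_card]
    symm
    let f : G ⧸ centralizer ({z} : Set G) → {y : G // IsConj z y} := fun c =>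
      ⟨c.out * z * c.out⁻¹, isConj_iff.2 ⟨c.out, rfl⟩⟩
    refine Nat.card_congr (Equiv.ofBijective f ⟨fun c d e => ?_, fun y => ?_⟩)
    · have e' : c.out * z * c.out⁻¹ = d.out * z * d.out⁻¹ := congrArg Subtype.val e
      rw [← c.out_eq, ← d.out_eq, QuotientGroup.eq, mem_centralizer_singleton_iff]
      calc c.out⁻¹ * d.out * z = c.out⁻¹ * (d.out * z * d.out⁻¹) * d.out := by group
        _ = z * (c.out⁻¹ * d.out) := by rw [← e']; group
    · obtain ⟨g, hg⟩ := isConj_iff.1 y.2
      refine ⟨QuotientGroup.mk g, Subtype.ext ?_⟩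
      obtain ⟨c, hc⟩ := QuotientGroup.mk_out_eq_mul (centralizer ({z} : Set G)) g
      show (QuotientGroup.mk g : G ⧸ centralizer ({z} : Set G)).out * z *
        (QuotientGroup.mk g : G ⧸ centralizer ({z} : Set G)).out⁻¹ = y.1
      rw [hc, ← hg]
      have hc' := mem_centralizer_singleton_iff.1 c.2
      calc g * (c : G) * z * (g * c)⁻¹ = g * ((c : G) * z) * (c : G)⁻¹ * g⁻¹ := by group
        _ = g * (z * c) * (c : G)⁻¹ * g⁻¹ := by rw [hc']
        _ = g * z * g⁻¹ := by group
  rw [h1, mul_comm, card_mul_index]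

/-- The pairs of involutions attached to an involution `z`. -/
abbrev PairsAt (z : G) : Type _ := {p : G × G // orderOf p.1 = 2 ∧ orderOf p.2 = 2 ∧ Pw z (p.1 * p.2)}

theorem Pw.invol_mem {z : G} {s r : G} (hs : orderOf s = 2) (hr : orderOf r = 2) (h : Pw z (s * r)) :
    Commute s z ∧ Commute r z := by
  have hz : z * z = 1 := CfsgLib.Invol.mul_self_eq_one h.invol
  have hs2 := CfsgLib.Invol.mul_self_eq_one hs
  have hr2 := CfsgLib.Invol.mul_self_eq_one hr
  have hc : s * z * s⁻¹ = z := by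
    rcases h with ⟨-, h2⟩ | ⟨-, h2⟩ <;> rw [← h2]
    · rw [← h2] at hz
      calc s * (s * r) * s⁻¹ = (s * s) * (r * s⁻¹) := by group
        _ = r * s := by rw [hs2, one_mul, inv_eq_of_mul_eq_one_right hs2]
        _ = (s * r)⁻¹ := by
          rw [_root_.mul_inv_rev, inv_eq_of_mul_eq_one_right hr2, inv_eq_of_mul_eq_one_right hs2]
        _ = s * r := inv_eq_of_mul_eq_one_right hz
    · rw [← h2] at hz
      calc s * (s * r * (s * r)) * s⁻¹ = (s * s) * (r * s * r) * s⁻¹ := by group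
        _ = r * s * r * s := by rw [hs2, one_mul, inv_eq_of_mul_eq_one_right hs2]
        _ = ((s * r) * (s * r))⁻¹ := by
          rw [_root_.mul_inv_rev, _root_.mul_inv_rev, inv_eq_of_mul_eq_one_right hr2, inv_eq_of_mul_eq_one_right hs2]
          group
        _ = s * r * (s * r) := inv_eq_of_mul_eq_one_right hz
  have hcs : Commute s z := mul_inv_eq_iff_eq_mul.1 hc
  refine ⟨hcs, ?_⟩
  have : r = s * (s * r) := by rw [← mul_assoc, hs2, one_mul]
  rw [this]
  exact hcs.mul_left h.commute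

theorem prime_dvd_simple [IsSimpleGroup G] (hnc : ¬ IsMulCommutative G) (hs : Small G) (p : ℕ)
    (hp : p = 2 ∨ p = 3 ∨ p = 5) : p ∣ Nat.card G := by
  have hns : ¬ Group.IsSolvable G := fun h =>
    hnc ⟨⟨fun a b => (IsSimpleGroup.comm_iff_isSolvable.2 h) a b⟩⟩
  have get : ∀ a b : ℕ, (∀ r, (r = 2 ∨ r = 3 ∨ r = 5) → r ≠ a → r ≠ b → r = p) → p ∣ Nat.card G := by
    intro a b hab
    obtain ⟨r, hr, hrd, hra, hrb⟩ := CfsgLib.EPPO.exists_third_prime hns a b
    exact hab r (hs.prime_cases hr hrd) hra hrb ▸ hrd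
  rcases hp with rfl | rfl | rfl
  · exact get 3 5 (by omega)
  · exact get 2 5 (by omega)
  · exact get 2 3 (by omega)

/-- The two counting equations, one class of involutions. -/
theorem Small.equations (hs : Small G) {T : Subgroup G} (hT : IsSyl ⊤ T) (h3 : 3 ∣ Nat.card G) (h5 : 5 ∣ Nat.card G)
    {z : G} (hz : orderOf z = 2) (hzT : centralizer ({z} : Set G) = T) (hconj : ∀ y : G, orderOf y = 2 → IsConj z y) :
    ∃ u v k3 k5 : ℕ, 1 ≤ u ∧ 1 ≤ v ∧ (k3 = 1 ∨ k3 = 2 ∨ k3 = 4 ∨ k3 = 8 ∨ k3 = 5) ∧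
      (k5 = 1 ∨ k5 = 2 ∨ k5 = 4 ∨ k5 = 8 ∨ k5 = 3) ∧ Nat.card G = Nat.card T * (3 ^ u * 5 ^ v) ∧
      ((3 : ℚ) ^ u * 5 ^ v = 1 + (Nat.card (PairsAt z) : ℚ) + (Nat.card T : ℚ) *
        (Arith.ev k3 * (((3 : ℚ) ^ u - 1) / k3) + Arith.ev k5 * (((5 : ℚ) ^ v - 1) / k5))) ∧
      ((Nat.card T : ℚ) * ((3 : ℚ) ^ u * 5 ^ v) = 1 + (3 : ℚ) ^ u * 5 ^ v * (Nat.card {x : G // Pw z x} : ℚ) +
        (Nat.card T : ℚ) * ((5 : ℚ) ^ v * (((3 : ℚ) ^ u - 1) / k3) + (3 : ℚ) ^ u * (((5 : ℚ) ^ v - 1) / k5))) ∧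
      (2 ∣ k5 ↔ ∃ x s : G, orderOf x = 5 ∧ orderOf s = 2 ∧ s * x * s⁻¹ = x⁻¹) := by
  classical
  haveI : Fact (Nat.Prime 3) := ⟨Nat.prime_three⟩
  haveI : Fact (Nat.Prime 5) := ⟨Nat.prime_five⟩
  obtain ⟨u, k3, hu, hk3, h3m, h3e, h3o, hPc⟩ := hs.odd_data (p := 3) (Or.inl rfl) h3
  obtain ⟨v, k5, hv, hk5, h5m, h5e, h5o, hQc⟩ := hs.odd_data (p := 5) (Or.inr rfl) h5
  obtain ⟨P⟩ : Nonempty (Sylow 3 G) := inferInstance
  obtain ⟨Q⟩ : Nonempty (Sylow 5 G) := inferInstance
  obtain ⟨S, hS⟩ := exists_sylow_of_isSyl hT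
  have hGc : Nat.card G = Nat.card T * (3 ^ u * 5 ^ v) := by
    have hu' : u = (Nat.card G).factorization 3 :=
      Nat.pow_right_injective (le_refl 2 |>.trans (by norm_num)) ((hPc P).symm.trans P.card_eq_multiplicity)
    have hv' : v = (Nat.card G).factorization 5 :=
      Nat.pow_right_injective (le_refl 2 |>.trans (by norm_num)) ((hQc Q).symm.trans Q.card_eq_multiplicity)
    have hT' : Nat.card T = 2 ^ (Nat.card G).factorization 2 := by
      rw [← hS, ← Nat.card_congr ((S : Subgroup (⊤ : Subgroup G)).equivMapOfInjective _ (Subgroup.subtype_injective _)).toEquiv,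
        S.card_eq_multiplicity, card_top]
    have hsupp : (Nat.card G).primeFactors ⊆ {2, 3, 5} := fun r hr => by
      have := hs.prime_cases (Nat.prime_of_mem_primeFactors hr) (Nat.dvd_of_mem_primeFactors hr)
      simpa using this
    rw [hT', hu', hv']
    conv_lhs => rw [← Nat.prod_factorization_pow_eq_self (Nat.card_pos (α := G)).ne']
    rw [Finsupp.prod_of_support_subset _ (s := {2, 3, 5}) (by rwa [Nat.support_factorization]) _ (by simp)]
    simp [mul_assoc]
  obtain ⟨c1, c2⟩ := hs.counts z hz hconj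
  set i := Nat.card {s : G // orderOf s = 2} with hi
  set X := 3 ^ u * 5 ^ v with hX
  have hTpos : 0 < Nat.card T := Nat.card_pos
  have hiX : i = X := by
    have h := card_class_mul z
    rw [hzT, hGc] at h
    have he : Nat.card {y : G // IsConj z y} = i := Nat.card_congr (Equiv.subtypeEquivRight fun y => by
      constructor
      · intro hy
        obtain ⟨g, rfl⟩ := isConj_iff.1 hy
        rwa [CfsgLib.Invol.orderOf_conj_eq]
      · exact hconj y)
    rw [he, mul_comm] at h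
    exact Nat.eq_of_mul_eq_mul_left hTpos h
  set O3 := Nat.card {x : G // orderOf x = 3}
  set O5 := Nat.card {x : G // orderOf x = 5}
  have hsig : ∀ p : ℕ, ∀ c : ℕ, (∀ x : G, orderOf x = p → Nat.card {s : G // orderOf s = 2 ∧ s * x * s⁻¹ = x⁻¹} = c) →
      Nat.card {w : G × G // orderOf w.2 = p ∧ orderOf w.1 = 2 ∧ w.1 * w.2 * w.1⁻¹ = w.2⁻¹} =
        Nat.card {x : G // orderOf x = p} * c := by
    intro p c hc
    haveI : Fintype G := Fintype.ofFinite G
    let e : {w : G × G // orderOf w.2 = p ∧ orderOf w.1 = 2 ∧ w.1 * w.2 * w.1⁻¹ = w.2⁻¹} ≃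
        Σ x : {x : G // orderOf x = p}, {s : G // orderOf s = 2 ∧ s * x.1 * s⁻¹ = x.1⁻¹} :=
      { toFun := fun w => ⟨⟨w.1.2, w.2.1⟩, ⟨w.1.1, w.2.2⟩⟩
        invFun := fun w => ⟨(w.2.1, w.1.1), w.1.2, w.2.2⟩
        left_inv := fun w => rfl
        right_inv := fun w => rfl }
    rw [Nat.card_congr e, Nat.card_sigma, Finset.sum_congr rfl (fun x _ => hc x.1 x.2), Finset.sum_const,
      Finset.card_univ, smul_eq_mul, Nat.card_eq_fintype_card (α := {x : G // orderOf x = p})]
  have hXq : (X : ℚ) = (3 : ℚ) ^ u * 5 ^ v := by rw [hX]; push_cast; ring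
  have hXne : (X : ℚ) ≠ 0 := by rw [hXq]; positivity
  have hGq : (Nat.card G : ℚ) = (Nat.card T : ℚ) * (X : ℚ) := by rw [hGc]; push_cast; ring
  have hk3pos : (k3 : ℚ) ≠ 0 := Nat.cast_ne_zero.2 (by omega)
  have hk5pos : (k5 : ℚ) ≠ 0 := Nat.cast_ne_zero.2 (by omega)
  have q3 : (O3 : ℚ) = (Nat.card T : ℚ) * (5 : ℚ) ^ v * (((3 : ℚ) ^ u - 1) / k3) := by
    have h := congrArg (Nat.cast : ℕ → ℚ) h3m
    push_cast [Nat.cast_sub (Nat.one_le_pow u 3 (by norm_num))] at h
    rw [hGq, hXq] at h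
    field_simp
    have hp : (3 : ℚ) ^ u ≠ 0 := by positivity
    apply mul_left_cancel₀ hp
    linear_combination h
  have q5 : (O5 : ℚ) = (Nat.card T : ℚ) * (3 : ℚ) ^ u * (((5 : ℚ) ^ v - 1) / k5) := by
    have h := congrArg (Nat.cast : ℕ → ℚ) h5m
    push_cast [Nat.cast_sub (Nat.one_le_pow v 5 (by norm_num))] at h
    rw [hGq, hXq] at h
    field_simp
    have hp : (5 : ℚ) ^ v ≠ 0 := by positivity
    apply mul_left_cancel₀ hp
    linear_combination h
  have s3 : (Nat.card {w : G × G // orderOf w.2 = 3 ∧ orderOf w.1 = 2 ∧ w.1 * w.2 * w.1⁻¹ = w.2⁻¹} : ℚ) =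
      (X : ℚ) * ((Nat.card T : ℚ) * (Arith.ev k3 * (((3 : ℚ) ^ u - 1) / k3))) := by
    by_cases h : 2 ∣ k3
    · rw [hsig 3 _ (h3e h), Nat.cast_mul, q3, hXq, Arith.ev, if_pos h]; push_cast; ring
    · rw [hsig 3 _ (h3o h), Arith.ev, if_neg h]; simp
  have s5 : (Nat.card {w : G × G // orderOf w.2 = 5 ∧ orderOf w.1 = 2 ∧ w.1 * w.2 * w.1⁻¹ = w.2⁻¹} : ℚ) =
      (X : ℚ) * ((Nat.card T : ℚ) * (Arith.ev k5 * (((5 : ℚ) ^ v - 1) / k5))) := by
    by_cases h : 2 ∣ k5
    · rw [hsig 5 _ (h5e h), Nat.cast_mul, q5, hXq, Arith.ev, if_pos h]; push_cast; ring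
    · rw [hsig 5 _ (h5o h), Arith.ev, if_neg h]; simp
  refine ⟨u, v, k3, k5, hu, hv, by omega, by omega, hGc, ?_, ?_, ?_⟩
  · have h := congrArg (Nat.cast : ℕ → ℚ) c1
    push_cast at h
    rw [hiX, s3, s5] at h
    rw [← hXq]
    apply mul_left_cancel₀ hXne
    linear_combination h
  · have h := congrArg (Nat.cast : ℕ → ℚ) c2
    push_cast at h
    rw [hiX, hGq, q3, q5] at h
    rw [← hXq]
    linear_combination h
  · constructor
    · intro h
      obtain ⟨x, hx⟩ := exists_prime_orderOf_dvd_card' 5 h5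
      have := h5e h x hx
      obtain ⟨⟨s, hs'⟩⟩ := (Nat.card_pos_iff.1 (this ▸ pow_pos (by norm_num) v)).1
      exact ⟨x, s, hx, hs'⟩
    · rintro ⟨x, s, hx, hs', hsx⟩
      by_contra h
      have := h5o h x hx
      rw [Nat.card_eq_zero] at this
      rcases this with e | e
      · exact e.false ⟨s, hs', hsx⟩
      · exact not_finite {s : G // orderOf s = 2 ∧ s * x * s⁻¹ = x⁻¹}

/-- A strongly embedded subgroup: order `60`. -/
theorem card_of_noOff [IsSimpleGroup G] (hnc : ¬ IsMulCommutative G) (hs : Small G) (hb : Below G)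
    (hno : NoOff G) : Nat.card G = 60 := by
  classical
  have h2 := prime_dvd_simple hnc hs 2 (Or.inl rfl)
  obtain ⟨P⟩ : Nonempty (Sylow 2 (⊤ : Subgroup G)) := inferInstance
  set T := (P : Subgroup (⊤ : Subgroup G)).map (⊤ : Subgroup G).subtype with hTdef
  have hT : IsSyl ⊤ T := isSyl_of_sylow P
  have hT1 : T ≠ ⊥ := by
    intro e
    obtain ⟨x, hx⟩ := exists_prime_orderOf_dvd_card' 2 h2
    obtain ⟨S, hS, hxS⟩ := exists_isSyl (L := ⊤) (R := zpowers x) le_top
      (IsPGroup.of_card (n := 1) (by rw [Nat.card_zpowers, hx, pow_one]))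
    have := hT.card_eq hS
    rw [e, Subgroup.card_bot, card_eq_one] at this
    have hx1 : x ∈ S := hxS (mem_zpowers x)
    rw [this, mem_bot] at hx1
    rw [hx1, orderOf_one] at hx
    omega
  obtain ⟨hSE, hrad, hN⟩ := stronglyEmbedded_of_noOff hno hnc hT hT1
  set H := normalizer ((J T : Subgroup G) : Set G)
  set U := twoCore H with hU
  have hTH : T ≤ H := le_normalizer.trans (le_normalizer_J T)
  have hsylH : IsSyl H T := ⟨hTH, hT.2.1, fun R _ hR hle => hT.2.2 R le_top hR hle⟩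
  have hinvU : ∀ t ∈ H, orderOf t = 2 → t ∈ U := by
    intro t ht ht2
    obtain ⟨n, hn⟩ := hrad.1.exists_card_eq
    have hn0 : n ≠ 0 := fun e => hrad.2.1 (card_eq_one.1 (by rw [hn, e, pow_zero]))
    obtain ⟨x, hx⟩ := exists_prime_orderOf_dvd_card' (G := U) 2 (hn ▸ dvd_pow_self 2 hn0)
    rw [← Subgroup.orderOf_coe] at hx
    obtain ⟨g, hg⟩ := isConj_iff.1 (CfsgLib.StrongEmbed.isConj_of_invols hSE hx ht2)
    have hxH : (x : G) ∈ H := hN ▸ le_normalizer x.2
    have hgH : g ∈ H := by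
      have h' := CfsgLib.StrongEmbed.mem_of_conj_mem hSE hxH hx (g := g⁻¹) (by rw [inv_inv, hg]; exact ht)
      simpa using inv_mem h'
    rw [← hg]
    exact (mem_normalizer_iff.1 (le_normalizer_twoCore H hgH) x).1 x.2
  have hTU : U = T := by
    refine eq_of_le_of_card_ge (twoCore_le_syl hsylH) ?_
    haveI hUn : (U.subgroupOf (normalizer (U : Set G))).Normal := normal_in_normalizer
    have hR := hrad.radical hs hb
    by_contra hlt
    push Not at hlt
    have hev : 2 ∣ Nat.card ((normalizer (U : Set G)) ⧸ U.subgroupOf (normalizer (U : Set G))) := by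
      obtain ⟨n, hn⟩ := hrad.1.exists_card_eq
      obtain ⟨m, hm⟩ := hT.2.1.exists_card_eq
      have hnm : n < m := by
        rw [hn, hm] at hlt
        exact (Nat.pow_lt_pow_iff_right (by norm_num)).1 hlt
      have hd : 2 ^ (n + 1) ∣ Nat.card (normalizer (U : Set G)) :=
        (Nat.pow_dvd_pow 2 hnm).trans (hm ▸ card_dvd_of_le (hN.symm ▸ hTH : T ≤ normalizer (U : Set G)))
      rw [card_eq_card_quotient_mul_card_subgroup (U.subgroupOf (normalizer (U : Set G))),
        Nat.card_congr (subgroupOfEquivOfLe (le_normalizer (H := U))).toEquiv, hn, pow_succ, mul_comm _ (2 : ℕ)] at hd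
      exact Nat.dvd_of_mul_dvd_mul_right (Nat.two_pow_pos n) hd
    obtain ⟨a, ha⟩ := exists_prime_orderOf_dvd_card' 2 hev
    obtain ⟨y, hy⟩ := hR.exists_odd_product ha
    have hinv : a * (a * (y * a * y⁻¹)) * a⁻¹ = (a * (y * a * y⁻¹))⁻¹ := by
      have ha2 := CfsgLib.Invol.mul_self_eq_one ha
      rw [← mul_assoc, ha2, one_mul, _root_.mul_inv_rev, _root_.mul_inv_rev, _root_.mul_inv_rev, inv_inv,
        inv_eq_of_mul_eq_one_right ha2]
      group
    obtain ⟨p, hp, hpy⟩ : ∃ p, (p = 3 ∨ p = 5) ∧ orderOf (a * (y * a * y⁻¹)) = p := by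
      rcases hy with e | e
      · exact ⟨3, Or.inl rfl, e⟩
      · exact ⟨5, Or.inr rfl, e⟩
    obtain ⟨b, -, hb, hbU, -, -, -, -⟩ := hR.exists_lift hp ha hpy hinv
    refine hbU (mem_subgroupOf.2 (hinvU b ?_ (by rw [Subgroup.orderOf_coe]; exact hb)))
    exact hN ▸ b.2
  have hHN : normalizer (T : Set G) = H := by rw [← hTU]; exact hN
  -- all involutions of `T` are central in it
  haveI : Nontrivial T := (nontrivial_iff_ne_bot T).2 hT1
  haveI := hT.2.1.center_nontrivial
  obtain ⟨n, hn⟩ := hT.2.1.exists_card_eq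
  obtain ⟨m, hm⟩ := (hT.2.1.to_subgroup (center T)).exists_card_eq
  have hm0 : m ≠ 0 := fun e => by
    rw [e, pow_zero] at hm
    have := Finite.one_lt_card_iff_nontrivial.2 (inferInstance : Nontrivial (center T))
    omega
  obtain ⟨z₀, hz₀⟩ := exists_prime_orderOf_dvd_card' (G := center T) 2 (hm ▸ dvd_pow_self 2 hm0)
  set z : G := ((z₀ : T) : G) with hzdef
  have hz : orderOf z = 2 := by rw [hzdef, Subgroup.orderOf_coe, Subgroup.orderOf_coe, hz₀]
  have hzT : z ∈ T := (z₀ : T).2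
  have hcent : ∀ w ∈ T, orderOf w = 2 → centralizer ({w} : Set G) = T := by
    intro w hw hw2
    obtain ⟨g, hg⟩ := isConj_iff.1 (CfsgLib.StrongEmbed.isConj_of_invols hSE hz hw2)
    have hgH : g ∈ H := by
      have h' := CfsgLib.StrongEmbed.mem_of_conj_mem hSE (hTH hzT) hz (g := g⁻¹) (by rw [inv_inv, hg]; exact hTH hw)
      simpa using inv_mem h'
    have hgT : conjS g T = T := conjS_eq_of_mem_normalizer (hHN.symm ▸ hgH)
    have hC : IsPGroup 2 (centralizer ({w} : Set G)) := hs.isPGroup_of_centralizes Nat.prime_two hw2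
      (fun y hy => (mem_centralizer_singleton_iff.1 hy).symm)
    refine hT.2.2 _ le_top hC fun t ht => mem_centralizer_singleton_iff.2 ?_
    obtain ⟨t', ht', rfl⟩ := hgT.ge ht
    simp only [MulEquiv.coe_toMonoidHom, MulAut.conj_apply]
    rw [← hg]
    have hc : t' * z = z * t' := congrArg Subtype.val (mem_center_iff.1 z₀.2 ⟨t', ht'⟩)
    calc g * t' * g⁻¹ * (g * z * g⁻¹) = g * (t' * z) * g⁻¹ := by group
      _ = g * (z * t') * g⁻¹ := by rw [hc]
      _ = _ := by group
  have hconj : ∀ y : G, orderOf y = 2 → IsConj z y := fun y hy => CfsgLib.StrongEmbed.isConj_of_invols hSE hz hy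
  obtain ⟨u, v, k3, k5, hu, hv, hk3, hk5, hG, e1, e2, -⟩ := hs.equations hT
    (prime_dvd_simple hnc hs 3 (Or.inr (Or.inl rfl))) (prime_dvd_simple hnc hs 5 (Or.inr (Or.inr rfl))) hz
    (hcent z hzT hz) hconj
  let Ω := {w : G // w ∈ T ∧ orderOf w = 2}
  set j := Nat.card Ω with hj
  have hzΩ : (⟨z, hzT, hz⟩ : Ω) = (⟨z, hzT, hz⟩ : Ω) := rfl
  have hpairs : Nat.card (PairsAt z) = j - 1 := by
    have e : Nat.card (PairsAt z) = Nat.card {w : Ω // w ≠ ⟨z, hzT, hz⟩} := by
      refine Nat.card_congr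
        { toFun := fun p => ⟨⟨p.1.1, ?_, p.2.1⟩, ?_⟩
          invFun := fun w => ⟨(w.1.1, w.1.1 * z), w.1.2.2, ?_, ?_⟩
          left_inv := fun p => ?_
          right_inv := fun w => Subtype.ext (Subtype.ext rfl) }
      · obtain ⟨h1, -⟩ := Pw.invol_mem p.2.1 p.2.2.1 p.2.2.2
        rw [← hcent z hzT hz]
        exact mem_centralizer_singleton_iff.2 h1.eq
      · intro e
        have e' : p.1.1 = z := congrArg (fun w : Ω => w.1) e
        rcases p.2.2.2 with ⟨-, h2⟩ | ⟨h4, -⟩
        · rw [e', mul_eq_left] at h2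
          exact CfsgLib.Invol.ne_one p.2.2.1 h2
        · obtain ⟨-, h1⟩ := Pw.invol_mem p.2.1 p.2.2.1 p.2.2.2
          rw [e'] at h4
          have : orderOf (z * p.1.2) ∣ 2 := by
            refine (h1.symm.orderOf_mul_dvd_lcm).trans ?_
            rw [hz, p.2.2.1]
            exact dvd_refl 2
          rw [h4] at this
          norm_num at this
      · refine CfsgLib.Invol.orderOf_eq_two ?_ ?_
        · have hc : Commute w.1.1 z := mem_centralizer_singleton_iff.1 ((hcent z hzT hz).ge w.1.2.1)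
          show w.1.1 * z * (w.1.1 * z) = 1
          rw [hc.symm.mul_mul_mul_comm, CfsgLib.Invol.mul_self_eq_one w.1.2.2, CfsgLib.Invol.mul_self_eq_one hz, one_mul]
        · intro e
          apply w.2
          apply Subtype.ext
          show w.1.1 = z
          rw [eq_inv_of_mul_eq_one_left e, CfsgLib.Invol.inv_eq_self hz]
      · refine Or.inl ⟨?_, ?_⟩ <;> rw [← mul_assoc, CfsgLib.Invol.mul_self_eq_one w.1.2.2, one_mul]
        exact hz
      · apply Subtype.ext
        refine Prod.ext rfl ?_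
        show p.1.1 * z = p.1.2
        obtain ⟨h1, h1'⟩ := Pw.invol_mem p.2.1 p.2.2.1 p.2.2.2
        rcases p.2.2.2 with ⟨-, h2⟩ | ⟨h4, -⟩
        · calc p.1.1 * z = p.1.1 * (p.1.1 * p.1.2) := by rw [h2]
            _ = p.1.2 := by rw [← mul_assoc, CfsgLib.Invol.mul_self_eq_one p.2.1, one_mul]
        · exfalso
          have hc : Commute p.1.1 p.1.2 := by
            have hs1 : p.1.1 ∈ T := (hcent z hzT hz).le (mem_centralizer_singleton_iff.2 h1.eq)
            have hs2 : p.1.2 ∈ T := (hcent z hzT hz).le (mem_centralizer_singleton_iff.2 h1'.eq)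
            exact mem_centralizer_singleton_iff.1 ((hcent _ hs2 p.2.2.1).ge hs1)
          have : orderOf (p.1.1 * p.1.2) ∣ 2 := by
            refine hc.orderOf_mul_dvd_lcm.trans ?_
            rw [p.2.1, p.2.2.1]
            exact dvd_refl 2
          rw [h4] at this
          norm_num at this
    rw [e]
    show Nat.card ↑{w : Ω | w ≠ ⟨z, hzT, hz⟩} = _
    rw [show {w : Ω | w ≠ ⟨z, hzT, hz⟩} = Set.univ \ {⟨z, hzT, hz⟩} by ext; simp, Nat.card_coe_set_eq,
      Set.ncard_sdiff_singleton_of_mem (Set.mem_univ _), Set.ncard_univ]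
  have hjpos : 0 < j := by
    haveI : Nonempty Ω := ⟨⟨z, hzT, hz⟩⟩
    exact Nat.card_pos
  set f := Nat.card {x : G // Pw z x} with hf
  have hfj : j * f = Nat.card T - 1 := by
    haveI : Fintype Ω := Fintype.ofFinite _
    let e : (Σ w : Ω, {x : G // Pw w.1 x}) → {x : T // x ≠ 1} := fun p =>
      ⟨⟨p.2.1, (hcent p.1.1 p.1.2.1 p.1.2.2).le (mem_centralizer_singleton_iff.2 p.2.2.commute.eq)⟩, fun h => by
        have h' : p.2.1 = 1 := congrArg Subtype.val h
        rcases p.2.2 with ⟨h2, -⟩ | ⟨h2, -⟩ <;> rw [h', orderOf_one] at h2 <;> omega⟩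
    have he : Function.Bijective e := by
      constructor
      · rintro ⟨w, x⟩ ⟨w', x'⟩ h
        have hx : x.1 = x'.1 := congrArg (fun y : {x : T // x ≠ 1} => (y.1 : G)) h
        have hw : w = w' := Subtype.ext (x.2.unique (hx ▸ x'.2))
        subst hw
        exact Sigma.ext rfl (heq_of_eq (Subtype.ext hx))
      · rintro ⟨⟨x, hx⟩, hx1⟩
        have hx1' : x ≠ 1 := fun h => hx1 (Subtype.ext h)
        obtain ⟨k, hk⟩ := hT.2.1 ⟨x, hx⟩
        have h4 := hs.pow_four (p := x) (k := k) (congrArg Subtype.val hk)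
        have hord : orderOf x = 2 ∨ orderOf x = 4 := by
          have := orderOf_dvd_of_pow_eq_one h4
          rcases hs.cases x with e | e | e | e | e
          · exact absurd e hx1'
          · exact Or.inl e
          · rw [e] at this; norm_num at this
          · exact Or.inr e
          · rw [e] at this; norm_num at this
        rcases hord with h | h
        · exact ⟨⟨⟨x, hx, h⟩, ⟨x, Or.inl ⟨h, rfl⟩⟩⟩, rfl⟩
        · refine ⟨⟨⟨x * x, mul_mem hx hx, ?_⟩, ⟨x, Or.inr ⟨h, rfl⟩⟩⟩, rfl⟩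
          rw [← pow_two, orderOf_pow' _ (by norm_num), h]; norm_num
    have hfib : ∀ w : Ω, Nat.card {x : G // Pw w.1 x} = f := fun w =>
      (card_conj_inv (fun g => (MulAut.conj g).toEquiv) Pw (fun g y a => pw_conj g) (hconj w.1 w.2.2)).symm
    rw [hj, Nat.card_eq_fintype_card (α := Ω), ← smul_eq_mul, ← Finset.card_univ, ← Finset.sum_const,
      ← Finset.sum_congr rfl (fun w _ => hfib w), ← Nat.card_sigma, Nat.card_congr (Equiv.ofBijective e he)]
    show Nat.card ↑{x : T | x ≠ 1} = _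
    rw [show {x : T | x ≠ 1} = Set.univ \ {1} by ext; simp, Nat.card_coe_set_eq,
      Set.ncard_sdiff_singleton_of_mem (Set.mem_univ _), Set.ncard_univ]
  -- the possible numbers of involutions
  let V : Subgroup G :=
    { carrier := {w | w ∈ T ∧ w * w = 1}
      mul_mem' := fun {a b} ha hb => ⟨mul_mem ha.1 hb.1, by
        by_cases hb1 : b = 1
        · rw [hb1, mul_one]; exact ha.2
        have hc : Commute a b :=
          mem_centralizer_singleton_iff.1 ((hcent b hb.1 (CfsgLib.Invol.orderOf_eq_two hb.2 hb1)).ge ha.1)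
        rw [hc.symm.mul_mul_mul_comm, ha.2, hb.2, one_mul]⟩
      one_mem' := ⟨one_mem _, one_mul 1⟩
      inv_mem' := fun {a} ha => by rw [inv_eq_of_mul_eq_one_right ha.2]; exact ha }
  obtain ⟨r, hr⟩ := (hT.2.1.to_le (fun w hw => hw.1 : V ≤ T)).exists_card_eq
  have hjr : j + 1 = 2 ^ r := by
    have h1 : j = Nat.card {w : V // w ≠ 1} := Nat.card_congr
      { toFun := fun w => ⟨⟨w.1, w.2.1, CfsgLib.Invol.mul_self_eq_one w.2.2⟩,
          fun e => CfsgLib.Invol.ne_one w.2.2 (congrArg Subtype.val e)⟩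
        invFun := fun w => ⟨w.1.1, w.1.2.1, CfsgLib.Invol.orderOf_eq_two w.1.2.2 fun e => w.2 (Subtype.ext e)⟩
        left_inv := fun w => rfl
        right_inv := fun w => rfl }
    have h2 : Nat.card {w : V // w ≠ 1} = Nat.card V - 1 := by
      show Nat.card ↑{w : V | w ≠ 1} = _
      rw [show {w : V | w ≠ 1} = Set.univ \ {1} by ext; simp, Nat.card_coe_set_eq,
        Set.ncard_sdiff_singleton_of_mem (Set.mem_univ _), Set.ncard_univ]
    have := Nat.card_pos (α := V)
    omega
  have hjdvd : j ∣ 1 ∨ j ∣ 3 ∨ j ∣ 5 := by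
    haveI : (T.subgroupOf H).Normal := by
      refine (normal_subgroupOf_iff_le_normalizer hTH).2 ?_
      rw [hHN]
    have hRad := hrad.radical hs hb
    have hjH : Nat.card Ω * Nat.card T = Nat.card H := by
      have hcl := card_class_mul (G := H) ⟨z, hTH hzT⟩
      have h1 : Nat.card {y : H // IsConj (⟨z, hTH hzT⟩ : H) y} = Nat.card Ω := Nat.card_congr
        { toFun := fun y => ⟨y.1, by
            obtain ⟨g, hg⟩ := isConj_iff.1 y.2
            rw [← hg]
            exact ⟨(mem_normalizer_iff.1 (hHN.symm ▸ g.2) z).1 hzT, by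
              simp only [Subgroup.coe_mul, Subgroup.coe_inv]; rw [CfsgLib.Invol.orderOf_conj_eq, hz]⟩⟩
          invFun := fun w => ⟨⟨w.1, hTH w.2.1⟩, by
            obtain ⟨g, hg⟩ := isConj_iff.1 (CfsgLib.StrongEmbed.isConj_of_invols hSE hz w.2.2)
            have hgH : g ∈ H := by
              have h' := CfsgLib.StrongEmbed.mem_of_conj_mem hSE (hTH hzT) hz (g := g⁻¹)
                (by rw [inv_inv, hg]; exact hTH w.2.1)
              simpa using inv_mem h'
            exact isConj_iff.2 ⟨⟨g, hgH⟩, Subtype.ext hg⟩⟩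
          left_inv := fun y => rfl
          right_inv := fun w => rfl }
      have h2 : Nat.card (centralizer ({(⟨z, hTH hzT⟩ : H)} : Set H)) = Nat.card T := by
        rw [← Nat.card_congr (subgroupOfEquivOfLe hTH).toEquiv]
        refine congrArg (fun K : Subgroup H => Nat.card K) ?_
        ext y
        rw [mem_centralizer_singleton_iff, mem_subgroupOf, ← hcent z hzT hz, mem_centralizer_singleton_iff]
        exact Subtype.ext_iff
      rwa [h1, h2] at hcl
    haveI hTn : (T.subgroupOf (normalizer (U : Set G))).Normal := by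
      rw [← hTU]; exact normal_in_normalizer
    have hRadT : Radical (normalizer (U : Set G)) (T.subgroupOf (normalizer (U : Set G))) := hTU ▸ hRad
    have hq : Nat.card ((normalizer (U : Set G)) ⧸ T.subgroupOf (normalizer (U : Set G))) = j := by
      have h := card_eq_card_quotient_mul_card_subgroup (T.subgroupOf (normalizer (U : Set G)))
      rw [Nat.card_congr (subgroupOfEquivOfLe (hTU ▸ le_normalizer : T ≤ normalizer (U : Set G))).toEquiv] at h
      have h' : Nat.card (normalizer (U : Set G)) = Nat.card H := by rw [hN]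
      rw [h', ← hjH] at h
      exact (Nat.eq_of_mul_eq_mul_right Nat.card_pos h).symm
    have hjodd : ¬ 2 ∣ j := fun h => by
      have : 2 ∣ j + 1 := by
        rw [hjr]
        exact dvd_pow_self 2 (fun e => by rw [e, pow_zero] at hjr; omega)
      omega
    have hshape := hRadT.quot_shape
    rw [hq] at hshape
    rcases hshape with e | e | ⟨e, -⟩ | ⟨e, -⟩
    · left; rw [e]
    · have hco : j.Coprime 2 := (Nat.prime_two.coprime_iff_not_dvd.2 hjodd).symm
      exact Or.inr (Or.inl (hco.dvd_of_dvd_mul_left (show j ∣ 2 * 3 by norm_num; exact e)))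
    · have hco : j.Coprime (2 ^ 2) := (Nat.prime_two.coprime_iff_not_dvd.2 hjodd).symm.pow_right 2
      exact Or.inr (Or.inr (hco.dvd_of_dvd_mul_left (show j ∣ 2 ^ 2 * 5 by norm_num; exact e)))
    · exact absurd ⟨30, e⟩ hjodd
  have hjval : j = 1 ∨ j = 3 := by
    rcases hjdvd with e | e | e
    · exact Or.inl (Nat.dvd_one.1 e)
    · exact (Nat.dvd_prime Nat.prime_three).1 e
    · rcases (Nat.dvd_prime Nat.prime_five).1 e with e' | e'
      · exact Or.inl e'
      · exfalso
        rw [e'] at hjr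
        rcases Nat.lt_or_ge r 3 with h | h
        · interval_cases r <;> norm_num at hjr
        · have : 2 ^ 3 ≤ 2 ^ r := Nat.pow_le_pow_right (by norm_num) h
          omega
  have hTpos : 1 ≤ Nat.card T := Nat.card_pos
  rcases hjval with hj1 | hj3
  · exfalso
    rw [hpairs, hj1] at e1
    rw [hj1, one_mul] at hfj
    rw [hfj, Nat.cast_sub hTpos] at e2
    push_cast at e1 e2
    have hTq : (Nat.card T : ℚ) ≠ 0 := Nat.cast_ne_zero.2 (by omega)
    refine Arith.one (k3 := k3) (k5 := k5) hu hv (by omega) (by omega) (mul_left_cancel₀ hTq ?_)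
    linear_combination (-1 : ℚ) * e2 + e1
  · rw [hpairs, hj3] at e1
    rw [hj3] at hfj
    have hf3 : (3 : ℚ) * f = (Nat.card T : ℚ) - 1 := by
      have := congrArg (Nat.cast : ℕ → ℚ) hfj
      push_cast [Nat.cast_sub hTpos] at this
      exact this
    push_cast at e1
    rw [hn] at e1 e2 hf3 hG
    push_cast at e1 e2 hf3
    have hTq : (2 : ℚ) ^ n ≠ 0 := by positivity
    obtain ⟨rfl, rfl, rfl⟩ := Arith.three (n := n) hu hv hk3 hk5 (by linear_combination e1) (mul_left_cancel₀ hTq (by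
      linear_combination (-3 : ℚ) * e2 + e1 - ((3 : ℚ) ^ u * 5 ^ v) * hf3))
    rw [hG]
    norm_num

end CfsgLib.SpecFive
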